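import Mathlib

set_option autoImplicit false
set_option linter.all false

namespace Cfsg.Agent.H16

/-- relations of the rank one Steinberg group -/
structure Stn {Γ K : Type*} [Group Γ] [Field K] (x y : K → Γ) : Prop where
  hx : ∀ t u, x (t + u) = x t * x u
  hy : ∀ t u, y (t + u) = y t * y u
  hw : ∀ t u, t ≠ 0 → (x t * y (-t⁻¹) * x t) * x u * (x t * y (-t⁻¹) * x t)⁻¹ = y (-(t⁻¹ ^ 2 * u))
  hw' : ∀ t u, t ≠ 0 → (y t * x (-t⁻¹) * y t) * y u * (y t * x (-t⁻¹) * y t)⁻¹ = x (-(t⁻¹ ^ 2 * u))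

namespace Stn

variable {Γ K : Type*} [Group Γ] [Field K] {x y : K → Γ}

def w (x y : K → Γ) (t : K) : Γ := x t * y (-t⁻¹) * x t
def h (x y : K → Γ) (t : K) : Γ := w x y t * (w x y 1)⁻¹

variable (S : Stn x y)
include S

lemma x0 : x 0 = 1 := by
  have := S.hx 0 0
  rw [add_zero] at this
  exact left_eq_mul.1 this

lemma y0 : y 0 = 1 := by
  have := S.hy 0 0
  rw [add_zero] at this
  exact left_eq_mul.1 this

lemma xneg (t : K) : x (-t) = (x t)⁻¹ := by
  have := S.hx (-t) t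
  rw [neg_add_cancel, S.x0] at this
  exact eq_inv_of_mul_eq_one_left this.symm

lemma yneg (t : K) : y (-t) = (y t)⁻¹ := by
  have := S.hy (-t) t
  rw [neg_add_cancel, S.y0] at this
  exact eq_inv_of_mul_eq_one_left this.symm

lemma wneg (t : K) : w x y (-t) = (w x y t)⁻¹ := by
  unfold w
  have : -(-t)⁻¹ = -(-t⁻¹) := by rw [inv_neg]
  rw [this, S.yneg (-t⁻¹), S.xneg]
  group

lemma w_eq {t : K} (ht : t ≠ 0) : w x y t = y (-t⁻¹) * x t * y (-t⁻¹) := by
  have h1 := S.hw t t ht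
  have e : -(t⁻¹ ^ 2 * t) = -t⁻¹ := by field_simp
  rw [e, mul_inv_eq_iff_eq_mul] at h1
  unfold w
  have h2 : x t * y (-t⁻¹) * x t * x t = (y (-t⁻¹) * x t * y (-t⁻¹)) * x t := by
    rw [h1]; group
  exact mul_right_cancel h2

lemma w_x {t : K} (ht : t ≠ 0) (u : K) : w x y t * x u * (w x y t)⁻¹ = y (-(t⁻¹ ^ 2 * u)) := S.hw t u ht

lemma w_y {t : K} (ht : t ≠ 0) (u : K) : w x y t * y u * (w x y t)⁻¹ = x (-(t ^ 2 * u)) := by
  have h1 := S.hw' (-t⁻¹) u (neg_ne_zero.2 (inv_ne_zero ht))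
  have e1 : -(-t⁻¹)⁻¹ = t := by rw [inv_neg, neg_neg, inv_inv]
  have e2 : -((-t⁻¹)⁻¹ ^ 2 * u) = -(t ^ 2 * u) := by rw [inv_neg, inv_inv, neg_sq]
  rw [e1, e2, ← S.w_eq ht] at h1
  exact h1

lemma winv_x (u : K) : (w x y 1)⁻¹ * x u * w x y 1 = y (-u) := by
  have h1 := S.w_x (t := -1) (neg_ne_zero.2 one_ne_zero) u
  rw [S.wneg 1, inv_inv] at h1
  rw [h1]
  congr 1
  rw [inv_neg, neg_sq]; simp

lemma winv_y (u : K) : (w x y 1)⁻¹ * y u * w x y 1 = x (-u) := by
  have h1 := S.w_y (t := -1) (neg_ne_zero.2 one_ne_zero) u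
  rw [S.wneg 1, inv_inv] at h1
  rw [h1]
  congr 1
  rw [neg_sq]; simp

lemma h_x {t : K} (ht : t ≠ 0) (u : K) : h x y t * x u * (h x y t)⁻¹ = x (t ^ 2 * u) := by
  unfold h
  have e : w x y t * (w x y 1)⁻¹ * x u * (w x y t * (w x y 1)⁻¹)⁻¹ = w x y t * ((w x y 1)⁻¹ * x u * w x y 1) * (w x y t)⁻¹ := by group
  rw [e, S.winv_x, S.w_y ht]
  congr 1; ring

lemma h_y {t : K} (ht : t ≠ 0) (u : K) : h x y t * y u * (h x y t)⁻¹ = y (t⁻¹ ^ 2 * u) := by
  unfold h
  have e : w x y t * (w x y 1)⁻¹ * y u * (w x y t * (w x y 1)⁻¹)⁻¹ = w x y t * ((w x y 1)⁻¹ * y u * w x y 1) * (w x y t)⁻¹ := by group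
  rw [e, S.winv_y, S.w_x ht]
  congr 1; ring

lemma w_w {t u : K} (ht : t ≠ 0) (hu : u ≠ 0) : w x y t * w x y u * (w x y t)⁻¹ = w x y (t ^ 2 * u⁻¹) := by
  have e : w x y t * w x y u * (w x y t)⁻¹ = (w x y t * x u * (w x y t)⁻¹) * (w x y t * y (-u⁻¹) * (w x y t)⁻¹) * (w x y t * x u * (w x y t)⁻¹) := by
    conv_lhs => rw [show w x y u = x u * y (-u⁻¹) * x u from rfl]
    group
  have k1 : -(t⁻¹ ^ 2 * u) = -(t ^ 2 * u⁻¹)⁻¹ := by field_simp
  have k2 : -(t ^ 2 * -u⁻¹) = t ^ 2 * u⁻¹ := by ring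
  rw [e, S.w_x ht, S.w_y ht, S.w_eq (mul_ne_zero (pow_ne_zero 2 ht) (inv_ne_zero hu)), k1, k2]

lemma h_w {t u : K} (ht : t ≠ 0) (hu : u ≠ 0) : h x y t * w x y u * (h x y t)⁻¹ = w x y (t ^ 2 * u) := by
  have e : h x y t * w x y u * (h x y t)⁻¹ = (h x y t * x u * (h x y t)⁻¹) * (h x y t * y (-u⁻¹) * (h x y t)⁻¹) * (h x y t * x u * (h x y t)⁻¹) := by
    conv_lhs => rw [show w x y u = x u * y (-u⁻¹) * x u from rfl]
    group
  rw [e, S.h_x ht, S.h_y ht]
  unfold w
  congr 2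
  congr 1
  field_simp

lemma w_h {u : K} (hu : u ≠ 0) : w x y 1 * h x y u * (w x y 1)⁻¹ = h x y u⁻¹ := by
  unfold h
  have e : w x y 1 * (w x y u * (w x y 1)⁻¹) * (w x y 1)⁻¹ = (w x y 1 * w x y u * (w x y 1)⁻¹) * (w x y 1)⁻¹ := by group
  rw [e, S.w_w one_ne_zero hu]
  congr 2; ring

lemma h1 : h x y 1 = 1 := by unfold h; group

lemma h_neg_one : h x y (-1) = (w x y 1)⁻¹ * (w x y 1)⁻¹ := by
  unfold h; rw [S.wneg]

/-- the generating condition -/
lemma central_of_comm (hgen : Subgroup.closure (Set.range x ∪ Set.range y) = ⊤) {z : Γ} (hzx : ∀ u, z * x u * z⁻¹ = x u) (hzy : ∀ u, z * y u * z⁻¹ = y u) :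
    z ∈ Subgroup.center Γ := by
  rw [Subgroup.mem_center_iff]
  have : ∀ g ∈ Subgroup.closure (Set.range x ∪ Set.range y), g ∈ Subgroup.centralizer ({z} : Set Γ) := by
    intro g hg
    refine (Subgroup.closure_le _).2 ?_ hg
    rintro _ (⟨u, rfl⟩ | ⟨u, rfl⟩)
    · show x u ∈ Subgroup.centralizer ({z} : Set Γ)
      rw [Subgroup.mem_centralizer_singleton_iff]
      have := hzx u
      rw [mul_inv_eq_iff_eq_mul] at this
      exact this.symm
    · show y u ∈ Subgroup.centralizer ({z} : Set Γ)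
      rw [Subgroup.mem_centralizer_singleton_iff]
      have := hzy u
      rw [mul_inv_eq_iff_eq_mul] at this
      exact this.symm
  intro g
  have h1 := this g (by rw [hgen]; exact Subgroup.mem_top g)
  rw [Subgroup.mem_centralizer_singleton_iff] at h1
  exact h1

lemma f_central (hgen : Subgroup.closure (Set.range x ∪ Set.range y) = ⊤) {t u : K} (ht : t ≠ 0) (hu : u ≠ 0) :
    h x y t * h x y u * (h x y (t * u))⁻¹ ∈ Subgroup.center Γ := by
  have hinvx : ∀ {s : K} (hs : s ≠ 0) (v : K), (h x y s)⁻¹ * x v * h x y s = x (s⁻¹ ^ 2 * v) := by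
    intro s hs v
    have := S.h_x hs (s⁻¹ ^ 2 * v)
    have e : s ^ 2 * (s⁻¹ ^ 2 * v) = v := by field_simp
    rw [e] at this
    rw [← this]; group
  have hinvy : ∀ {s : K} (hs : s ≠ 0) (v : K), (h x y s)⁻¹ * y v * h x y s = y (s ^ 2 * v) := by
    intro s hs v
    have := S.h_y hs (s ^ 2 * v)
    have e : s⁻¹ ^ 2 * (s ^ 2 * v) = v := by field_simp
    rw [e] at this
    rw [← this]; group
  apply S.central_of_comm hgen
  · intro v
    have e : h x y t * h x y u * (h x y (t * u))⁻¹ * x v * (h x y t * h x y u * (h x y (t * u))⁻¹)⁻¹ =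
        h x y t * (h x y u * ((h x y (t * u))⁻¹ * x v * h x y (t * u)) * (h x y u)⁻¹) * (h x y t)⁻¹ := by group
    rw [e, hinvx (mul_ne_zero ht hu), S.h_x hu, S.h_x ht]
    congr 1; field_simp
  · intro v
    have e : h x y t * h x y u * (h x y (t * u))⁻¹ * y v * (h x y t * h x y u * (h x y (t * u))⁻¹)⁻¹ =
        h x y t * (h x y u * ((h x y (t * u))⁻¹ * y v * h x y (t * u)) * (h x y u)⁻¹) * (h x y t)⁻¹ := by group
    rw [e, hinvy (mul_ne_zero ht hu), S.h_y hu, S.h_y ht]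
    congr 1; field_simp

lemma h_comm [Finite K] (hgen : Subgroup.closure (Set.range x ∪ Set.range y) = ⊤) {t u : K} (ht : t ≠ 0) (hu : u ≠ 0) :
    h x y t * h x y u = h x y u * h x y t := by
  obtain ⟨v, hv⟩ := IsCyclic.exists_generator (α := Kˣ)
  have hfin : ∀ s : K, s ≠ 0 → ∃ n : ℕ, s = (v : K) ^ n := by
    intro s hs
    have h1 := hv (Units.mk0 s hs)
    rw [← mem_powers_iff_mem_zpowers] at h1
    obtain ⟨n, hn⟩ := h1
    refine ⟨n, ?_⟩
    have := congrArg Units.val hn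
    simpa using this.symm
  have key : ∀ n : ℕ, ∃ z ∈ Subgroup.center Γ, h x y ((v : K) ^ n) = z * h x y (v : K) ^ n := by
    intro n
    induction n with
    | zero => exact ⟨1, one_mem _, by rw [pow_zero, pow_zero, S.h1, one_mul]⟩
    | succ n ih =>
      obtain ⟨z, hz, he⟩ := ih
      have hf := S.f_central hgen (t := (v : K)) (u := (v : K) ^ n) v.ne_zero (pow_ne_zero n v.ne_zero)
      set c := h x y (v : K) * h x y ((v : K) ^ n) * (h x y ((v : K) * (v : K) ^ n))⁻¹ with hc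
      refine ⟨c⁻¹ * z, mul_mem (inv_mem hf) hz, ?_⟩
      have e1 : h x y ((v : K) * (v : K) ^ n) = c⁻¹ * (h x y (v : K) * h x y ((v : K) ^ n)) := by rw [hc]; group
      rw [pow_succ', e1, he, pow_succ', ← mul_assoc (h x y (v : K)) z, Subgroup.mem_center_iff.1 hz (h x y (v : K)), mul_assoc z, mul_assoc]
  obtain ⟨n, rfl⟩ := hfin t ht
  obtain ⟨m, rfl⟩ := hfin u hu
  obtain ⟨z1, hz1, e1⟩ := key n
  obtain ⟨z2, hz2, e2⟩ := key m
  rw [e1, e2]
  have c1 := Subgroup.mem_center_iff.1 hz1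
  have c2 := Subgroup.mem_center_iff.1 hz2
  calc z1 * h x y (v : K) ^ n * (z2 * h x y (v : K) ^ m) = z1 * (h x y (v : K) ^ n * z2) * h x y (v : K) ^ m := by group
    _ = z1 * z2 * (h x y (v : K) ^ n * h x y (v : K) ^ m) := by rw [c2]; group
    _ = z1 * z2 * (h x y (v : K) ^ m * h x y (v : K) ^ n) := by rw [← pow_add, ← pow_add, add_comm]
    _ = z2 * (z1 * h x y (v : K) ^ m) * h x y (v : K) ^ n := by rw [c2 z1]; group
    _ = _ := by rw [← c1]; group

lemma h_sq_mul [Finite K] (hgen : Subgroup.closure (Set.range x ∪ Set.range y) = ⊤) {t u : K} (ht : t ≠ 0) (hu : u ≠ 0) :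
    h x y (t ^ 2 * u) = h x y (t ^ 2) * h x y u := by
  have e1 : h x y t * h x y u * (h x y t)⁻¹ = h x y (t ^ 2 * u) * (h x y (t ^ 2))⁻¹ := by
    have e : h x y t * h x y u * (h x y t)⁻¹ = (h x y t * w x y u * (h x y t)⁻¹) * (h x y t * w x y 1 * (h x y t)⁻¹)⁻¹ := by
      conv_lhs => rw [show h x y u = w x y u * (w x y 1)⁻¹ from rfl]
      group
    rw [e, S.h_w ht hu, S.h_w ht one_ne_zero, mul_one]
    unfold h; group
  rw [S.h_comm hgen ht hu] at e1
  have e2 : h x y u = h x y (t ^ 2 * u) * (h x y (t ^ 2))⁻¹ := by rw [← e1]; group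
  rw [S.h_comm hgen (pow_ne_zero 2 ht) hu, e2]; group

lemma x_eq {t : K} (ht : t ≠ 0) : x t = y t⁻¹ * w x y t * y t⁻¹ := by
  rw [S.w_eq ht, S.yneg]; group

lemma h_add {t u : K} (ht : t ≠ 0) (hu : u ≠ 0) (htu : t + u = 1) : h x y t * h x y u⁻¹ = h x y (t * u⁻¹) := by
  -- w t * w u = w (t/u) * w 1
  have key : w x y t * w x y u = w x y (t * u⁻¹) * w x y 1 := by
    have h1 : x 1 = x t * x u := by rw [← S.hx, htu]
    rw [S.x_eq one_ne_zero, S.x_eq ht, S.x_eq hu, inv_one] at h1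
    have h2 : y t⁻¹ * y u⁻¹ = y (t * u)⁻¹ := by
      rw [← S.hy]
      congr 1
      field_simp
      linear_combination htu
    have h3 : w x y t * y (t * u)⁻¹ = x (-(t * u⁻¹)) * w x y t := by
      have := S.w_y ht (t * u)⁻¹
      rw [mul_inv_eq_iff_eq_mul] at this
      rw [this]
      congr 2; field_simp
    have h4 : y 1 * w x y 1 * y 1 = y t⁻¹ * x (-(t * u⁻¹)) * (w x y t * w x y u) * y u⁻¹ := by
      calc y 1 * w x y 1 * y 1 = y t⁻¹ * w x y t * y t⁻¹ * (y u⁻¹ * w x y u * y u⁻¹) := h1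
        _ = y t⁻¹ * (w x y t * (y t⁻¹ * y u⁻¹)) * w x y u * y u⁻¹ := by group
        _ = y t⁻¹ * (x (-(t * u⁻¹)) * w x y t) * w x y u * y u⁻¹ := by rw [h2, h3]
        _ = _ := by group
    have h5 : w x y t * w x y u = x (t * u⁻¹) * (y (-t⁻¹) * y 1) * w x y 1 * (y 1 * y (-u⁻¹)) := by
      have : w x y t * w x y u = (y t⁻¹ * x (-(t * u⁻¹)))⁻¹ * (y 1 * w x y 1 * y 1) * (y u⁻¹)⁻¹ := by rw [h4]; group
      rw [this, S.xneg, S.yneg t⁻¹, S.yneg u⁻¹]; group
    have h6 : y (-t⁻¹) * y 1 = y (-(t * u⁻¹)⁻¹) := by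
      rw [← S.hy]; congr 1; field_simp; linear_combination htu
    have h7 : y 1 * y (-u⁻¹) = y (-(t * u⁻¹)) := by
      rw [← S.hy]; congr 1; field_simp; linear_combination htu
    have h8 : w x y 1 * y (-(t * u⁻¹)) = x (t * u⁻¹) * w x y 1 := by
      have := S.w_y one_ne_zero (-(t * u⁻¹))
      rw [mul_inv_eq_iff_eq_mul] at this
      rw [this]
      congr 2; ring
    rw [h5, h6, h7, mul_assoc _ (w x y 1), h8]
    show _ = x (t * u⁻¹) * y (-(t * u⁻¹)⁻¹) * x (t * u⁻¹) * w x y 1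
    group
  have h1 := S.w_h hu
  have h2 : h x y t * h x y u⁻¹ = w x y t * w x y u * (w x y 1)⁻¹ * (w x y 1)⁻¹ := by
    rw [← h1]; unfold h; group
  rw [h2, key]; unfold h; group

theorem h_mul [Finite K] (hgen : Subgroup.closure (Set.range x ∪ Set.range y) = ⊤) {t u : K} (ht : t ≠ 0) (hu : u ≠ 0) :
    h x y t * h x y u = h x y (t * u) := by
  haveI := Fintype.ofFinite K
  classical
  by_cases hts : IsSquare t
  · obtain ⟨a, rfl⟩ := hts
    have ha : a ≠ 0 := left_ne_zero_of_mul ht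
    rw [← pow_two, S.h_sq_mul hgen ha hu]
  · by_cases hus : IsSquare u
    · obtain ⟨a, rfl⟩ := hus
      have ha : a ≠ 0 := left_ne_zero_of_mul hu
      rw [← pow_two, mul_comm t, S.h_sq_mul hgen ha ht, S.h_comm hgen ht (pow_ne_zero 2 ha)]
    · -- both nonsquares
      have hodd : ringChar K ≠ 2 := by
        intro h2
        exact hts (FiniteField.isSquare_of_char_two h2 t)
      -- two nonsquares with sum 1
      obtain ⟨t₀, ht₀, hu₀⟩ : ∃ t₀ : K, ¬ IsSquare t₀ ∧ ¬ IsSquare (1 - t₀) := by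
        by_contra hcon
        push Not at hcon
        -- t ↦ 1 - t injects nonsquares into nonzero squares different from 1
        set N := Finset.univ.filter (fun s : K => ¬ IsSquare s) with hN
        set Q := (Finset.univ.filter (fun s : K => s ≠ 0 ∧ IsSquare s)).erase 1 with hQ
        have hle : N.card ≤ Q.card := by
          apply Finset.card_le_card_of_injOn (fun s => 1 - s)
          · intro s hs
            rw [Finset.mem_coe, hN, Finset.mem_filter] at hs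
            rw [Finset.mem_coe, hQ, Finset.mem_erase, Finset.mem_filter]
            refine ⟨?_, Finset.mem_univ _, ?_, hcon s hs.2⟩
            · intro h1
              apply hs.2
              have : s = 0 := by linear_combination -h1
              rw [this]; exact ⟨0, by ring⟩
            · intro h1
              apply hs.2
              have : s = 1 := by linear_combination -h1
              rw [this]; exact ⟨1, by ring⟩
          · intro a _ b _ hab
            simp only at hab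
            linear_combination -hab
        have h1 : (1 : K) ∈ Finset.univ.filter (fun s : K => s ≠ 0 ∧ IsSquare s) := by
          rw [Finset.mem_filter]; exact ⟨Finset.mem_univ _, one_ne_zero, ⟨1, by ring⟩⟩
        rw [hQ, Finset.card_erase_of_mem h1] at hle
        -- multiplication by t is a bijection from nonzero squares to nonsquares
        have hge : (Finset.univ.filter (fun s : K => s ≠ 0 ∧ IsSquare s)).card ≤ N.card := by
          apply Finset.card_le_card_of_injOn (fun s => t * s)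
          · intro s hs
            rw [Finset.mem_coe, Finset.mem_filter] at hs
            rw [Finset.mem_coe, hN, Finset.mem_filter]
            refine ⟨Finset.mem_univ _, ?_⟩
            rintro ⟨b, hb⟩
            obtain ⟨a, ha⟩ := hs.2.2
            have ha0 : a ≠ 0 := by rintro rfl; exact hs.2.1 (by rw [ha]; ring)
            apply hts
            refine ⟨b / a, ?_⟩
            rw [ha] at hb
            field_simp
            linear_combination hb
          · intro a _ b _ hab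
            exact mul_left_cancel₀ ht hab
        have hpos : 0 < (Finset.univ.filter (fun s : K => s ≠ 0 ∧ IsSquare s)).card := Finset.card_pos.2 ⟨1, h1⟩
        omega
      set u₀ := 1 - t₀ with hu₀'
      have ht₀0 : t₀ ≠ 0 := by rintro h; rw [h] at ht₀; exact ht₀ ⟨0, by ring⟩
      have hu₀0 : u₀ ≠ 0 := by rintro h; rw [h] at hu₀; exact hu₀ ⟨0, by ring⟩
      have hmulsq : ∀ a b : K, a ≠ 0 → b ≠ 0 → ¬ IsSquare a → ¬ IsSquare b → IsSquare (a * b) := by
        intro a b ha0 hb0 ha hb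
        have h1 := (quadraticChar_neg_one_iff_not_isSquare).2 ha
        have h2 := (quadraticChar_neg_one_iff_not_isSquare).2 hb
        have h3 : quadraticChar K (a * b) = 1 := by rw [map_mul, h1, h2]; norm_num
        exact (quadraticChar_one_iff_isSquare (mul_ne_zero ha0 hb0)).1 h3
      obtain ⟨a, ha⟩ : IsSquare (t * t₀) := hmulsq t t₀ ht ht₀0 hts ht₀
      obtain ⟨b, hb⟩ : IsSquare (u * u₀) := hmulsq u u₀ hu hu₀0 hus hu₀
      have ha0 : a ≠ 0 := by rintro rfl; rw [mul_zero] at ha; exact mul_ne_zero ht ht₀0 ha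
      have hb0 : b ≠ 0 := by rintro rfl; rw [mul_zero] at hb; exact mul_ne_zero hu hu₀0 hb
      have e1 : t = (a / t₀) ^ 2 * t₀ := by field_simp; linear_combination ha
      have e2 : u = b ^ 2 * u₀⁻¹ := by field_simp; linear_combination hb
      have hat : a / t₀ ≠ 0 := div_ne_zero ha0 ht₀0
      have h1 := S.h_add ht₀0 hu₀0 (by rw [hu₀']; ring)
      rw [e1, e2, S.h_sq_mul hgen hat ht₀0, S.h_sq_mul hgen hb0 (inv_ne_zero hu₀0)]
      have e3 : (a / t₀) ^ 2 * t₀ * (b ^ 2 * u₀⁻¹) = (a / t₀) ^ 2 * (b ^ 2 * (t₀ * u₀⁻¹)) := by ring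
      rw [e3, S.h_sq_mul hgen hat (mul_ne_zero (pow_ne_zero 2 hb0) (mul_ne_zero ht₀0 (inv_ne_zero hu₀0))),
        S.h_sq_mul hgen hb0 (mul_ne_zero ht₀0 (inv_ne_zero hu₀0)), ← h1]
      have hc := S.h_comm hgen ht₀0 (pow_ne_zero 2 hb0)
      calc h x y ((a / t₀) ^ 2) * h x y t₀ * (h x y (b ^ 2) * h x y u₀⁻¹) = h x y ((a / t₀) ^ 2) * (h x y t₀ * h x y (b ^ 2)) * h x y u₀⁻¹ := by group
        _ = _ := by rw [hc]; group

end Stn

end Cfsg.Agent.H16
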