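import Mathlib
import Cfsg.Agent.H16.Stein
import Cfsg.Agent.H16.DL

set_option autoImplicit false
set_option linter.all false

namespace Cfsg.Agent.H16

namespace Stn

variable {Γ K : Type*} [Group Γ] [Field K] {x y : K → Γ}

/-- the Bruhat cells -/
def cell (x y : K → Γ) (s : (Kˣ × K) ⊕ (Kˣ × K × K)) : Γ :=
  Sum.elim (fun p => h x y (p.1 : K) * x p.2) (fun p => h x y (p.1 : K) * x p.2.1 * w x y 1 * x p.2.2) s

variable (S : Stn x y)
include S

lemma h_inv [Finite K] (hgen : Subgroup.closure (Set.range x ∪ Set.range y) = ⊤) {t : K} (ht : t ≠ 0) : (h x y t)⁻¹ = h x y t⁻¹ := by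
  rw [inv_eq_iff_mul_eq_one, S.h_mul hgen ht (inv_ne_zero ht), mul_inv_cancel₀ ht, S.h1]

lemma w_sq [Finite K] (hgen : Subgroup.closure (Set.range x ∪ Set.range y) = ⊤) : w x y 1 * w x y 1 = h x y (-1) := by
  have h1 := S.h_inv hgen (t := -1) (neg_ne_zero.2 one_ne_zero)
  have e : (-1 : K)⁻¹ = -1 := by rw [inv_neg, inv_one]
  rw [e, S.h_neg_one] at h1
  rw [S.h_neg_one, ← h1, _root_.mul_inv_rev, inv_inv]

lemma x_h {t : K} (ht : t ≠ 0) (s : K) : x s * h x y t = h x y t * x (t⁻¹ ^ 2 * s) := by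
  have := S.h_x ht (t⁻¹ ^ 2 * s)
  have e : t ^ 2 * (t⁻¹ ^ 2 * s) = s := by field_simp
  rw [e, mul_inv_eq_iff_eq_mul] at this
  exact this.symm

lemma w_h' {t : K} (ht : t ≠ 0) : w x y 1 * h x y t = h x y t⁻¹ * w x y 1 := by
  have := S.w_h ht
  rw [mul_inv_eq_iff_eq_mul] at this
  exact this

lemma wxw [Finite K] (hgen : Subgroup.closure (Set.range x ∪ Set.range y) = ⊤) {a : K} (ha : a ≠ 0) :
    w x y 1 * x a * w x y 1 = x (-a⁻¹) * h x y (-a⁻¹) * w x y 1 * x (-a⁻¹) := by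
  have h1 := S.x_eq ha
  have h2 : w x y 1 * y a⁻¹ = x (-a⁻¹) * w x y 1 := by
    have := S.w_y one_ne_zero a⁻¹
    rw [mul_inv_eq_iff_eq_mul] at this
    rw [this]; congr 2; ring
  have h3 : y a⁻¹ * w x y 1 = w x y 1 * x (-a⁻¹) := by
    have := S.w_x one_ne_zero (-a⁻¹)
    rw [mul_inv_eq_iff_eq_mul] at this
    rw [this]; congr 2; rw [inv_one]; ring
  have h4 : w x y a = h x y a * w x y 1 := by unfold h; group
  have h5 : w x y 1 * w x y a * w x y 1 = h x y (-a⁻¹) * w x y 1 := by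
    rw [h4, ← mul_assoc, S.w_h' ha]
    calc h x y a⁻¹ * w x y 1 * w x y 1 * w x y 1 = h x y a⁻¹ * (w x y 1 * w x y 1) * w x y 1 := by group
      _ = _ := by rw [S.w_sq hgen, S.h_mul hgen (inv_ne_zero ha) (neg_ne_zero.2 one_ne_zero)]; congr 2; ring
  calc w x y 1 * x a * w x y 1 = (w x y 1 * y a⁻¹) * w x y a * (y a⁻¹ * w x y 1) := by rw [h1]; group
    _ = x (-a⁻¹) * (w x y 1 * w x y a * w x y 1) * x (-a⁻¹) := by rw [h2, h3]; group
    _ = _ := by rw [h5]; group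

lemma cell_x (hgen : Subgroup.closure (Set.range x ∪ Set.range y) = ⊤) (s : K) (c : (Kˣ × K) ⊕ (Kˣ × K × K)) : ∃ c', x s * cell x y c = cell x y c' := by
  rcases c with ⟨t, a⟩ | ⟨t, a, b⟩
  · refine ⟨Sum.inl (t, (t : K)⁻¹ ^ 2 * s + a), ?_⟩
    show x s * (h x y (t : K) * x a) = h x y (t : K) * x ((t : K)⁻¹ ^ 2 * s + a)
    rw [S.hx, ← mul_assoc, S.x_h t.ne_zero, mul_assoc]
  · refine ⟨Sum.inr (t, (t : K)⁻¹ ^ 2 * s + a, b), ?_⟩
    show x s * (h x y (t : K) * x a * w x y 1 * x b) = h x y (t : K) * x ((t : K)⁻¹ ^ 2 * s + a) * w x y 1 * x b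
    rw [S.hx, ← mul_assoc, ← mul_assoc, ← mul_assoc, S.x_h t.ne_zero, mul_assoc (h x y (t : K))]

lemma cell_w [Finite K] (hgen : Subgroup.closure (Set.range x ∪ Set.range y) = ⊤) (c : (Kˣ × K) ⊕ (Kˣ × K × K)) : ∃ c', w x y 1 * cell x y c = cell x y c' := by
  rcases c with ⟨t, a⟩ | ⟨t, a, b⟩
  · refine ⟨Sum.inr (t⁻¹, 0, a), ?_⟩
    show w x y 1 * (h x y (t : K) * x a) = h x y ((t⁻¹ : Kˣ) : K) * x 0 * w x y 1 * x a
    rw [S.x0, mul_one, ← mul_assoc, S.w_h' t.ne_zero, Units.val_inv_eq_inv_val]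
  · by_cases ha : a = 0
    · refine ⟨Sum.inl (-t⁻¹, b), ?_⟩
      show w x y 1 * (h x y (t : K) * x a * w x y 1 * x b) = h x y ((-t⁻¹ : Kˣ) : K) * x b
      rw [ha, S.x0, mul_one, ← mul_assoc, ← mul_assoc, S.w_h' t.ne_zero, mul_assoc (h x y (t : K)⁻¹), S.w_sq hgen,
        S.h_mul hgen (inv_ne_zero t.ne_zero) (neg_ne_zero.2 one_ne_zero)]
      congr 2
      rw [Units.val_neg, Units.val_inv_eq_inv_val]; ring
    · -- general case
      have hna : -a⁻¹ ≠ 0 := neg_ne_zero.2 (inv_ne_zero ha)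
      refine ⟨Sum.inr (t⁻¹ * Units.mk0 (-a⁻¹) hna, (-a⁻¹)⁻¹ ^ 2 * (-a⁻¹), -a⁻¹ + b), ?_⟩
      show w x y 1 * (h x y (t : K) * x a * w x y 1 * x b) = h x y ((t⁻¹ * Units.mk0 (-a⁻¹) hna : Kˣ) : K) * x ((-a⁻¹)⁻¹ ^ 2 * (-a⁻¹)) * w x y 1 * x (-a⁻¹ + b)
      rw [Units.val_mul, Units.val_mk0, Units.val_inv_eq_inv_val, ← S.h_mul hgen (inv_ne_zero t.ne_zero) hna, S.hx (-a⁻¹) b]
      calc w x y 1 * (h x y (t : K) * x a * w x y 1 * x b) = (w x y 1 * h x y (t : K)) * x a * w x y 1 * x b := by group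
        _ = h x y (t : K)⁻¹ * (w x y 1 * x a * w x y 1) * x b := by rw [S.w_h' t.ne_zero]; group
        _ = h x y (t : K)⁻¹ * (x (-a⁻¹) * h x y (-a⁻¹)) * w x y 1 * x (-a⁻¹) * x b := by rw [S.wxw hgen ha]; group
        _ = _ := by rw [S.x_h hna]; group

theorem cell_surj [Finite K] (hgen : Subgroup.closure (Set.range x ∪ Set.range y) = ⊤) : Function.Surjective (cell x y) := by
  -- set of g preserving the union of cells
  have hw : ∀ c, ∃ c', w x y 1 * cell x y c = cell x y c' := fun c => S.cell_w hgen c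
  have hwinv : ∀ c, ∃ c', (w x y 1)⁻¹ * cell x y c = cell x y c' := by
    intro c
    have e : (w x y 1)⁻¹ = w x y 1 * (w x y 1 * w x y 1) := by
      have h1 : (w x y 1 * w x y 1) * (w x y 1 * w x y 1) = 1 := by
        rw [S.w_sq hgen, S.h_mul hgen (neg_ne_zero.2 one_ne_zero) (neg_ne_zero.2 one_ne_zero)]
        rw [neg_mul_neg, one_mul, S.h1]
      rw [inv_eq_iff_mul_eq_one]
      calc w x y 1 * (w x y 1 * (w x y 1 * w x y 1)) = (w x y 1 * w x y 1) * (w x y 1 * w x y 1) := by group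
        _ = 1 := h1
    obtain ⟨c1, h1⟩ := hw c
    obtain ⟨c2, h2⟩ := hw c1
    obtain ⟨c3, h3⟩ := hw c2
    refine ⟨c3, ?_⟩
    rw [e, ← h3, ← h2, ← h1]; group
  have hxx : ∀ s c, ∃ c', x s * cell x y c = cell x y c' := fun s c => S.cell_x hgen s c
  have hyy : ∀ s c, ∃ c', y s * cell x y c = cell x y c' := by
    intro s c
    have e : y s = w x y 1 * x (-s) * (w x y 1)⁻¹ := by
      rw [S.w_x one_ne_zero]; congr 1; rw [inv_one]; ring
    obtain ⟨c1, h1⟩ := hwinv c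
    obtain ⟨c2, h2⟩ := hxx (-s) c1
    obtain ⟨c3, h3⟩ := hw c2
    refine ⟨c3, ?_⟩
    rw [e, ← h3, ← h2, ← h1]; group
  have key : ∀ g ∈ Subgroup.closure (Set.range x ∪ Set.range y), ∀ c, ∃ c', g * cell x y c = cell x y c' := by
    intro g hg
    induction hg using Subgroup.closure_induction'' with
    | mem g hg =>
      rcases hg with ⟨s, rfl⟩ | ⟨s, rfl⟩
      · exact hxx s
      · exact hyy s
    | inv_mem g hg =>
      rcases hg with ⟨s, rfl⟩ | ⟨s, rfl⟩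
      · rw [← S.xneg]; exact hxx (-s)
      · rw [← S.yneg]; exact hyy (-s)
    | one => intro c; exact ⟨c, one_mul _⟩
    | mul a b _ _ ha hb =>
      intro c
      obtain ⟨c1, h1⟩ := hb c
      obtain ⟨c2, h2⟩ := ha c1
      exact ⟨c2, by rw [mul_assoc, h1, h2]⟩
  intro g
  obtain ⟨c, hc⟩ := key g (by rw [hgen]; exact Subgroup.mem_top g) (Sum.inl (1, 0))
  refine ⟨c, ?_⟩
  rw [← hc]
  have : cell x y (Sum.inl (1, 0)) = 1 := by
    show h x y ((1 : Kˣ) : K) * x 0 = 1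
    rw [Units.val_one, S.h1, S.x0, one_mul]
  rw [this, mul_one]

theorem finite_and_card [Fintype K] (hgen : Subgroup.closure (Set.range x ∪ Set.range y) = ⊤) :
    Finite Γ ∧ Nat.card Γ ≤ Nat.card (Matrix.SpecialLinearGroup (Fin 2) K) := by
  classical
  have hs := S.cell_surj hgen
  have hfin : Finite Γ := Finite.of_surjective _ hs
  refine ⟨hfin, ?_⟩
  have h1 := Nat.card_le_card_of_surjective _ hs
  rw [Nat.card_sum, Nat.card_prod, Nat.card_prod, Nat.card_prod, Nat.card_eq_fintype_card (α := Kˣ), Nat.card_eq_fintype_card (α := K), Fintype.card_units] at h1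
  refine h1.trans (le_of_eq ?_)
  rw [card_sl2]
  have hq : 1 < Fintype.card K := Fintype.one_lt_card
  obtain ⟨m, hm⟩ : ∃ m, Fintype.card K = m + 1 := ⟨Fintype.card K - 1, by omega⟩
  rw [hm]
  have e : (m + 1) ^ 2 - 1 = m * (m + 2) := by
    have : (m + 1) ^ 2 = m * (m + 2) + 1 := by ring
    omega
  rw [e, Nat.add_sub_cancel]
  ring

/-- a surjection onto `SL₂(K)` from a group with the Steinberg relations is an isomorphism -/
theorem bijective_of_surj [Fintype K] (hgen : Subgroup.closure (Set.range x ∪ Set.range y) = ⊤) (φ : Γ →* Matrix.SpecialLinearGroup (Fin 2) K)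
    (hφ : Function.Surjective φ) : Function.Bijective φ := by
  obtain ⟨hfin, hcard⟩ := S.finite_and_card hgen
  exact (Nat.bijective_iff_surjective_and_card φ).2 ⟨hφ, le_antisymm hcard (Nat.card_le_card_of_surjective _ hφ)⟩

end Stn

end Cfsg.Agent.H16
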