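import Mathlib
import Cfsg.Agent.H16.Torus2

set_option autoImplicit false
set_option linter.all false

/-! Lower bound for the degree of `Sp_2n(q)` in its own characteristic field. -/

namespace Cfsg.Agent.H16.SpMin

open Module Matrix

theorem ab_bound {T : Type*} [CommGroup T] [Finite T] {F : Type*} [Field F] [Fintype F] {d : ℕ} (f : T →* Matrix (Fin d) (Fin d) F)
    (hf : Function.Injective f) (hT : ∀ t : T, t ^ (Fintype.card F + 1) = 1) (m' : ℕ) (hm' : 0 < m') (hm : ∀ t : T, (t ^ 2) ^ m' = 1) :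
    ∃ r, 2 * r ≤ d ∧ Nat.card (Set.range (fun t : T => t ^ 2)) ≤ m' ^ r := by
  classical
  obtain ⟨p, hp⟩ := CharP.exists F
  obtain ⟨e, hpp, hq⟩ := FiniteField.card F p
  haveI : Fact p.Prime := ⟨hpp⟩
  let L := AlgebraicClosure F
  haveI : CharP L p := charP_of_injective_algebraMap (algebraMap F L).injective p
  set q := Fintype.card F with hqd
  let g : T → Module.End L (Fin d → L) := fun t => toLin' ((f t).map (algebraMap F L))
  have hg1 : g 1 = 1 := by
    show toLin' ((f 1).map (algebraMap F L)) = 1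
    rw [map_one, Matrix.map_one _ (map_zero _) (map_one _), toLin'_one]; rfl
  have hgm : ∀ s t, g (s * t) = g s * g t := by
    intro s t
    show toLin' ((f (s * t)).map (algebraMap F L)) = toLin' ((f s).map (algebraMap F L)) * toLin' ((f t).map (algebraMap F L))
    rw [map_mul, Matrix.map_mul, toLin'_mul]; rfl
  have hgc : ∀ s t, Commute (g s) (g t) := by
    intro s t
    show g s * g t = g t * g s
    rw [← hgm, ← hgm, mul_comm]
  have hgp : ∀ t (k : ℕ), g (t ^ k) = g t ^ k := by
    intro t k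
    induction k with
    | zero => rw [pow_zero, pow_zero, hg1]
    | succ k ih => rw [pow_succ, pow_succ, hgm, ih]
  have hqL : ((q + 1 : ℕ) : L) ≠ 0 := by
    have : (q : L) = 0 := by
      rw [CharP.cast_eq_zero_iff L p, hq]
      exact dvd_pow_self p e.ne_zero
    rw [Nat.cast_add, this, Nat.cast_one, zero_add]
    exact one_ne_zero
  have hss : ∀ t, (g t).IsSemisimple := by
    intro t
    apply Module.End.isSemisimple_of_squarefree_aeval_eq_zero (p := Polynomial.X ^ (q + 1) - 1)
    · exact (Polynomial.X_pow_sub_one_separable_iff.2 hqL).squarefree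
    · rw [map_sub, map_pow, Polynomial.aeval_X, ← hgp, hT, hg1, map_one, sub_self]
  have hmax : ∀ v μ, (g v).maxGenEigenspace μ = (g v).eigenspace μ := fun v μ => (hss v).isFinitelySemisimple.maxGenEigenspace_eq_eigenspace μ
  have htop : ⨆ χ : T → L, ⨅ v, (g v).maxGenEigenspace (χ v) = ⊤ :=
    Module.End.iSup_iInf_maxGenEigenspace_eq_top_of_iSup_maxGenEigenspace_eq_top_of_commute g (fun v w _ => hgc v w)
      (fun v => Module.End.iSup_maxGenEigenspace_eq_top (g v))
  have hind : iSupIndep fun χ : T → L => ⨅ v, (g v).maxGenEigenspace (χ v) :=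
    Module.End.independent_iInf_maxGenEigenspace_of_forall_mapsTo g (fun v w μ => Module.End.mapsTo_maxGenEigenspace_of_comm (hgc w v) μ)
  simp only [hmax] at htop hind
  have hmem : ∀ (χ : T → L) (x : Fin d → L), x ∈ ⨅ v, (g v).eigenspace (χ v) ↔ ∀ v, g v x = χ v • x := by
    intro χ x
    simp only [Submodule.mem_iInf, Module.End.mem_eigenspace_iff]
  let S : Set (T → L) := {χ | (⨅ v, (g v).eigenspace (χ v)) ≠ ⊥}
  haveI hSfin : Finite {χ : T → L // (⨅ v, (g v).eigenspace (χ v)) ≠ ⊥} := by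
    exact WellFoundedGT.finite_ne_bot_of_iSupIndep hind
  haveI hSft : Fintype {χ : T → L // (⨅ v, (g v).eigenspace (χ v)) ≠ ⊥} := Fintype.ofFinite _
  have hScard : Fintype.card {χ : T → L // (⨅ v, (g v).eigenspace (χ v)) ≠ ⊥} ≤ d := by
    have := hind.subtype_ne_bot_le_finrank
    rwa [finrank_fintype_fun_eq_card, Fintype.card_fin] at this
  have hS' : ∀ χ : T → L, χ ∈ S ↔ ∃ x, x ≠ 0 ∧ ∀ v, g v x = χ v • x := by
    intro χ
    show (⨅ v, (g v).eigenspace (χ v)) ≠ ⊥ ↔ _
    rw [Submodule.ne_bot_iff]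
    simp only [hmem]
    constructor
    · rintro ⟨x, h1, h2⟩; exact ⟨x, h2, h1⟩
    · rintro ⟨x, h1, h2⟩; exact ⟨x, h2, h1⟩
  have hone : ∀ χ ∈ S, χ 1 = 1 := by
    intro χ hχ
    obtain ⟨x, hx0, hx⟩ := (hS' χ).1 hχ
    have h1 := hx 1
    rw [hg1] at h1
    have h2 : (1 : L) • x = χ 1 • x := by rw [one_smul]; exact h1
    exact (smul_left_injective L hx0 h2).symm
  have hmul : ∀ χ ∈ S, ∀ s t, χ (s * t) = χ s * χ t := by
    intro χ hχ s t
    obtain ⟨x, hx0, hx⟩ := (hS' χ).1 hχ
    have h1 := hx (s * t)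
    rw [hgm, Module.End.mul_apply, hx t, map_smul, hx s, smul_smul] at h1
    rw [← smul_left_injective L hx0 h1, mul_comm]
  have hpow : ∀ χ ∈ S, ∀ s (k : ℕ), χ (s ^ k) = χ s ^ k := by
    intro χ hχ s k
    induction k with
    | zero => rw [pow_zero, pow_zero, hone χ hχ]
    | succ k ih => rw [pow_succ, pow_succ, hmul χ hχ, ih]
  have hinv : ∀ χ ∈ S, χ⁻¹ ∈ S := by
    intro χ hχ
    obtain ⟨x, hx0, hx⟩ := (hS' χ).1 hχ
    rw [hS']
    refine ⟨fun i => x i ^ q, ?_, ?_⟩
    · intro h
      apply hx0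
      funext i
      have := congrFun h i
      exact (pow_eq_zero_iff (Fintype.card_pos.ne')).1 this
    · intro v
      have h1 := hx v
      funext i
      have h2 := congrFun h1 i
      simp only [g, toLin'_apply, mulVec, dotProduct, Matrix.map_apply, Pi.smul_apply, smul_eq_mul] at h2 ⊢
      have h3 := congrArg (fun y => y ^ q) h2
      simp only [hq] at h3
      rw [sum_pow_char_pow] at h3
      have h4 : (χ v) ^ q = (χ v)⁻¹ := by
        have h5 : χ v ^ q * χ v = 1 := by
          rw [← pow_succ, ← hpow χ hχ, hT, hone χ hχ]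
        exact eq_inv_of_mul_eq_one_left h5
      rw [Pi.inv_apply, ← h4, hq]
      rw [← mul_pow, ← h3]
      apply Finset.sum_congr rfl
      intro j _
      rw [mul_pow, ← map_pow, ← hq, FiniteField.pow_card]
  let Sf : Finset (T → L) := (Finset.univ : Finset {χ : T → L // (⨅ v, (g v).eigenspace (χ v)) ≠ ⊥}).map (Function.Embedding.subtype _)
  have hSf : ∀ χ, χ ∈ Sf ↔ χ ∈ S := by
    intro χ
    simp only [Sf, Finset.mem_map, Finset.mem_univ, true_and, Function.Embedding.subtype_apply, Subtype.exists, exists_prop, exists_eq_right]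
    exact Iff.rfl
  have hSfc : Sf.card ≤ d := by
    rw [Finset.card_map, Finset.card_univ]; exact hScard
  let S1 : Finset (T → L) := Sf.filter (fun χ => ∃ t, χ t ^ 2 ≠ 1)
  let φ : (T → L) → Finset (T → L) := fun χ => {χ, χ⁻¹}
  have hne0 : ∀ χ ∈ S, ∀ t, χ t ≠ 0 := by
    intro χ hχ t h
    have h5 : χ t ^ q * χ t = 1 := by
      rw [← pow_succ, ← hpow χ hχ, hT, hone χ hχ]
    rw [h, mul_zero] at h5
    exact zero_ne_one h5
  have hfib : ∀ b ∈ S1.image φ, 2 ≤ (S1.filter (fun χ => φ χ = b)).card := by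
    intro b hb
    rw [Finset.mem_image] at hb
    obtain ⟨χ, hχ, rfl⟩ := hb
    rw [Finset.mem_filter, hSf] at hχ
    obtain ⟨hχS, t, ht⟩ := hχ
    have hχne : χ ≠ χ⁻¹ := by
      intro h
      apply ht
      have h1 := congrFun h t
      rw [Pi.inv_apply] at h1
      rw [pow_two]
      nth_rewrite 2 [h1]
      exact mul_inv_cancel₀ (hne0 χ hχS t)
    have hsub : ({χ, χ⁻¹} : Finset (T → L)) ⊆ S1.filter (fun χ' => φ χ' = φ χ) := by
      intro y hy
      rw [Finset.mem_insert, Finset.mem_singleton] at hy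
      rw [Finset.mem_filter, Finset.mem_filter, hSf]
      rcases hy with rfl | rfl
      · exact ⟨⟨hχS, t, ht⟩, rfl⟩
      · refine ⟨⟨hinv χ hχS, t, ?_⟩, ?_⟩
        · rw [Pi.inv_apply, inv_pow]
          intro h
          exact ht (inv_eq_one.1 h)
        · show ({χ⁻¹, χ⁻¹⁻¹} : Finset (T → L)) = {χ, χ⁻¹}
          rw [inv_inv, Finset.pair_comm]
    have := Finset.card_le_card hsub
    rwa [Finset.card_pair hχne] at this
  have hcard2 := Finset.mul_card_image_le_card S1 2 hfib
  obtain ⟨R, hRS, hRinj, hRim⟩ := Finset.exists_subset_injOn_image_eq_of_surjOn (f := φ) (S1 : Set (T → L)) (S1.image φ) (by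
    intro b hb
    rw [Finset.mem_coe, Finset.mem_image] at hb
    obtain ⟨a, ha, rfl⟩ := hb
    exact ⟨a, ha, rfl⟩)
  have hRc : R.card = (S1.image φ).card := by
    rw [← hRim, Finset.card_image_of_injOn hRinj]
  refine ⟨R.card, ?_, ?_⟩
  · rw [hRc]
    exact hcard2.trans ((Finset.card_filter_le _ _).trans hSfc)
  · haveI : NeZero m' := ⟨hm'.ne'⟩
    have hRS' : ∀ χ ∈ R, χ ∈ S := fun χ hχ => (hSf χ).1 (Finset.mem_filter.1 (hRS hχ)).1
    let Φ : Set.range (fun t : T => t ^ 2) → (R → rootsOfUnity m' L) := fun s χ =>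
      rootsOfUnity.mkOfPowEq (χ.1 s.1) (by
        obtain ⟨s, t, rfl⟩ := s
        show χ.1 (t ^ 2) ^ m' = 1
        rw [← hpow χ.1 (hRS' χ.1 χ.2), hm, hone χ.1 (hRS' χ.1 χ.2)])
    have hΦ : Function.Injective Φ := by
      intro s s' h
      have h1 : ∀ χ ∈ R, χ s.1 = χ s'.1 := by
        intro χ hχ
        have h2 := congrArg (fun y : rootsOfUnity m' L => ((y : Lˣ) : L)) (congrFun h ⟨χ, hχ⟩)
        simpa [Φ] using h2
      have h2 : ∀ χ ∈ S, χ s.1 = χ s'.1 := by
        intro χ hχ
        by_cases hr : ∃ t, χ t ^ 2 ≠ 1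
        · have h3 : φ χ ∈ S1.image φ := Finset.mem_image_of_mem _ (Finset.mem_filter.2 ⟨(hSf χ).2 hχ, hr⟩)
          rw [← hRim, Finset.mem_image] at h3
          obtain ⟨χ', hχ', h4⟩ := h3
          have h5 : χ ∈ φ χ' := by rw [h4]; exact Finset.mem_insert_self _ _
          rw [Finset.mem_insert, Finset.mem_singleton] at h5
          rcases h5 with rfl | rfl
          · exact h1 _ hχ'
          · rw [Pi.inv_apply, Pi.inv_apply, h1 _ hχ']
        · push Not at hr
          obtain ⟨s, t, rfl⟩ := s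
          obtain ⟨s', t', rfl⟩ := s'
          show χ (t ^ 2) = χ (t' ^ 2)
          rw [hpow χ hχ, hpow χ hχ, hr, hr]
      have h3 : g s.1 = g s'.1 := by
        have h4 : LinearMap.ker (g s.1 - g s'.1) = ⊤ := by
          rw [eq_top_iff, ← htop]
          apply iSup_le
          intro χ y hy
          rw [LinearMap.mem_ker, LinearMap.sub_apply]
          rcases eq_or_ne y 0 with rfl | hy0
          · simp
          rw [hmem] at hy
          rw [hy, hy, h2 χ ((hS' χ).2 ⟨y, hy0, hy⟩), sub_self]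
        rw [LinearMap.ker_eq_top] at h4
        exact sub_eq_zero.1 h4
      apply Subtype.ext
      apply hf
      have h5 : (f s.1).map (algebraMap F L) = (f s'.1).map (algebraMap F L) := toLin'.injective h3
      ext i j
      exact (algebraMap F L).injective (congrFun (congrFun h5 i) j)
    haveI : Finite (R → rootsOfUnity m' L) := inferInstance
    have h6 := Nat.card_le_card_of_injective Φ hΦ
    rw [Nat.card_fun, Nat.card_eq_fintype_card (α := R), Fintype.card_coe] at h6
    exact h6.trans (Nat.pow_le_pow_left (card_rootsOfUnity L m') _)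

section sp
variable {F : Type*} [Field F] {n : ℕ}

noncomputable def dg : (Fin n → Matrix.SpecialLinearGroup (Fin 2) F) →* ↥(Matrix.symplecticGroup (Fin n) F) where
  toFun g := ⟨fromBlocks (diagonal fun i => (g i : Matrix (Fin 2) (Fin 2) F) 0 0) (diagonal fun i => (g i : Matrix (Fin 2) (Fin 2) F) 0 1)
    (diagonal fun i => (g i : Matrix (Fin 2) (Fin 2) F) 1 0) (diagonal fun i => (g i : Matrix (Fin 2) (Fin 2) F) 1 1), by
    rw [SymplecticGroup.fromBlocks_mem_iff]
    simp only [diagonal_transpose, diagonal_mul_diagonal]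
    refine ⟨?_, ?_, ?_⟩
    · congr 1; funext i; ring
    · congr 1; funext i; ring
    · rw [diagonal_sub, ← diagonal_one]
      congr 1; funext i
      have := (g i).2
      rw [Matrix.det_fin_two] at this
      linear_combination this⟩
  map_one' := by
    apply Subtype.ext
    simp
  map_mul' g h := by
    apply Subtype.ext
    show fromBlocks _ _ _ _ = fromBlocks _ _ _ _ * fromBlocks _ _ _ _
    rw [fromBlocks_multiply]
    simp only [diagonal_mul_diagonal, diagonal_add, Pi.mul_apply, Matrix.SpecialLinearGroup.coe_mul, Matrix.mul_apply, Fin.sum_univ_two]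

lemma dg_inj : Function.Injective (dg (F := F) (n := n)) := by
  intro g h hgh
  have h1 : fromBlocks _ _ _ _ = fromBlocks _ _ _ _ := congrArg Subtype.val hgh
  rw [fromBlocks_inj] at h1
  funext i
  apply Matrix.SpecialLinearGroup.ext
  intro a b
  obtain ⟨h1, h2, h3, h4⟩ := h1
  fin_cases a <;> fin_cases b
  · exact congrFun (diagonal_injective h1) i
  · exact congrFun (diagonal_injective h2) i
  · exact congrFun (diagonal_injective h3) i
  · exact congrFun (diagonal_injective h4) i

end sp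

lemma exists_c (F : Type*) [Field F] [Fintype F] : ∃ c : Matrix.SpecialLinearGroup (Fin 2) F, orderOf c = Fintype.card F + 1 := by
  classical
  obtain ⟨t, ht⟩ := exists_elliptic F
  set d : Matrix.SpecialLinearGroup (Fin 2) F := cform t 1 one_ne_zero with hd
  have htr : (d : Matrix (Fin 2) (Fin 2) F).trace = t := cform_trace _ _ _
  have hell : ∀ c : F, c ^ 2 - c * (d : Matrix (Fin 2) (Fin 2) F).trace + 1 ≠ 0 := by rw [htr]; exact ht
  have hc := card_cent_sl2_ell d hell
  haveI := cent_cyclic_ell hell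
  obtain ⟨c, hcg⟩ := IsCyclic.exists_generator (α := Subgroup.centralizer ({d} : Set (Matrix.SpecialLinearGroup (Fin 2) F)))
  exact ⟨c, by rw [Subgroup.orderOf_coe, orderOf_eq_card_of_forall_mem_zpowers hcg, hc]⟩

theorem sp_min {F : Type*} [Field F] [Fintype F] {n d : ℕ} (ρ : ↥(Matrix.symplecticGroup (Fin n) F) →* GL (Fin d) F)
    (hρ : Function.Injective ρ) : 2 * n ≤ d := by
  classical
  obtain ⟨c, hc⟩ := exists_c F
  let C := Subgroup.zpowers c
  have hCcomm : ∀ a b : C, a * b = b * a := by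
    rintro ⟨a, i, rfl⟩ ⟨b, j, rfl⟩
    apply Subtype.ext
    show c ^ i * c ^ j = c ^ j * c ^ i
    rw [← _root_.zpow_add, ← _root_.zpow_add, add_comm]
  letI : CommGroup C := { (inferInstance : Group C) with mul_comm := hCcomm }
  set m' := orderOf (c ^ 2) with hm'
  have hm'0 : 0 < m' := orderOf_pos _
  have hq3 : 3 ≤ Fintype.card F + 1 := by have : 1 < Fintype.card F := Fintype.one_lt_card; omega
  have hm'2 : 1 < m' := by
    by_contra hcon
    have h1 : m' = 1 := by omega
    rw [hm', orderOf_eq_one_iff] at h1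
    have := Nat.le_of_dvd (by norm_num) (orderOf_dvd_of_pow_eq_one h1)
    omega
  let f : (Fin n → C) →* Matrix (Fin d) (Fin d) F :=
    (Units.coeHom (Matrix (Fin d) (Fin d) F)).comp (ρ.comp (dg.comp (Pi.monoidHom (fun i => C.subtype.comp (Pi.evalMonoidHom (fun _ => C) i)))))
  have hf : Function.Injective f := by
    intro a b h
    have h1 := dg_inj (hρ (Units.ext h))
    funext i
    apply Subtype.ext
    exact congrFun h1 i
  have hCq : ∀ t : C, t ^ (Fintype.card F + 1) = 1 := by
    rintro ⟨t, k, rfl⟩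
    apply Subtype.ext
    show (c ^ k) ^ (Fintype.card F + 1) = 1
    rw [← hc, ← zpow_natCast, ← _root_.zpow_mul, mul_comm, _root_.zpow_mul, zpow_natCast, pow_orderOf_eq_one, _root_.one_zpow]
  have hCm : ∀ t : C, (t ^ 2) ^ m' = 1 := by
    rintro ⟨t, k, rfl⟩
    apply Subtype.ext
    show ((c ^ k) ^ 2) ^ m' = 1
    have : (c ^ k) ^ 2 = (c ^ 2) ^ k := by
      rw [← zpow_natCast, ← zpow_natCast, ← _root_.zpow_mul, ← _root_.zpow_mul, mul_comm]
    rw [this, ← zpow_natCast ((c ^ 2) ^ k), ← _root_.zpow_mul, mul_comm, _root_.zpow_mul, zpow_natCast, hm', pow_orderOf_eq_one, _root_.one_zpow]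
  obtain ⟨r, hr, hle⟩ := ab_bound f hf (fun t => funext fun i => hCq (t i)) m' hm'0 (fun t => funext fun i => hCm (t i))
  have h1 : m' ^ n ≤ Nat.card (Set.range (fun t : Fin n → C => t ^ 2)) := by
    have h2 : Nat.card (Fin n → Subgroup.zpowers (c ^ 2)) = m' ^ n := by
      rw [Nat.card_fun, Nat.card_zpowers, Nat.card_eq_fintype_card, Fintype.card_fin]
    rw [← h2]
    have hex : ∀ u : Subgroup.zpowers (c ^ 2), ∃ t : C, ((t ^ 2 : C) : Matrix.SpecialLinearGroup (Fin 2) F) = u.1 := by
      rintro ⟨u, k, rfl⟩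
      refine ⟨⟨c ^ k, k, rfl⟩, ?_⟩
      show (c ^ k) ^ 2 = (c ^ 2) ^ k
      rw [← zpow_natCast, ← zpow_natCast, ← _root_.zpow_mul, ← _root_.zpow_mul, mul_comm]
    choose s hs using hex
    apply Nat.card_le_card_of_injective (fun u : Fin n → Subgroup.zpowers (c ^ 2) => (⟨fun i => s (u i) ^ 2, fun i => s (u i), rfl⟩ : Set.range (fun t : Fin n → C => t ^ 2)))
    intro u u' h
    funext i
    apply Subtype.ext
    rw [← hs, ← hs]
    exact congrArg Subtype.val (congrFun (congrArg Subtype.val h) i)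
  have h3 : n ≤ r := by
    have := h1.trans hle
    exact (Nat.pow_le_pow_iff_right hm'2).1 this
  omega

end Cfsg.Agent.H16.SpMin
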