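import Mathlib

set_option autoImplicit false
set_option linter.all false

namespace Cfsg.Agent.H16

open Equiv Equiv.Perm

/-- element orders of the alternating group in terms of cycle types -/
theorem mem_range_orderOf_alternating_iff (n k : ℕ) :
    (k ∈ Set.range (orderOf : alternatingGroup (Fin n) → ℕ)) ↔
      ∃ m : Multiset ℕ, m.sum ≤ n ∧ (∀ a ∈ m, 2 ≤ a) ∧ Even (m.sum + Multiset.card m) ∧ m.lcm = k := by
  constructor
  · rintro ⟨g, rfl⟩
    refine ⟨(g : Perm (Fin n)).cycleType, ?_, fun a ha => two_le_of_mem_cycleType ha, ?_, ?_⟩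
    · rw [sum_cycleType]
      exact (Finset.card_le_univ _).trans (by simp)
    · have h1 : sign (g : Perm (Fin n)) = 1 := mem_alternatingGroup.1 g.2
      rw [sign_of_cycleType] at h1
      by_contra h2
      rw [Nat.not_even_iff_odd] at h2
      rw [h2.neg_one_pow] at h1
      exact absurd h1 (by decide)
    · rw [lcm_cycleType]; exact Subgroup.orderOf_coe g
  · rintro ⟨m, h1, h2, h3, h4⟩
    obtain ⟨g, hg⟩ := (exists_with_cycleType_iff (α := Fin n) (m := m)).2 ⟨by simpa using h1, h2⟩
    have hs : g ∈ alternatingGroup (Fin n) := by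
      rw [mem_alternatingGroup, sign_of_cycleType, hg, h3.neg_one_pow]
    refine ⟨⟨g, hs⟩, ?_⟩
    rw [Subgroup.orderOf_mk, ← lcm_cycleType, hg, h4]

theorem even_sum_add_card_iff (m : Multiset ℕ) :
    Even (m.sum + Multiset.card m) ↔ Even (m.countP (fun x => Even x)) := by
  induction m using Multiset.induction_on with
  | empty => simp
  | cons a s ih =>
    rw [Multiset.sum_cons, Multiset.card_cons, Multiset.countP_cons]
    have e : a + s.sum + (Multiset.card s + 1) = (s.sum + Multiset.card s) + (a + 1) := by ring
    rw [e, Nat.even_add, ih]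
    by_cases ha : Even a
    · rw [if_pos ha, Nat.even_add_one, Nat.even_add_one]; simp [ha]
    · rw [if_neg ha, add_zero, Nat.even_add_one]
      simp [ha]

/-- weighted lower bound for the sum of a multiset -/
theorem countP_weight_le_sum (m : Multiset ℕ) (P Q : ℕ → Prop) [DecidablePred P] [DecidablePred Q] (a b : ℕ)
    (h : ∀ x ∈ m, (if P x then a else 0) + (if Q x then b else 0) ≤ x) :
    a * m.countP P + b * m.countP Q ≤ m.sum := by
  induction m using Multiset.induction_on with
  | empty => simp
  | cons c s ih =>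
    have h1 := h c (Multiset.mem_cons_self c s)
    have h2 := ih (fun x hx => h x (Multiset.mem_cons_of_mem hx))
    rw [Multiset.sum_cons, Multiset.countP_cons, Multiset.countP_cons]
    split_ifs at h1 ⊢ <;> nlinarith

/-- if a prime divides the lcm of a multiset then it divides a member -/
theorem exists_mem_dvd_of_prime_dvd_lcm {p : ℕ} (hp : p.Prime) (m : Multiset ℕ) (h : p ∣ m.lcm) :
    ∃ x ∈ m, p ∣ x := by
  induction m using Multiset.induction_on with
  | empty =>
    rw [Multiset.lcm_zero] at h
    exact absurd (Nat.dvd_one.1 h) hp.ne_one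
  | cons c s ih =>
    rw [Multiset.lcm_cons] at h
    have : p ∣ c * s.lcm := h.trans (by exact lcm_dvd_mul c s.lcm)
    rcases hp.dvd_mul.1 this with h1 | h1
    · exact ⟨c, Multiset.mem_cons_self c s, h1⟩
    · obtain ⟨x, hx, hx'⟩ := ih h1
      exact ⟨x, Multiset.mem_cons_of_mem hx, hx'⟩

/-- enumeration of the multisets with parts in `[2, b]` and sum at most `n` -/
def partsUpTo : ℕ → ℕ → List (Multiset ℕ)
  | 0, _ => [0]
  | (b + 1), n => if b = 0 then [0] else
      (List.range (n / (b + 1) + 1)).flatMap fun c =>
        (partsUpTo b (n - c * (b + 1))).map fun m => Multiset.replicate c (b + 1) + m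

theorem mem_partsUpTo (b n : ℕ) (m : Multiset ℕ) (h1 : ∀ x ∈ m, 2 ≤ x ∧ x ≤ b) (h2 : m.sum ≤ n) :
    m ∈ partsUpTo b n := by
  induction b generalizing n m with
  | zero =>
    have : m = 0 := by
      apply Multiset.eq_zero_of_forall_notMem
      intro x hx; have := h1 x hx; omega
    simp [partsUpTo, this]
  | succ b ih =>
    rw [partsUpTo]
    by_cases hb : b = 0
    · subst hb
      have : m = 0 := by
        apply Multiset.eq_zero_of_forall_notMem
        intro x hx; have := h1 x hx; omega
      simp [this]
    · rw [if_neg hb, List.mem_flatMap]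
      have hdec : m = Multiset.replicate (m.count (b + 1)) (b + 1) + m.filter (fun x => ¬ (x = b + 1)) := by
        conv_lhs => rw [← Multiset.filter_add_not (fun x => x = b + 1) m]
        congr 1
        rw [Multiset.filter_eq' m (b + 1)]
      have hsum : m.sum = (m.count (b + 1)) * (b + 1) + (m.filter (fun x => ¬ (x = b + 1))).sum := by
        conv_lhs => rw [hdec]
        rw [Multiset.sum_add, Multiset.sum_replicate, smul_eq_mul]
      refine ⟨m.count (b + 1), ?_, ?_⟩
      · rw [List.mem_range, Nat.lt_succ_iff, Nat.le_div_iff_mul_le (by omega)]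
        omega
      · rw [List.mem_map]
        refine ⟨m.filter (fun x => ¬ (x = b + 1)), ?_, hdec.symm⟩
        apply ih
        · intro x hx
          rw [Multiset.mem_filter] at hx
          have := h1 x hx.1
          have := hx.2
          omega
        · omega

theorem mem_partsUpTo' (n : ℕ) (m : Multiset ℕ) (h1 : ∀ x ∈ m, 2 ≤ x) (h2 : m.sum ≤ n) :
    m ∈ partsUpTo n n :=
  mem_partsUpTo n n m (fun x hx => ⟨h1 x hx, (Multiset.le_sum_of_mem hx).trans h2⟩) h2

end Cfsg.Agent.H16
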