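import Mathlib
import Cfsg.Agent.H17.Singer

set_option autoImplicit false
set_option linter.all false

/-! The determinant is surjective on the centralizer of a semisimple matrix over a finite field. -/

namespace Cfsg.Agent.H16

open Polynomial Module

theorem exists_commuting_det {F V : Type*} [Field F] [Finite F] [AddCommGroup V] [Module F V] [FiniteDimensional F V] [Nontrivial V]
    (φ : Module.End F V) (hsq : Squarefree (minpoly F φ)) (c : F) :
    ∃ ψ : Module.End F V, ψ * φ = φ * ψ ∧ LinearMap.det ψ = c := by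
  have hint : IsIntegral F φ := IsIntegral.of_finite F φ
  have hμ0 : minpoly F φ ≠ 0 := minpoly.ne_zero hint
  have hμu : ¬ IsUnit (minpoly F φ) := minpoly.not_isUnit F φ
  obtain ⟨π, hπ, Q, hQ⟩ := WfDvdMonoid.exists_irreducible_factor hμu hμ0
  have hcop : IsCoprime π Q := by
    rw [hπ.coprime_iff_not_dvd]
    rintro ⟨R, rfl⟩
    apply hπ.not_isUnit
    apply hsq
    exact ⟨R, by rw [hQ]; ring⟩
  set K1 := LinearMap.ker (aeval φ π) with hK1
  set K2 := LinearMap.ker (aeval φ Q) with hK2
  have hcompl : IsCompl K1 K2 := by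
    refine ⟨disjoint_ker_aeval_of_isCoprime φ hcop, ?_⟩
    rw [codisjoint_iff, sup_ker_aeval_eq_ker_aeval_mul_of_coprime φ hcop, ← hQ, minpoly.aeval]
    exact LinearMap.ker_zero
  have hne : K1 ≠ ⊥ := by
    intro h
    -- then `Q` kills `φ`
    have h1 : aeval φ Q = 0 := by
      have h2 : K2 = ⊤ := by
        have := hcompl.sup_eq_top
        rwa [h, bot_sup_eq] at this
      exact LinearMap.ker_eq_top.1 h2
    have h3 := minpoly.dvd F φ h1
    rw [hQ] at h3
    have hQ0 : Q ≠ 0 := by rintro rfl; rw [mul_zero] at hQ; exact hμ0 hQ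
    obtain ⟨R, hR⟩ := h3
    have h4 : Q * 1 = Q * (π * R) := by rw [mul_one]; nth_rewrite 1 [hR]; ring
    exact hπ.not_isUnit (IsUnit.of_mul_eq_one R (mul_left_cancel₀ hQ0 h4).symm)
  have hinv1 : ∀ v ∈ K1, φ v ∈ K1 := by
    intro v hv
    rw [hK1, LinearMap.mem_ker] at hv ⊢
    have : (aeval φ π) (φ v) = φ ((aeval φ π) v) := by
      have h5 : aeval φ π * φ = φ * aeval φ π := by
        have h6 : (aeval φ) (π * X) = (aeval φ) (X * π) := by rw [mul_comm]
        rwa [map_mul, map_mul, aeval_X] at h6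
      exact congrArg (fun f : Module.End F V => f v) h5
    rw [this, hv, map_zero]
  have hinv2 : ∀ v ∈ K2, φ v ∈ K2 := by
    intro v hv
    rw [hK2, LinearMap.mem_ker] at hv ⊢
    have : (aeval φ Q) (φ v) = φ ((aeval φ Q) v) := by
      have h5 : aeval φ Q * φ = φ * aeval φ Q := by
        have h6 : (aeval φ) (Q * X) = (aeval φ) (X * Q) := by rw [mul_comm]
        rwa [map_mul, map_mul, aeval_X] at h6
      exact congrArg (fun f : Module.End F V => f v) h5
    rw [this, hv, map_zero]
  haveI : Nontrivial K1 := Submodule.nontrivial_iff_ne_bot.2 hne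
  set φ1 : Module.End F K1 := φ.restrict hinv1 with hφ1
  have hφ1π : aeval φ1 π = 0 := by
    apply LinearMap.ext
    intro v
    apply Subtype.ext
    have h7 : ∀ (P : F[X]) (v : K1), (((aeval φ1 P) v : K1) : V) = (aeval φ P) v := by
      intro P
      induction P using Polynomial.induction_on' with
      | add p q hp hq => intro v; rw [map_add, map_add, LinearMap.add_apply, LinearMap.add_apply, Submodule.coe_add, hp, hq]
      | monomial n a =>
        intro v
        rw [aeval_monomial, aeval_monomial]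
        have h8 : ∀ n : ℕ, ∀ v : K1, (((φ1 ^ n) v : K1) : V) = (φ ^ n) v := by
          intro n
          induction n with
          | zero => intro v; simp
          | succ n ih =>
            intro v
            rw [pow_succ, pow_succ, Module.End.mul_apply, Module.End.mul_apply, ih]
            rfl
        rw [Module.End.mul_apply, Module.End.mul_apply, Module.algebraMap_end_apply, Module.algebraMap_end_apply, Submodule.coe_smul, h8]
    rw [h7, LinearMap.zero_apply]
    exact v.2
  obtain ⟨E, _, _, _, θ, α, hθ⟩ := Cfsg.Agent.H17.exists_field_of_irreducible φ1 π hπ hφ1π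
  obtain ⟨e, he⟩ := FiniteField.norm_surjective F E c
  set ψ1 : Module.End F K1 := Cfsg.Agent.H17.fieldEnd θ e with hψ1
  have hcomm1 : ψ1 * φ1 = φ1 * ψ1 := by
    apply LinearMap.ext
    intro v
    obtain ⟨x, rfl⟩ := θ.surjective v
    rw [Module.End.mul_apply, Module.End.mul_apply, hθ, hψ1, Cfsg.Agent.H17.fieldEnd_apply, Cfsg.Agent.H17.fieldEnd_apply, hθ]
    congr 1; ring
  set ε := Submodule.prodEquivOfIsCompl K1 K2 hcompl with hε
  set ψ : Module.End F V := (ε : (K1 × K2) →ₗ[F] V) ∘ₗ (ψ1.prodMap LinearMap.id) ∘ₗ (ε.symm : V →ₗ[F] (K1 × K2)) with hψ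
  have hψe : ∀ y, ψ (ε y) = ε (ψ1 y.1, y.2) := by
    intro y
    rw [hψ]
    simp
  have hφe : ∀ y : K1 × K2, φ (ε y) = ε (φ1 y.1, ⟨φ y.2, hinv2 _ y.2.2⟩) := by
    intro y
    rw [hε, Submodule.coe_prodEquivOfIsCompl', Submodule.coe_prodEquivOfIsCompl', map_add]
    rfl
  refine ⟨ψ, ?_, ?_⟩
  · apply LinearMap.ext
    intro v
    obtain ⟨y, rfl⟩ := ε.surjective v
    rw [Module.End.mul_apply, Module.End.mul_apply, hφe, hψe, hψe, hφe]
    have := congrArg (fun f : Module.End F K1 => f y.1) hcomm1
    simp only [Module.End.mul_apply] at this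
    simp only [this]
  · rw [hψ, LinearMap.det_conj, LinearMap.det_prodMap, LinearMap.det_id, mul_one, hψ1, Cfsg.Agent.H17.det_fieldEnd, he]

end Cfsg.Agent.H16
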