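import Mathlib
import Cfsg.Agent.H2.Basic
import Cfsg.Agent.H23.RankOne2

set_option autoImplicit false
set_option linter.all false

/-! Fixed points of generators of a `p`-group acting irreducibly and coprimely. -/

namespace Cfsg.Agent.H16.CopMod

variable {V R : Type*} [CommGroup V] [Group R] [MulDistribMulAction R V] {p : ℕ} [hp : Fact p.Prime]

/-- the norm map of `x` with `x ^ p = 1` -/
def nn (p : ℕ) [Fact p.Prime] (x : R) (v : V) : V := ∏ i : ZMod p, x ^ i.val • v

theorem pow_val_add {x : R} (hx : x ^ p = 1) (i j : ZMod p) : x ^ (i + j).val = x ^ i.val * x ^ j.val := by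
  rw [ZMod.val_add, ← pow_add]
  conv_rhs => rw [← Nat.mod_add_div (i.val + j.val) p, pow_add, pow_mul, hx, one_pow, mul_one]

theorem pow_val_mul {x : R} (hx : x ^ p = 1) (i j : ZMod p) : x ^ (i * j).val = x ^ (i.val * j.val) := by
  rw [ZMod.val_mul]
  conv_rhs => rw [← Nat.mod_add_div (i.val * j.val) p, pow_add, pow_mul, hx, one_pow, mul_one]

theorem pow_val_one {x : R} : x ^ (1 : ZMod p).val = x := by
  rw [ZMod.val_one, pow_one]

theorem nn_mul (x : R) (v w : V) : nn p x (v * w) = nn p x v * nn p x w := by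
  unfold nn
  rw [← Finset.prod_mul_distrib]
  apply Finset.prod_congr rfl
  intro i _
  rw [smul_mul']

theorem nn_one (x : R) : nn p x (1 : V) = 1 := by
  unfold nn
  simp

theorem nn_fixed {x : R} (hx : x ^ p = 1) (v : V) : x • nn p x v = nn p x v := by
  unfold nn
  rw [Finset.smul_prod']
  rw [← Equiv.prod_comp (Equiv.addRight (1 : ZMod p)) (fun i => x ^ i.val • v)]
  apply Finset.prod_congr rfl
  intro i _
  rw [Equiv.coe_addRight, pow_val_add hx, pow_val_one, smul_smul]
  congr 1
  exact (Commute.self_pow x _).eq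

theorem pow_fix {x : R} {v : V} (h : x • v = v) (n : ℕ) : x ^ n • v = v := by
  induction n with
  | zero => simp
  | succ n ih => rw [pow_succ, mul_smul, h, ih]

theorem nn_of_fixed {x : R} {v : V} (h : x • v = v) : nn p x v = v ^ p := by
  unfold nn
  rw [Finset.prod_congr rfl (fun i _ => pow_fix h i.val), Finset.prod_const, Finset.card_univ, ZMod.card]

theorem nn_conj (c x : R) (v : V) : c • nn p x v = nn p (c * x * c⁻¹) (c • v) := by
  unfold nn
  rw [Finset.smul_prod']
  apply Finset.prod_congr rfl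
  intro i _
  rw [smul_smul, smul_smul, conj_pow]
  congr 1
  group

/-- scaling the exponent -/
theorem nn_scale {z : R} (hz : z ^ p = 1) (k : ZMod p) (hk : k ≠ 0) (v : V) : ∏ i : ZMod p, z ^ (i * k).val • v = nn p z v := by
  unfold nn
  exact Equiv.prod_comp (Equiv.mulRight₀ k hk) (fun i : ZMod p => z ^ i.val • v)

/-- the standing assumptions -/
structure Irr (V R : Type*) [CommGroup V] [Group R] [MulDistribMulAction R V] (p : ℕ) : Prop where
  faith : ∀ g : R, (∀ v : V, g • v = v) → g = 1
  irr : ∀ W : Subgroup V, (∀ g : R, ∀ v ∈ W, g • v ∈ W) → W = ⊥ ∨ W = ⊤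

/-- the fixed points of an element -/
def fix (x : R) : Subgroup V where
  carrier := {v | x • v = v}
  one_mem' := smul_one x
  mul_mem' := by
    intro a b ha hb
    change x • (a * b) = a * b
    rw [smul_mul', ha, hb]
  inv_mem' := by
    intro a ha
    change x • a⁻¹ = a⁻¹
    rw [smul_inv', ha]

theorem mem_fix {x : R} {v : V} : v ∈ (fix x : Subgroup V) ↔ x • v = v := Iff.rfl

/-- central elements act without fixed points -/
theorem Irr.central (h : Irr V R p) {z : R} (hz : z ≠ 1) (hc : ∀ g : R, g * z = z * g) : ∀ v : V, z • v = v → v = 1 := by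
  rcases h.irr (fix z) (fun g v hv => by
    rw [mem_fix] at hv ⊢
    rw [← mul_smul, ← hc, mul_smul, hv]) with h1 | h1
  · intro v hv
    have : v ∈ (fix z : Subgroup V) := hv
    rw [h1, Subgroup.mem_bot] at this
    exact this
  · exfalso
    apply hz
    apply h.faith
    intro v
    have : v ∈ (fix z : Subgroup V) := by rw [h1]; exact Subgroup.mem_top _
    exact this

theorem Irr.nn_central (h : Irr V R p) {z : R} (hz : z ≠ 1) (hzp : z ^ p = 1) (hc : ∀ g : R, g * z = z * g) (v : V) : nn p z v = 1 :=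
  h.central hz hc _ (nn_fixed hzp v)

/-- the key identity -/
theorem sum_lines {a z : R} (ha : a ^ p = 1) (hz : z ^ p = 1) (haz : a * z = z * a) (hn : ∀ v : V, nn p z v = 1) (v : V) :
    ∏ i : ZMod p, nn p (a * z ^ i.val) v = v ^ p := by
  unfold nn
  rw [Finset.prod_comm]
  have hcomm : Commute a z := haz
  have h1 : ∀ i j : ZMod p, (a * z ^ i.val) ^ j.val • v = a ^ j.val • (z ^ (i * j).val • v) := by
    intro i j
    rw [(hcomm.pow_right _).mul_pow, mul_smul, pow_val_mul hz, pow_mul]
  rw [Finset.prod_eq_single (0 : ZMod p)]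
  · rw [Finset.prod_congr rfl (fun i _ => h1 i 0)]
    simp
  · intro j _ hj
    rw [Finset.prod_congr rfl (fun i _ => h1 i j), ← Finset.smul_prod', nn_scale hz j hj, hn, smul_one]
  · intro h; exact absurd (Finset.mem_univ _) h

theorem pow_p_inj [Finite V] (hcop : (Nat.card V).Coprime p) {v : V} (h : v ^ p = 1) : v = 1 := by
  have h1 : orderOf v ∣ p := orderOf_dvd_of_pow_eq_one h
  have h2 : orderOf v ∣ Nat.card V := orderOf_dvd_natCard v
  have h3 : orderOf v ∣ 1 := by
    rw [← hcop.gcd_eq_one]
    exact Nat.dvd_gcd h2 h1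
  exact orderOf_eq_one_iff.1 (Nat.dvd_one.1 h3)

/-- the module with a non-central elementary abelian subgroup -/
theorem bound_aux [Finite V] (hcop : (Nat.card V).Coprime p) (h : Irr V R p) {a z c : R} (ha : a ^ p = 1) (hz : z ^ p = 1) (hz1 : z ≠ 1)
    (hzc : ∀ g : R, g * z = z * g) {κ : ZMod p} (hκ : κ ≠ 0) (hc : c * a * c⁻¹ = a * z ^ κ.val) :
    Nat.card (fix c : Subgroup V) ^ p ≤ Nat.card V := by
  classical
  have hn : ∀ v : V, nn p z v = 1 := fun v => h.nn_central hz1 hz hzc v
  have hcomm : a * z = z * a := hzc a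
  -- conjugates
  have hconj : ∀ i : ℕ, c ^ i * a * (c ^ i)⁻¹ = a * z ^ (κ.val * i) := by
    intro i
    induction i with
    | zero => simp
    | succ i ih =>
      have e1 : c ^ (i + 1) * a * (c ^ (i + 1))⁻¹ = c * (c ^ i * a * (c ^ i)⁻¹) * c⁻¹ := by rw [pow_succ']; group
      have e2 : Commute c (z ^ (κ.val * i)) := (show Commute c z from hzc c).pow_right _
      rw [e1, ih]
      have e3 : c * (a * z ^ (κ.val * i)) * c⁻¹ = (c * a * c⁻¹) * (c * z ^ (κ.val * i) * c⁻¹) := by group
      rw [e3, hc, e2.eq, mul_inv_cancel_right, mul_assoc, ← pow_add]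
      congr 2
      ring
  have hconj' : ∀ i : ZMod p, c ^ i.val * a * (c ^ i.val)⁻¹ = a * z ^ (κ * i).val := by
    intro i
    rw [hconj, pow_val_mul hz]
  obtain ⟨b, hb⟩ : ∃ b : ZMod p → R, ∀ i, b i = a * z ^ (κ * i).val := ⟨_, fun _ => rfl⟩
  have hbp : ∀ i, b i ^ p = 1 := by
    intro i
    have hcm : Commute a z := hcomm
    rw [hb, (hcm.pow_right _).mul_pow, ha, one_mul, ← pow_mul, mul_comm, pow_mul, hz, one_pow]
  -- fixed points of `c` inject into those of `a`
  have hA : Nat.card (fix c : Subgroup V) ≤ Nat.card (fix a : Subgroup V) := by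
    apply Nat.card_le_card_of_injective (fun v => (⟨nn p a v.1, mem_fix.2 (nn_fixed ha v.1)⟩ : (fix a : Subgroup V)))
    intro v w hvw
    have h1 : nn p a v.1 = nn p a w.1 := congrArg Subtype.val hvw
    have h2 : nn p a (v.1 * (w.1)⁻¹) = 1 := by
      rw [nn_mul]
      have : nn p a (w.1)⁻¹ = (nn p a w.1)⁻¹ := by
        rw [eq_inv_iff_mul_eq_one, ← nn_mul, inv_mul_cancel, nn_one]
      rw [this, h1, mul_inv_cancel]
    obtain ⟨u, hu⟩ : ∃ u, u = v.1 * (w.1)⁻¹ := ⟨_, rfl⟩
    rw [← hu] at h2
    have hcu : c • u = u := by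
      rw [hu]
      exact (fix c : Subgroup V).mul_mem v.2 ((fix c : Subgroup V).inv_mem w.2)
    have h3 : ∀ i : ZMod p, nn p (a * z ^ (κ * i).val) u = 1 := by
      intro i
      have h4 := nn_conj (p := p) (c ^ i.val) a u
      rw [hconj', h2, smul_one, pow_fix hcu] at h4
      exact h4.symm
    have h5 := sum_lines ha hz hcomm hn u
    have h6 : ∏ i : ZMod p, nn p (a * z ^ i.val) u = 1 := by
      rw [← Equiv.prod_comp (Equiv.mulLeft₀ κ hκ) (fun i : ZMod p => nn p (a * z ^ i.val) u)]
      exact Finset.prod_eq_one (fun i _ => h3 i)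
    rw [h6] at h5
    have h7 := pow_p_inj hcop h5.symm
    rw [hu] at h7
    exact Subtype.ext (mul_inv_eq_one.1 h7)
  -- the product of the fixed points of the conjugates
  have hB : Nat.card (fix a : Subgroup V) ^ p ≤ Nat.card V := by
    have hcard : Nat.card (ZMod p → (fix a : Subgroup V)) = Nat.card (fix a : Subgroup V) ^ p := by
      rw [Nat.card_fun, Nat.card_zmod]
    rw [← hcard]
    apply Nat.card_le_card_of_injective (fun f : ZMod p → (fix a : Subgroup V) => ∏ i : ZMod p, c ^ i.val • (f i).1)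
    intro f g hfg
    have hq : ∏ i : ZMod p, c ^ i.val • ((f i).1 * ((g i).1)⁻¹) = 1 := by
      have : ∀ i : ZMod p, c ^ i.val • ((f i).1 * ((g i).1)⁻¹) = (c ^ i.val • (f i).1) * (c ^ i.val • (g i).1)⁻¹ := by
        intro i; rw [smul_mul', smul_inv']
      rw [Finset.prod_congr rfl (fun i _ => this i), Finset.prod_mul_distrib, Finset.prod_inv_distrib]
      have h1 : ∏ i : ZMod p, c ^ i.val • (f i).1 = ∏ i : ZMod p, c ^ i.val • (g i).1 := hfg
      rw [h1, mul_inv_cancel]
    obtain ⟨w, hw⟩ : ∃ w : ZMod p → V, ∀ i, w i = c ^ i.val • ((f i).1 * ((g i).1)⁻¹) := ⟨_, fun _ => rfl⟩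
    have hwfix : ∀ i, b i • w i = w i := by
      intro i
      have h1 : a • ((f i).1 * ((g i).1)⁻¹) = (f i).1 * ((g i).1)⁻¹ :=
        (fix a : Subgroup V).mul_mem (f i).2 ((fix a : Subgroup V).inv_mem (g i).2)
      rw [hb, ← hconj', hw, smul_smul]
      have e1 : c ^ i.val * a * (c ^ i.val)⁻¹ * c ^ i.val = c ^ i.val * a := by group
      rw [e1, mul_smul, h1]
    have hprod : ∏ i : ZMod p, w i = 1 := by
      rw [Finset.prod_congr rfl (fun i _ => hw i)]; exact hq
    have hoff : ∀ i j : ZMod p, i ≠ j → nn p (b j) (w i) = 1 := by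
      intro i j hij
      have hk : κ * (j - i) ≠ 0 := mul_ne_zero hκ (sub_ne_zero.2 hij.symm)
      have hbj : b j = b i * z ^ (κ * (j - i)).val := by
        rw [hb, hb, mul_assoc, ← pow_val_add hz]
        congr 3
        ring
      have hcb : Commute (b i) z := hzc (b i)
      unfold nn
      have h1 : ∀ t : ZMod p, b j ^ t.val • w i = z ^ (t * (κ * (j - i))).val • w i := by
        intro t
        rw [hbj, (hcb.pow_right _).mul_pow, ((hcb.pow_right _).pow_pow t.val t.val).eq, mul_smul, pow_fix (hwfix i),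
          mul_comm t, pow_val_mul hz (κ * (j - i)) t, pow_mul]
      rw [Finset.prod_congr rfl (fun t _ => h1 t), nn_scale hz _ hk, hn]
    have hdiag : ∀ j : ZMod p, w j = 1 := by
      intro j
      have h1 : nn p (b j) (∏ i : ZMod p, w i) = nn p (b j) (w j) := by
        have h2 : ∀ s : Finset (ZMod p), nn p (b j) (∏ i ∈ s, w i) = ∏ i ∈ s, nn p (b j) (w i) := by
          intro s
          induction s using Finset.induction_on with
          | empty => simp [nn_one]
          | insert i s his ih => rw [Finset.prod_insert his, Finset.prod_insert his, nn_mul, ih]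
        rw [h2, Finset.prod_eq_single j]
        · intro i _ hij; exact hoff i j hij
        · intro h; exact absurd (Finset.mem_univ _) h
      rw [hprod, nn_one, nn_of_fixed (hwfix j)] at h1
      exact pow_p_inj hcop h1.symm
    funext i
    have h1 := hdiag i
    rw [hw] at h1
    have h2 : (f i).1 * ((g i).1)⁻¹ = 1 := by
      have := congrArg (fun y => (c ^ i.val)⁻¹ • y) h1
      simpa using this
    exact Subtype.ext (mul_inv_eq_one.1 h2)
  exact (Nat.pow_le_pow_left hA p).trans hB

/-- the main bound -/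
theorem bound [Finite V] [Finite R] [Nontrivial V] (hp2 : p ≠ 2) (hR : IsPGroup p R) (hcop : (Nat.card V).Coprime p) (h : Irr V R p)
    (hR1 : Nontrivial R) (C : Set R) (hC : Subgroup.closure C = ⊤) :
    ∃ c ∈ C, Nat.card (fix c : Subgroup V) ^ p ≤ Nat.card V := by
  by_cases hcyc : IsCyclic R
  · have hcomm : ∀ g k : R, g * k = k * g := by
      intro g k
      letI := hcyc.commGroup
      exact mul_comm g k
    have : ∃ c ∈ C, c ≠ 1 := by
      by_contra hcon
      push Not at hcon
      have h1 : Subgroup.closure C ≤ ⊥ := by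
        rw [Subgroup.closure_le]
        intro c hc
        rw [hcon c hc]; exact Subgroup.one_mem _
      rw [hC] at h1
      obtain ⟨g, hg⟩ := exists_ne (1 : R)
      exact hg ((Subgroup.mem_bot).1 (h1 (Subgroup.mem_top g)))
    obtain ⟨c, hc, hc1⟩ := this
    refine ⟨c, hc, ?_⟩
    have h1 : (fix c : Subgroup V) = ⊥ := by
      rw [eq_bot_iff]
      intro v hv
      rw [Subgroup.mem_bot]
      exact h.central hc1 (fun g => hcomm g c) v hv
    rw [h1, Subgroup.card_bot, one_pow]
    exact Nat.card_pos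
  · obtain ⟨A, hA, hAcard, hAp⟩ := H23.exists_normal_sq_of_odd hR hp2 hcyc
    haveI := hA
    -- a central element in `A`
    have hAne : A ≠ ⊥ := by
      rintro rfl
      rw [Subgroup.card_bot] at hAcard
      exact absurd hAcard.symm (Nat.one_lt_pow (by norm_num) hp.out.one_lt).ne'
    have h1 := H2.inf_center_ne_bot_of_normal hR A hAne
    obtain ⟨z0, hz0⟩ := Subgroup.ne_bot_iff_exists_ne_one.1 h1
    obtain ⟨z, hzdef⟩ : ∃ y : R, y = z0.1 := ⟨_, rfl⟩
    have hzA : z ∈ A := by rw [hzdef]; exact z0.2.1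
    have hz1 : z ≠ 1 := by
      rw [hzdef]
      exact fun e => hz0 (Subtype.ext e)
    have hzc : ∀ g : R, g * z = z * g := by
      rw [hzdef]
      exact fun g => (Subgroup.mem_center_iff.1 z0.2.2 g)
    have hzp : z ^ p = 1 := hAp z hzA
    have hord : orderOf z = p := orderOf_eq_prime hzp hz1
    haveI hZn : (Subgroup.zpowers z).Normal := by
      constructor
      intro x hx g
      obtain ⟨k, rfl⟩ := Subgroup.mem_zpowers_iff.1 hx
      have e2 : Commute g (z ^ k) := (show Commute g z from hzc g).zpow_right _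
      rw [e2.eq, mul_inv_cancel_right]
      exact Subgroup.mem_zpowers_iff.2 ⟨k, rfl⟩
    -- a non-trivial central element of the quotient
    have hQ : IsPGroup p (R ⧸ Subgroup.zpowers z) := hR.to_quotient _
    haveI : (A.map (QuotientGroup.mk' (Subgroup.zpowers z))).Normal := hA.map _ (QuotientGroup.mk'_surjective _)
    have hAb : A.map (QuotientGroup.mk' (Subgroup.zpowers z)) ≠ ⊥ := by
      intro hbot
      have h2 : A ≤ Subgroup.zpowers z := by
        intro x hx
        have h3 : QuotientGroup.mk' (Subgroup.zpowers z) x ∈ A.map (QuotientGroup.mk' (Subgroup.zpowers z)) := ⟨x, hx, rfl⟩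
        rw [hbot, Subgroup.mem_bot] at h3
        exact (QuotientGroup.eq_one_iff x).1 h3
      have h3 := Nat.card_le_card_of_injective _ (Subgroup.inclusion_injective h2)
      rw [hAcard, Nat.card_zpowers, hord] at h3
      have := hp.out.one_lt
      nlinarith
    have h2 := H2.inf_center_ne_bot_of_normal hQ _ hAb
    obtain ⟨y0, hy0⟩ := Subgroup.ne_bot_iff_exists_ne_one.1 h2
    obtain ⟨a, haA, hay⟩ := y0.2.1
    have haZ : a ∉ Subgroup.zpowers z := by
      intro h3
      apply hy0
      apply Subtype.ext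
      rw [← hay]
      exact (QuotientGroup.eq_one_iff a).2 h3
    have hcen : ∀ g : R, a⁻¹ * (g * a * g⁻¹) ∈ Subgroup.zpowers z := by
      intro g
      have h3 := Subgroup.mem_center_iff.1 y0.2.2 (QuotientGroup.mk' _ g)
      rw [← hay, ← map_mul, ← map_mul] at h3
      have h4 := QuotientGroup.eq.1 h3.symm
      have e1 : (a * g)⁻¹ * (g * a) = g⁻¹ * (a⁻¹ * (g * a * g⁻¹)) * g := by group
      rw [e1] at h4
      have h5 := hZn.conj_mem _ h4 g
      have e2 : g * (g⁻¹ * (a⁻¹ * (g * a * g⁻¹)) * g) * g⁻¹ = a⁻¹ * (g * a * g⁻¹) := by group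
      rwa [e2] at h5
    have hap : a ^ p = 1 := hAp a haA
    have hn : ∀ v : V, nn p z v = 1 := fun v => h.nn_central hz1 hzp hzc v
    -- some `c` does not commute with `a`
    have hex : ∃ c ∈ C, c * a ≠ a * c := by
      by_contra hcon
      push Not at hcon
      have h3 : ∀ g : R, g * a = a * g := by
        intro g
        have hg : g ∈ Subgroup.closure C := by rw [hC]; exact Subgroup.mem_top _
        have h4 : Subgroup.closure C ≤ Subgroup.centralizer {a} := by
          rw [Subgroup.closure_le]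
          intro c hc
          exact Subgroup.mem_centralizer_singleton_iff.2 (hcon c hc)
        exact Subgroup.mem_centralizer_singleton_iff.1 (h4 hg)
      obtain ⟨v, hv⟩ := exists_ne (1 : V)
      apply hv
      apply pow_p_inj hcop
      rw [← sum_lines hap hzp (hzc a) hn v]
      apply Finset.prod_eq_one
      intro i _
      apply h.nn_central
      · intro h5
        apply haZ
        have : a = (z ^ i.val)⁻¹ := eq_inv_of_mul_eq_one_left h5
        rw [this]
        exact Subgroup.inv_mem _ (Subgroup.pow_mem _ (Subgroup.mem_zpowers z) _)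
      · have hcm : Commute a z := hzc a
        rw [(hcm.pow_right _).mul_pow, hap, one_mul, ← pow_mul, mul_comm, pow_mul, hzp, one_pow]
      · intro g
        have e2 : Commute g (z ^ i.val) := (show Commute g z from hzc g).pow_right _
        have e3 : Commute g (a * z ^ i.val) := (show Commute g a from h3 g).mul_right e2
        exact e3.eq
    obtain ⟨c, hcC, hca⟩ := hex
    refine ⟨c, hcC, ?_⟩
    have h3 := hcen c
    rw [← mem_powers_iff_mem_zpowers] at h3
    obtain ⟨k, hk⟩ := h3
    have hk' : z ^ k = a⁻¹ * (c * a * c⁻¹) := hk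
    have hmod : z ^ (k : ZMod p).val = z ^ k := by
      rw [ZMod.val_natCast]
      conv_rhs => rw [← Nat.mod_add_div k p, pow_add, pow_mul, hzp, one_pow, mul_one]
    have hc' : c * a * c⁻¹ = a * z ^ (k : ZMod p).val := by rw [hmod, hk']; group
    apply bound_aux hcop h hap hzp hz1 hzc (κ := (k : ZMod p)) _ hc'
    intro h0
    rw [h0, ZMod.val_zero, pow_zero, mul_one] at hc'
    apply hca
    rw [mul_inv_eq_iff_eq_mul] at hc'
    exact hc'

end Cfsg.Agent.H16.CopMod
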