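import Mathlib
import Cfsg.Agent.H16.CopMod
import Cfsg.Agent.H1.Coprime

set_option autoImplicit false
set_option linter.all false

/-! Coprime action where conjugates of generators generate `p`-groups. -/

namespace Cfsg.Agent.H16.CopMod

variable {G : Type*} [Group G]

/-- invariance under conjugation by `P` -/
def InvP (P L : Subgroup G) : Prop := ∀ g ∈ P, ∀ x ∈ L, g * x * g⁻¹ ∈ L

/-- the product `LP` -/
def LP (P L : Subgroup G) (h : InvP P L) : Subgroup G where
  carrier := {k | ∃ w ∈ L, ∃ g ∈ P, k = w * g}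
  one_mem' := ⟨1, L.one_mem, 1, P.one_mem, by simp⟩
  mul_mem' := by
    rintro _ _ ⟨w, hw, g, hg, rfl⟩ ⟨w', hw', g', hg', rfl⟩
    exact ⟨w * (g * w' * g⁻¹), L.mul_mem hw (h g hg w' hw'), g * g', P.mul_mem hg hg', by group⟩
  inv_mem' := by
    rintro _ ⟨w, hw, g, hg, rfl⟩
    exact ⟨g⁻¹ * w⁻¹ * g⁻¹⁻¹, h _ (P.inv_mem hg) _ (L.inv_mem hw), g⁻¹, P.inv_mem hg, by group⟩

variable {p : ℕ} [hp : Fact p.Prime]

theorem inf_triv [Finite G] {P L : Subgroup G} (hP : IsPGroup p P) (hL : (Nat.card L).Coprime p) {x : G} (h1 : x ∈ P) (h2 : x ∈ L) : x = 1 := by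
  obtain ⟨k, hk⟩ := hP ⟨x, h1⟩
  have hk' : x ^ p ^ k = 1 := congrArg Subtype.val hk
  have e1 : orderOf x ∣ p ^ k := orderOf_dvd_of_pow_eq_one hk'
  have e2 : orderOf x ∣ Nat.card L := by
    have := orderOf_dvd_natCard (⟨x, h2⟩ : L)
    rwa [← Subgroup.orderOf_coe] at this
  have e3 : orderOf x ∣ 1 := by
    rw [← (Nat.Coprime.pow_right k hL).gcd_eq_one]
    exact Nat.dvd_gcd e2 e1
  exact orderOf_eq_one_iff.1 (Nat.dvd_one.1 e3)

/-- Sylow's theorem in `LP` -/
theorem conj_into [Finite G] {P L : Subgroup G} (hP : IsPGroup p P) (hL : (Nat.card L).Coprime p) (h : InvP P L) {S : Subgroup G}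
    (hS : IsPGroup p S) (hSK : S ≤ LP P L h) : ∃ w ∈ L, ∀ s ∈ S, w⁻¹ * s * w ∈ P := by
  obtain ⟨K, hK⟩ : ∃ K, K = LP P L h := ⟨_, rfl⟩
  have hPK : P ≤ K := fun g hg => by rw [hK]; exact ⟨1, L.one_mem, g, hg, by simp⟩
  have hP' : IsPGroup p (P.subgroupOf K) := hP.comap_of_injective K.subtype K.subtype_injective
  let PS : Sylow p K := {
    toSubgroup := P.subgroupOf K
    isPGroup' := hP'
    is_maximal' := by
      intro Q hQ hPQ
      apply le_antisymm _ hPQ
      rintro ⟨q, hq⟩ hqQ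
      rw [Subgroup.mem_subgroupOf]
      have hq2 := hq
      rw [hK] at hq2
      obtain ⟨w, hw, g, hg, e⟩ := hq2
      have hgQ : (⟨g, hPK hg⟩ : K) ∈ Q := hPQ (by rw [Subgroup.mem_subgroupOf]; exact hg)
      have hwQ : (⟨q, hq⟩ : K) * (⟨g, hPK hg⟩ : K)⁻¹ ∈ Q := Q.mul_mem hqQ (Q.inv_mem hgQ)
      have hw1 : ((⟨q, hq⟩ : K) * (⟨g, hPK hg⟩ : K)⁻¹ : K) = (w : G) := by
        change q * g⁻¹ = w
        rw [e]; group
      have hQG : IsPGroup p (Q.map K.subtype) := hQ.map _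
      have hwm : w ∈ Q.map K.subtype := ⟨_, hwQ, hw1⟩
      have := inf_triv hQG hL hwm hw
      change q ∈ P
      rw [e, this, one_mul]; exact hg }
  have hS' : IsPGroup p (S.subgroupOf K) := hS.comap_of_injective K.subtype K.subtype_injective
  obtain ⟨T, hT⟩ := hS'.exists_le_sylow
  obtain ⟨k, hk⟩ := MulAction.exists_smul_eq K PS T
  obtain ⟨w, hw, g, hg, e⟩ : (k : G) ∈ LP P L h := hK.le k.2
  refine ⟨w, hw, fun s hs => ?_⟩
  have hsK : s ∈ K := by rw [hK]; exact hSK hs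
  have h1 : (⟨s, hsK⟩ : K) ∈ (T : Subgroup K) := hT (by rw [Subgroup.mem_subgroupOf]; exact hs)
  rw [← hk, Sylow.coe_subgroup_smul, Subgroup.mem_pointwise_smul_iff_inv_smul_mem] at h1
  have h2 : k⁻¹ * ⟨s, hsK⟩ * k ∈ P.subgroupOf K := by
    have e1 : (MulAut.conj k)⁻¹ • (⟨s, hsK⟩ : K) = k⁻¹ * ⟨s, hsK⟩ * k := by
      rw [← map_inv]
      change MulAut.conj k⁻¹ _ = _
      rw [MulAut.conj_apply, inv_inv]
    rw [← e1]; exact h1
  rw [Subgroup.mem_subgroupOf] at h2
  have h3 : (k : G)⁻¹ * s * k ∈ P := h2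
  rw [e] at h3
  have e2 : w⁻¹ * s * w = g * ((w * g)⁻¹ * s * (w * g)) * g⁻¹ := by group
  rw [e2]
  exact P.mul_mem (P.mul_mem hg h3) (P.inv_mem hg)

/-- the factorization -/
theorem factor [Finite G] {P L : Subgroup G} (hP : IsPGroup p P) (hL : (Nat.card L).Coprime p) (h : InvP P L) {c d x : G}
    (hc : c ∈ P) (hd : d ∈ P) (hx : x ∈ L) (hS : IsPGroup p (Subgroup.closure ({x * c * x⁻¹, d} : Set G))) :
    ∃ w ∈ L, ∃ u ∈ L, x = w * u ∧ d * w = w * d ∧ c * u = u * c := by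
  have hSK : Subgroup.closure ({x * c * x⁻¹, d} : Set G) ≤ LP P L h := by
    rw [Subgroup.closure_le]
    rintro y (rfl | rfl)
    · refine ⟨x * (c * x⁻¹ * c⁻¹), L.mul_mem hx (h c hc _ (L.inv_mem hx)), c, hc, by group⟩
    · exact ⟨1, L.one_mem, y, hd, by simp⟩
  obtain ⟨w, hw, hws⟩ := conj_into hP hL h hS hSK
  have h1 := hws d (Subgroup.subset_closure (Or.inr rfl))
  have h2 := hws (x * c * x⁻¹) (Subgroup.subset_closure (Or.inl rfl))
  refine ⟨w, hw, w⁻¹ * x, L.mul_mem (L.inv_mem hw) hx, by group, ?_, ?_⟩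
  · have h3 : w⁻¹ * d * w * d⁻¹ ∈ P := P.mul_mem h1 (P.inv_mem hd)
    have h4 : w⁻¹ * d * w * d⁻¹ ∈ L := by
      have : w⁻¹ * d * w * d⁻¹ = w⁻¹ * (d * w * d⁻¹) := by group
      rw [this]
      exact L.mul_mem (L.inv_mem hw) (h d hd w hw)
    have h5 := inf_triv hP hL h3 h4
    have : d * w = w * (w⁻¹ * d * w * d⁻¹) * d := by group
    rw [this, h5, mul_one]
  · obtain ⟨u, hu⟩ : ∃ u, u = w⁻¹ * x := ⟨_, rfl⟩
    have huL : u ∈ L := by rw [hu]; exact L.mul_mem (L.inv_mem hw) hx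
    have h3 : u * c * u⁻¹ * c⁻¹ ∈ P := by
      have e1 : w⁻¹ * (x * c * x⁻¹) * w = u * c * u⁻¹ := by rw [hu]; group
      rw [e1] at h2
      exact P.mul_mem h2 (P.inv_mem hc)
    have h4 : u * c * u⁻¹ * c⁻¹ ∈ L := by
      have : u * c * u⁻¹ * c⁻¹ = u * (c * u⁻¹ * c⁻¹) := by group
      rw [this]
      exact L.mul_mem huL (h c hc _ (L.inv_mem huL))
    have h5 := inf_triv hP hL h3 h4
    rw [← hu]
    have h6 : u * c * u⁻¹ * c⁻¹ * (c * u) = u * c := by group
    rw [h5, one_mul] at h6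
    exact h6

/-- `P` centralizes `L` -/
def Cen (P L : Subgroup G) : Prop := ∀ g ∈ P, ∀ x ∈ L, g * x = x * g

theorem cen_of_quot [Finite G] {P L M : Subgroup G} (hP : IsPGroup p P) (hM : (Nat.card M).Coprime p) (hc : Cen P M)
    (h : ∀ g ∈ P, ∀ x ∈ L, x⁻¹ * (g * x * g⁻¹) ∈ M) : Cen P L := by
  intro g hg x hx
  obtain ⟨m, hm⟩ : ∃ m, m = x⁻¹ * (g * x * g⁻¹) := ⟨_, rfl⟩
  have hmM : m ∈ M := by rw [hm]; exact h g hg x hx
  have hgm := hc g hg m hmM
  have hpow : ∀ k : ℕ, g ^ k * x * (g ^ k)⁻¹ = x * m ^ k := by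
    intro k
    induction k with
    | zero => simp
    | succ k ih =>
      have e1 : g ^ (k + 1) * x * (g ^ (k + 1))⁻¹ = g * (g ^ k * x * (g ^ k)⁻¹) * g⁻¹ := by rw [pow_succ']; group
      have e2 : Commute g (m ^ k) := (show Commute g m from hgm).pow_right _
      have e3 : g * (x * m ^ k) * g⁻¹ = (g * x * g⁻¹) * (g * m ^ k * g⁻¹) := by group
      rw [e1, ih, e3, e2.eq, mul_inv_cancel_right]
      have e4 : g * x * g⁻¹ = x * m := by rw [hm]; group
      rw [e4, mul_assoc, ← pow_succ']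
  obtain ⟨k, hk⟩ := hP ⟨g, hg⟩
  have hk' : g ^ p ^ k = 1 := congrArg Subtype.val hk
  have h1 := hpow (p ^ k)
  rw [hk'] at h1
  have h2 : m ^ p ^ k = 1 := by
    have : x * m ^ p ^ k = x * 1 := by rw [← h1]; group
    exact mul_left_cancel this
  have e1 : orderOf m ∣ p ^ k := orderOf_dvd_of_pow_eq_one h2
  have e2 : orderOf m ∣ Nat.card M := by
    have := orderOf_dvd_natCard (⟨m, hmM⟩ : M)
    rwa [← Subgroup.orderOf_coe] at this
  have e3 : orderOf m ∣ 1 := by
    rw [← (Nat.Coprime.pow_right k hM).gcd_eq_one]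
    exact Nat.dvd_gcd e2 e1
  have e4 := orderOf_eq_one_iff.1 (Nat.dvd_one.1 e3)
  have e5 : g * x * g⁻¹ = x * m := by rw [hm]; group
  rw [e4, mul_one] at e5
  exact mul_inv_eq_iff_eq_mul.1 e5

/-- a minimal non-centralized invariant subgroup is an `r`-group -/
theorem exists_prime [Finite G] {P L : Subgroup G} (hP : IsPGroup p P) (hL : (Nat.card L).Coprime p) (h : InvP P L)
    (hn : ¬ Cen P L) (hmin : ∀ M : Subgroup G, M < L → InvP P M → Cen P M) : ∃ r : ℕ, r.Prime ∧ IsPGroup r L := by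
  by_contra hcon
  push Not at hcon
  apply hn
  have hPn : P ≤ Subgroup.normalizer (L : Set G) := by
    intro g hg
    rw [Subgroup.mem_normalizer_iff]
    intro x
    refine ⟨h g hg x, fun hx => ?_⟩
    have := h g⁻¹ (P.inv_mem hg) _ hx
    have e : g⁻¹ * (g * x * g⁻¹) * g⁻¹⁻¹ = x := by group
    rwa [e] at this
  have hcop : (Nat.card P).Coprime (Nat.card L) := by
    obtain ⟨k, hk⟩ := IsPGroup.iff_card.1 hP
    rw [hk]
    exact (Nat.Coprime.pow_right k hL).symm
  haveI : Group.IsNilpotent P := hP.isNilpotent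
  have hle : L ≤ Subgroup.centralizer (P : Set G) ⊓ L := by
    have hdvd : Nat.card L ∣ Nat.card (Subgroup.centralizer (P : Set G) ⊓ L : Subgroup G) := by
      rw [Nat.dvd_iff_prime_pow_dvd_dvd]
      intro r k hr hk
      haveI : Fact r.Prime := ⟨hr⟩
      obtain ⟨Q, hQ⟩ := H1.exists_invariant_sylow P L hPn hcop (Or.inl inferInstance) r
      have hQL : (Q : Subgroup L).map L.subtype < L := by
        refine lt_of_le_of_ne (Subgroup.map_subtype_le _) (fun e => ?_)
        apply hcon r hr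
        rw [← e]
        exact Q.isPGroup'.map _
      have hcen := hmin _ hQL (by
        intro g hg x hx
        exact (Subgroup.mem_normalizer_iff.1 (hQ hg) x).1 hx)
      have h1 : (Q : Subgroup L).map L.subtype ≤ Subgroup.centralizer (P : Set G) ⊓ L := by
        refine le_inf ?_ hQL.le
        intro x hx
        rw [Subgroup.mem_centralizer_iff]
        intro g hg
        exact hcen g hg x hx
      have h2 : r ^ k ∣ Nat.card Q := by
        rw [Q.card_eq_multiplicity]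
        apply Nat.pow_dvd_pow
        exact (hr.pow_dvd_iff_le_factorization Nat.card_pos.ne').1 hk
      have h3 : Nat.card ((Q : Subgroup L).map L.subtype) = Nat.card Q :=
        Subgroup.card_map_of_injective L.subtype_injective
      exact h2.trans (h3 ▸ Subgroup.card_dvd_of_le h1)
    have h4 := Subgroup.eq_of_le_of_card_ge (inf_le_right : Subgroup.centralizer (P : Set G) ⊓ L ≤ L)
      (Nat.le_of_dvd Nat.card_pos hdvd)
    exact h4.ge
  intro g hg x hx
  exact (Subgroup.mem_centralizer_iff.1 (hle hx).1) g hg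

/-! ### the action on a section -/

section action
variable {P L M : Subgroup G}

/-- conjugation on `L` -/
def cj (h : InvP P L) (g : P) : L ≃* L where
  toFun x := ⟨g.1 * x.1 * g.1⁻¹, h g.1 g.2 x.1 x.2⟩
  invFun x := ⟨g.1⁻¹ * x.1 * g.1⁻¹⁻¹, h _ (P.inv_mem g.2) x.1 x.2⟩
  left_inv x := by apply Subtype.ext; simp only; group
  right_inv x := by apply Subtype.ext; simp only; group
  map_mul' x y := by apply Subtype.ext; simp only [Subgroup.coe_mul]; group

theorem cj_map (h : InvP P L) (hM : InvP P M) (g : P) : (M.subgroupOf L).map ((cj h g : L ≃* L) : L →* L) = M.subgroupOf L := by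
  ext x
  constructor
  · rintro ⟨y, hy, rfl⟩
    exact hM g.1 g.2 y.1 hy
  · intro hx
    refine ⟨(cj h g).symm x, ?_, (cj h g).apply_symm_apply x⟩
    exact hM _ (P.inv_mem g.2) x.1 hx

/-- the action on the section -/
noncomputable def phi (h : InvP P L) (hM : InvP P M) [(M.subgroupOf L).Normal] : P →* MulAut (L ⧸ M.subgroupOf L) :=
  MonoidHom.mk' (fun g => QuotientGroup.congr (M.subgroupOf L) (M.subgroupOf L) (cj h g) (cj_map h hM g)) (by
    intro a b
    apply MulEquiv.ext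
    intro x
    induction x using QuotientGroup.induction_on with
    | H x =>
      change ((cj h (a * b) x : L) : L ⧸ M.subgroupOf L) = ((cj h a (cj h b x) : L) : L ⧸ M.subgroupOf L)
      congr 1
      apply Subtype.ext
      change (a * b : P).1 * x.1 * (a * b : P).1⁻¹ = a.1 * (b.1 * x.1 * b.1⁻¹) * a.1⁻¹
      rw [Subgroup.coe_mul]; group)

theorem phi_mk (h : InvP P L) (hM : InvP P M) [(M.subgroupOf L).Normal] (g : P) (x : L) :
    phi h hM g (x : L ⧸ M.subgroupOf L) = ((cj h g x : L) : L ⧸ M.subgroupOf L) := rfl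

end action

theorem InvP.comm {P L : Subgroup G} (h : InvP P L) : InvP P ⁅L, L⁆ := by
  intro g hg x hx
  have h1 : L.map (MulAut.conj g).toMonoidHom ≤ L := by
    rintro _ ⟨y, hy, rfl⟩
    exact h g hg y hy
  have h2 : (⁅L, L⁆ : Subgroup G).map (MulAut.conj g).toMonoidHom ≤ ⁅L, L⁆ := by
    rw [Subgroup.map_commutator]
    exact Subgroup.commutator_mono h1 h1
  exact h2 ⟨x, hx, rfl⟩

theorem final [Finite G] (hp3 : 3 ≤ p) {P N : Subgroup G} (hP : IsPGroup p P) (hN : (Nat.card N).Coprime p) (h : InvP P N)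
    (C D : Set G) (hC : Subgroup.closure C = P) (hD : Subgroup.closure D = P)
    (hyp : ∀ x ∈ N, ∀ c ∈ C, ∀ d ∈ D, IsPGroup p ↥(Subgroup.closure ({x * c * x⁻¹, d} : Set G))) : Cen P N := by
  classical
  by_contra hcon
  -- a minimal counterexample
  obtain ⟨L, hLmin⟩ := (Set.toFinite {L : Subgroup G | L ≤ N ∧ InvP P L ∧ ¬ Cen P L}).exists_minimal ⟨N, le_rfl, h, hcon⟩
  obtain ⟨hLN, hL, hLc⟩ := hLmin.prop
  have hmin : ∀ M : Subgroup G, M < L → InvP P M → Cen P M := by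
    intro M hM hMi
    by_contra hMc
    have := hLmin.le_of_le ⟨hM.le.trans hLN, hMi, hMc⟩ hM.le
    exact absurd this (not_le_of_gt hM)
  have hcopL : (Nat.card L).Coprime p := Nat.Coprime.coprime_dvd_left (Subgroup.card_dvd_of_le hLN) hN
  obtain ⟨r, hr, hLr⟩ := exists_prime hP hcopL hL hLc hmin
  haveI : Fact r.Prime := ⟨hr⟩
  have hLbot : L ≠ ⊥ := by
    rintro rfl
    apply hLc
    intro g _ x hx
    rw [Subgroup.mem_bot] at hx
    rw [hx, mul_one, one_mul]
  -- the commutator subgroup is proper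
  have hcommlt : ⁅L, L⁆ < L := by
    haveI : Group.IsNilpotent L := hLr.isNilpotent
    haveI : Nontrivial L := (Subgroup.nontrivial_iff_ne_bot L).2 hLbot
    have h1 : commutator L < ⊤ := IsSolvable.commutator_lt_top_of_nontrivial L
    have h2 : (commutator L).map L.subtype = ⁅L, L⁆ := by
      rw [commutator_def, Subgroup.map_commutator, ← MonoidHom.range_eq_map, Subgroup.range_subtype]
    have h3 := (Subgroup.map_subtype_lt_map_subtype (G' := L)).2 h1
    rw [h2, ← MonoidHom.range_eq_map, Subgroup.range_subtype] at h3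
    exact h3
  -- maximal invariant subgroup above the commutator subgroup
  obtain ⟨M, hMmax⟩ := (Set.toFinite {M : Subgroup G | ⁅L, L⁆ ≤ M ∧ M < L ∧ InvP P M}).exists_maximal ⟨⁅L, L⁆, le_rfl, hcommlt, hL.comm⟩
  obtain ⟨hMc, hML, hMi⟩ := hMmax.prop
  have hMcen := hmin M hML hMi
  haveI hMn : (M.subgroupOf L).Normal := by
    constructor
    intro x hx g
    rw [Subgroup.mem_subgroupOf] at hx ⊢
    have h1 : (g : G) * x * (g : G)⁻¹ * (x : G)⁻¹ ∈ M := hMc (Subgroup.commutator_mem_commutator g.2 x.2)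
    have : ((g * x * g⁻¹ : L) : G) = ((g : G) * x * (g : G)⁻¹ * (x : G)⁻¹) * x := by
      push_cast; group
    rw [this]
    exact M.mul_mem h1 hx
  have habel : ∀ a b : L ⧸ M.subgroupOf L, a * b = b * a := by
    intro a b
    induction a using QuotientGroup.induction_on with
    | H a =>
      induction b using QuotientGroup.induction_on with
      | H b =>
        rw [← QuotientGroup.mk_mul, ← QuotientGroup.mk_mul]
        symm
        apply QuotientGroup.eq.2
        rw [Subgroup.mem_subgroupOf]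
        have h1 : (a : G)⁻¹ * (b : G)⁻¹ * (a : G)⁻¹⁻¹ * (b : G)⁻¹⁻¹ ∈ M :=
          hMc (Subgroup.commutator_mem_commutator (L.inv_mem a.2) (L.inv_mem b.2))
        have : (((b * a)⁻¹ * (a * b) : L) : G) = (a : G)⁻¹ * (b : G)⁻¹ * (a : G)⁻¹⁻¹ * (b : G)⁻¹⁻¹ := by
          push_cast; group
        rw [this]; exact h1
  letI : CommGroup (L ⧸ M.subgroupOf L) := { (inferInstance : Group (L ⧸ M.subgroupOf L)) with mul_comm := habel }
  obtain ⟨φ, hφ⟩ : ∃ φ : P →* MulAut (L ⧸ M.subgroupOf L), φ = phi hL hMi := ⟨_, rfl⟩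
  have hφmk : ∀ (g : P) (x : L), φ g (x : L ⧸ M.subgroupOf L) = ((cj hL g x : L) : L ⧸ M.subgroupOf L) := by
    intro g x; rw [hφ]; rfl
  haveI hVnt : Nontrivial (L ⧸ M.subgroupOf L) := by
    rw [QuotientGroup.nontrivial_iff]
    rw [Ne, Subgroup.subgroupOf_eq_top]
    exact not_le_of_gt hML
  have hcopV : (Nat.card (L ⧸ M.subgroupOf L)).Coprime p :=
    Nat.Coprime.coprime_dvd_left (Subgroup.card_quotient_dvd_card _) hcopL
  have hR : IsPGroup p φ.range := by
    have := hP.of_surjective φ.rangeRestrict φ.rangeRestrict_surjective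
    exact this
  have hirr : Irr (L ⧸ M.subgroupOf L) φ.range p := by
    constructor
    · intro g hg
      apply Subtype.ext
      apply MulEquiv.ext
      intro v
      exact hg v
    · intro W hW
      -- pull back
      obtain ⟨K, hK⟩ : ∃ K : Subgroup G, K = (W.comap (QuotientGroup.mk' (M.subgroupOf L))).map L.subtype := ⟨_, rfl⟩
      have hKL : K ≤ L := by rw [hK]; exact Subgroup.map_subtype_le _
      have memK : ∀ x : L, x.1 ∈ K ↔ (x : L ⧸ M.subgroupOf L) ∈ W := by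
        intro x
        rw [hK]
        constructor
        · rintro ⟨y, hy, e⟩
          have : y = x := Subtype.ext e
          rw [← this]; exact hy
        · intro hx
          exact ⟨x, hx, rfl⟩
      have hMK : M ≤ K := by
        intro x hx
        have h1 := (memK ⟨x, hML.le hx⟩).2 (by
          have : ((⟨x, hML.le hx⟩ : L) : L ⧸ M.subgroupOf L) = 1 := (QuotientGroup.eq_one_iff _).2 (by rw [Subgroup.mem_subgroupOf]; exact hx)
          rw [this]; exact W.one_mem)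
        exact h1
      have hKi : InvP P K := by
        intro g hg x hx
        have h1 := (memK ⟨x, hKL hx⟩).1 hx
        have h2 := hW ⟨φ ⟨g, hg⟩, ⟨g, hg⟩, rfl⟩ _ h1
        have h3 : (⟨φ ⟨g, hg⟩, ⟨g, hg⟩, rfl⟩ : φ.range) • ((⟨x, hKL hx⟩ : L) : L ⧸ M.subgroupOf L) =
          ((cj hL ⟨g, hg⟩ ⟨x, hKL hx⟩ : L) : L ⧸ M.subgroupOf L) := hφmk _ _
        rw [h3] at h2
        exact (memK _).2 h2
      rcases eq_or_lt_of_le hKL with h1 | h1
      · right
        rw [eq_top_iff]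
        intro v _
        induction v using QuotientGroup.induction_on with
        | H v =>
          apply (memK v).1
          rw [h1]; exact v.2
      · left
        have h2 := hMmax.le_of_ge ⟨hMc.trans hMK, h1, hKi⟩ hMK
        rw [eq_bot_iff]
        intro v hv
        induction v using QuotientGroup.induction_on with
        | H v =>
          have h3 := h2 ((memK v).2 hv)
          rw [Subgroup.mem_bot]
          exact (QuotientGroup.eq_one_iff _).2 (by rw [Subgroup.mem_subgroupOf]; exact h3)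
  have hRnt : Nontrivial φ.range := by
    by_contra hnt
    rw [not_nontrivial_iff_subsingleton] at hnt
    apply hLc
    apply cen_of_quot hP (Nat.Coprime.coprime_dvd_left (Subgroup.card_dvd_of_le hML.le) hcopL) hMcen
    intro g hg x hx
    have h1 : φ ⟨g, hg⟩ = 1 := congrArg Subtype.val (Subsingleton.elim (⟨φ ⟨g, hg⟩, ⟨g, hg⟩, rfl⟩ : φ.range) 1)
    have h2 := hφmk ⟨g, hg⟩ ⟨x, hx⟩
    rw [h1, MulAut.one_apply] at h2
    have h3 := QuotientGroup.eq.1 h2
    rw [Subgroup.mem_subgroupOf] at h3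
    exact h3
  -- generators
  have hgen : ∀ C : Set G, Subgroup.closure C = P → ∃ c ∈ C, ∃ hc : c ∈ P, Nat.card (fix (⟨φ ⟨c, hc⟩, ⟨c, hc⟩, rfl⟩ : φ.range) : Subgroup (L ⧸ M.subgroupOf L)) ^ p ≤ Nat.card (L ⧸ M.subgroupOf L) := by
    intro C hC
    have h1 : Subgroup.closure ((fun g : P => (⟨φ g, g, rfl⟩ : φ.range)) '' ((fun g : P => g.1) ⁻¹' C)) = ⊤ := by
      have h2 : Subgroup.closure ((fun g : P => g.1) ⁻¹' C) = (⊤ : Subgroup P) := by
        subst hC
        exact Subgroup.closure_closure_coe_preimage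
      have h3 : (fun g : P => (⟨φ g, g, rfl⟩ : φ.range)) = φ.rangeRestrict := rfl
      rw [h3, ← MonoidHom.map_closure, h2, ← MonoidHom.range_eq_map]
      exact MonoidHom.range_eq_top.2 φ.rangeRestrict_surjective
    obtain ⟨_, ⟨⟨c, hcP⟩, hcC, rfl⟩, hle⟩ := bound (by omega) hR hcopV hirr hRnt _ h1
    exact ⟨c, hcC, hcP, hle⟩
  obtain ⟨c, hcC, hcP, hcle⟩ := hgen C hC
  obtain ⟨d, hdD, hdP, hdle⟩ := hgen D hD
  -- the product
  have hprod : Nat.card (L ⧸ M.subgroupOf L) ≤ Nat.card (fix (⟨φ ⟨d, hdP⟩, ⟨d, hdP⟩, rfl⟩ : φ.range) : Subgroup (L ⧸ M.subgroupOf L)) *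
      Nat.card (fix (⟨φ ⟨c, hcP⟩, ⟨c, hcP⟩, rfl⟩ : φ.range) : Subgroup (L ⧸ M.subgroupOf L)) := by
    rw [← Nat.card_prod]
    apply Nat.card_le_card_of_surjective (fun q : (fix (⟨φ ⟨d, hdP⟩, ⟨d, hdP⟩, rfl⟩ : φ.range) : Subgroup (L ⧸ M.subgroupOf L)) × (fix (⟨φ ⟨c, hcP⟩, ⟨c, hcP⟩, rfl⟩ : φ.range) : Subgroup (L ⧸ M.subgroupOf L)) => q.1.1 * q.2.1)
    intro v
    induction v using QuotientGroup.induction_on with
    | H x =>
      obtain ⟨w, hw, u, hu, hx, hdw, hcu⟩ := factor hP hcopL hL hcP hdP x.2 (hyp x (hLN x.2) c hcC d hdD)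
      refine ⟨(⟨((⟨w, hw⟩ : L) : L ⧸ M.subgroupOf L), ?_⟩, ⟨((⟨u, hu⟩ : L) : L ⧸ M.subgroupOf L), ?_⟩), ?_⟩
      · rw [mem_fix]
        have h3 : (⟨φ ⟨d, hdP⟩, ⟨d, hdP⟩, rfl⟩ : φ.range) • ((⟨w, hw⟩ : L) : L ⧸ M.subgroupOf L) =
          ((cj hL ⟨d, hdP⟩ ⟨w, hw⟩ : L) : L ⧸ M.subgroupOf L) := hφmk _ _
        rw [h3]
        congr 1
        apply Subtype.ext
        change d * w * d⁻¹ = w
        rw [hdw, mul_inv_cancel_right]
      · rw [mem_fix]
        have h3 : (⟨φ ⟨c, hcP⟩, ⟨c, hcP⟩, rfl⟩ : φ.range) • ((⟨u, hu⟩ : L) : L ⧸ M.subgroupOf L) =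
          ((cj hL ⟨c, hcP⟩ ⟨u, hu⟩ : L) : L ⧸ M.subgroupOf L) := hφmk _ _
        rw [h3]
        congr 1
        apply Subtype.ext
        change c * u * c⁻¹ = u
        rw [hcu, mul_inv_cancel_right]
      · change ((⟨w, hw⟩ : L) : L ⧸ M.subgroupOf L) * ((⟨u, hu⟩ : L) : L ⧸ M.subgroupOf L) = (x : L ⧸ M.subgroupOf L)
        rw [← QuotientGroup.mk_mul]
        congr 1
        exact Subtype.ext hx.symm
  -- contradiction
  have hV2 : 1 < Nat.card (L ⧸ M.subgroupOf L) := Finite.one_lt_card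
  have h1 := Nat.pow_le_pow_left hprod p
  rw [mul_pow] at h1
  have h2 := h1.trans (Nat.mul_le_mul hdle hcle)
  have h3 : Nat.card (L ⧸ M.subgroupOf L) ^ 2 < Nat.card (L ⧸ M.subgroupOf L) ^ p :=
    Nat.pow_lt_pow_right hV2 (by omega)
  rw [pow_two] at h3
  exact absurd h2 (not_le_of_gt h3)

theorem main2277 [Finite G] (hp3 : 3 ≤ p) (P : Sylow p G)
    (N : Subgroup G) [N.Normal] (hN : (Nat.card N).Coprime p)
    (C D : Set G) (hC : Subgroup.closure C = (P : Subgroup G)) (hD : Subgroup.closure D = (P : Subgroup G))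
    (h : ∀ x ∈ N, ∀ c ∈ C, ∀ d ∈ D, IsPGroup p ↥(Subgroup.closure ({x * c * x⁻¹, d} : Set G))) :
    ⁅(P : Subgroup G), N⁆ = ⊥ := by
  have h1 := final hp3 P.isPGroup' hN (fun g _ x hx => (inferInstance : N.Normal).conj_mem x hx g) C D hC hD h
  rw [Subgroup.commutator_eq_bot_iff_le_centralizer]
  intro g hg
  rw [Subgroup.mem_centralizer_iff]
  intro x hx
  exact (h1 g hg x hx).symm

end Cfsg.Agent.H16.CopMod
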