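import Mathlib

/-! Fixed points of products of conjugates in the alternating group. -/

set_option autoImplicit false

namespace Cfsg.Agent.H16.FixAlt

open Equiv Finset

variable {n : ℕ}

theorem exists_even {k : ℕ} (hk : k + 2 ≤ n) (x y : Fin k → Fin n) (hx : Function.Injective x)
    (hy : Function.Injective y) : ∃ h : Perm (Fin n), Perm.sign h = 1 ∧ ∀ i, h (x i) = y i := by
  have h1 := alternatingGroup.isMultiplyPretransitive (Fin n)
  rw [Nat.card_eq_fintype_card, Fintype.card_fin] at h1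
  have h2 : MulAction.IsMultiplyPretransitive (alternatingGroup (Fin n)) (Fin n) k :=
    MulAction.isMultiplyPretransitive_of_le (n := n - 2) (by omega) (by simp)
  obtain ⟨g, hg⟩ := MulAction.isMultiplyPretransitive_iff.1 h2 ⟨x, hx⟩ ⟨y, hy⟩
  refine ⟨g.1, g.2, fun i => ?_⟩
  have := DFunLike.congr_fun hg i
  exact this

/-- number of agreements -/
def N (b c h : Perm (Fin n)) : ℕ := (univ.filter fun y => h (b y) = c (h y)).card

theorem card_fixed (a b h : Perm (Fin n)) :
    Nat.card (Function.fixedPoints ⇑(a * (h * b * h⁻¹))) = N b a⁻¹ h := by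
  classical
  unfold N
  rw [Nat.card_eq_fintype_card, ← Set.toFinset_card]
  symm
  apply Finset.card_bij (fun y _ => h y)
  · intro y hy
    rw [mem_filter] at hy
    rw [Set.mem_toFinset, Function.mem_fixedPoints, Function.IsFixedPt]
    have e1 : (a * (h * b * h⁻¹)) (h y) = a (h (b y)) := by simp
    rw [e1, hy.2]; simp
  · intro y _ z _ h'
    exact h.injective h'
  · intro x hx
    rw [Set.mem_toFinset, Function.mem_fixedPoints, Function.IsFixedPt] at hx
    have e1 : (a * (h * b * h⁻¹)) x = a (h (b (h⁻¹ x))) := rfl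
    rw [e1] at hx
    refine ⟨h⁻¹ x, ?_, by simp⟩
    rw [mem_filter]
    refine ⟨mem_univ _, ?_⟩
    have e2 : h (h⁻¹ x) = x := by simp
    rw [e2]
    nth_rewrite 2 [← hx]
    simp

/-- even permutations -/
def E (n : ℕ) : Finset (Perm (Fin n)) := univ.filter fun h => Perm.sign h = 1

def t2 (y y' x x' : Fin n) : ℕ := ((E n).filter fun h => h y = x ∧ h y' = x').card

theorem inj2 {x x' : Fin n} (h : x ≠ x') : Function.Injective ![x, x'] := by
  intro i j hij
  fin_cases i <;> fin_cases j <;> simp_all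

theorem t2_const (hn : 4 ≤ n) {y y' x x' w w' z z' : Fin n} (hy : y ≠ y') (hx : x ≠ x') (hw : w ≠ w') (hz : z ≠ z') :
    t2 y y' x x' = t2 w w' z z' := by
  obtain ⟨g, hg, hg'⟩ := exists_even (k := 2) (by omega) ![x, x'] ![z, z'] (inj2 hx) (inj2 hz)
  obtain ⟨k, hk, hk'⟩ := exists_even (k := 2) (by omega) ![w, w'] ![y, y'] (inj2 hw) (inj2 hy)
  have g0 : g x = z := hg' 0
  have g1 : g x' = z' := hg' 1
  have k0 : k w = y := hk' 0
  have k1 : k w' = y' := hk' 1
  unfold t2
  apply Finset.card_bij (fun h _ => g * h * k)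
  · intro h hh
    simp only [E, mem_filter, mem_univ, true_and] at hh ⊢
    refine ⟨by simp [hh.1, hg, hk], ?_, ?_⟩
    · simp [k0, hh.2.1, g0]
    · simp [k1, hh.2.2, g1]
  · intro h _ h' _ e
    exact mul_left_cancel (mul_right_cancel e)
  · intro h hh
    simp only [E, mem_filter, mem_univ, true_and] at hh
    refine ⟨g⁻¹ * h * k⁻¹, ?_, by group⟩
    simp only [E, mem_filter, mem_univ, true_and]
    refine ⟨by simp [hh.1, hg, hk], ?_, ?_⟩
    · rw [← k0]; simp [hh.2.1, ← g0]
    · rw [← k1]; simp [hh.2.2, ← g1]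

theorem t1_eq (T : ℕ) (hT : ∀ y y' x x' : Fin n, y ≠ y' → x ≠ x' → t2 y y' x x' = T) (hn : 4 ≤ n) (y x : Fin n) :
    ((E n).filter fun h => h y = x).card = (n - 1) * T := by
  classical
  have : Nontrivial (Fin n) := Fin.nontrivial_iff_two_le.2 (by omega)
  obtain ⟨y', hy'⟩ := exists_ne y
  rw [Finset.card_eq_sum_card_fiberwise (f := fun h : Perm (Fin n) => h y') (t := univ.erase x)]
  · have : ∀ x' ∈ univ.erase x, (filter (fun h => h y' = x') (filter (fun h => h y = x) (E n))).card = T := by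
      intro x' hx'
      rw [filter_filter]
      exact hT y y' x x' hy'.symm (ne_of_mem_erase hx').symm
    rw [Finset.sum_congr rfl this, Finset.sum_const, card_erase_of_mem (mem_univ _), card_univ, Fintype.card_fin,
      smul_eq_mul]
  · intro h hh
    simp only [coe_filter, Set.mem_ofPred_eq] at hh
    simp only [coe_erase, coe_univ]
    refine ⟨Set.mem_univ _, ?_⟩
    intro e
    have : h y' = h y := by rw [hh.2]; exact e
    exact hy' (h.injective this)

theorem cardE_eq (T : ℕ) (hT : ∀ y y' x x' : Fin n, y ≠ y' → x ≠ x' → t2 y y' x x' = T) (hn : 4 ≤ n) :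
    (E n).card = n * ((n - 1) * T) := by
  classical
  have : NeZero n := ⟨by omega⟩
  rw [Finset.card_eq_sum_card_fiberwise (f := fun h : Perm (Fin n) => h 0) (t := univ)]
  · rw [Finset.sum_congr rfl (fun x _ => t1_eq T hT hn 0 x), Finset.sum_const, card_univ, Fintype.card_fin, smul_eq_mul]
  · intro h _; simp

theorem T_pos (T : ℕ) (hT : ∀ y y' x x' : Fin n, y ≠ y' → x ≠ x' → t2 y y' x x' = T) (hn : 4 ≤ n) : 0 < T := by
  rcases Nat.eq_zero_or_pos T with h | h
  · exfalso
    have h1 := cardE_eq T hT hn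
    rw [h, mul_zero, mul_zero, card_eq_zero] at h1
    have : (1 : Perm (Fin n)) ∈ E n := by simp [E]
    rw [h1] at this
    exact absurd this (notMem_empty _)
  · exact h

/-- fixed point number -/
def fx (c : Perm (Fin n)) : ℕ := (univ.filter fun y => c y = y).card

theorem average (hn : 4 ≤ n) (b c : Perm (Fin n)) (K : ℕ) (hK : ∀ h, Perm.sign h = 1 → N b c h = K) :
    n * (n - 1) * K = fx b * fx c * (n - 1) + (n - fx b) * (n - fx c) := by
  classical
  have hNT : Nontrivial (Fin n) := Fin.nontrivial_iff_two_le.2 (by omega)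
  obtain ⟨u, v, huv⟩ := exists_pair_ne (Fin n)
  set T := t2 u v u v with hTdef
  have hT : ∀ y y' x x' : Fin n, y ≠ y' → x ≠ x' → t2 y y' x x' = T := fun y y' x x' h1 h2 =>
    t2_const hn h1 h2 huv huv
  have hTpos := T_pos T hT hn
  have hS : ∑ h ∈ E n, N b c h = (E n).card * K := by
    rw [Finset.sum_congr rfl (fun h (hh : h ∈ E n) => hK h (mem_filter.1 hh).2), Finset.sum_const, smul_eq_mul]
  have hS2 : ∑ h ∈ E n, N b c h = ∑ y, ((E n).filter fun h => h (b y) = c (h y)).card := by
    unfold N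
    simp only [card_filter]
    rw [Finset.sum_comm]
  have hfc : (univ.filter fun x : Fin n => ¬ c x = x).card = n - fx c := by
    have := Finset.card_filter_add_card_filter_not (s := (univ : Finset (Fin n))) (fun x => c x = x)
    rw [card_univ, Fintype.card_fin] at this
    unfold fx; omega
  have hfb : (univ.filter fun x : Fin n => ¬ b x = x).card = n - fx b := by
    have := Finset.card_filter_add_card_filter_not (s := (univ : Finset (Fin n))) (fun x => b x = x)
    rw [card_univ, Fintype.card_fin] at this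
    unfold fx; omega
  have hy1 : ∀ y, b y = y → ((E n).filter fun h => h (b y) = c (h y)).card = fx c * ((n - 1) * T) := by
    intro y hy
    rw [hy, Finset.card_eq_sum_card_fiberwise (f := fun h : Perm (Fin n) => h y) (t := univ.filter fun x => c x = x)]
    · have : ∀ x ∈ univ.filter (fun x => c x = x),
          (filter (fun h => h y = x) (filter (fun h => h y = c (h y)) (E n))).card = (n - 1) * T := by
        intro x hx
        rw [mem_filter] at hx
        rw [filter_filter, ← t1_eq T hT hn y x]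
        congr 1
        apply filter_congr
        intro h _
        constructor
        · rintro ⟨_, h2⟩; exact h2
        · intro h2; exact ⟨by rw [h2, hx.2], h2⟩
      rw [Finset.sum_congr rfl this, Finset.sum_const, smul_eq_mul]; rfl
    · intro h hh
      simp only [coe_filter, Set.mem_ofPred_eq, mem_univ, true_and] at hh ⊢
      exact hh.2.symm
  have hy2 : ∀ y, b y ≠ y → ((E n).filter fun h => h (b y) = c (h y)).card = (n - fx c) * T := by
    intro y hy
    rw [Finset.card_eq_sum_card_fiberwise (f := fun h : Perm (Fin n) => h y) (t := univ.filter fun x => ¬ c x = x)]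
    · have : ∀ x ∈ univ.filter (fun x => ¬ c x = x),
          (filter (fun h => h y = x) (filter (fun h => h (b y) = c (h y)) (E n))).card = T := by
        intro x hx
        rw [mem_filter] at hx
        rw [filter_filter, ← hT y (b y) x (c x) hy.symm (Ne.symm hx.2)]
        unfold t2
        congr 1
        apply filter_congr
        intro h _
        constructor
        · rintro ⟨h1, h2⟩; exact ⟨h2, by rw [h1, h2]⟩
        · rintro ⟨h1, h2⟩; exact ⟨by rw [h2, h1], h1⟩
      rw [Finset.sum_congr rfl this, Finset.sum_const, smul_eq_mul, hfc]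
    · intro h hh
      simp only [coe_filter, Set.mem_ofPred_eq, mem_univ, true_and] at hh ⊢
      intro e
      apply hy
      apply h.injective
      rw [hh.2, e]
  have hS3 : ∑ y, ((E n).filter fun h => h (b y) = c (h y)).card = fx b * (fx c * ((n - 1) * T)) + (n - fx b) * ((n - fx c) * T) := by
    rw [← Finset.sum_filter_add_sum_filter_not univ (fun y => b y = y)]
    rw [Finset.sum_congr rfl (fun y hy => hy1 y (mem_filter.1 hy).2), Finset.sum_const,
      Finset.sum_congr rfl (fun y hy => hy2 y (mem_filter.1 hy).2), Finset.sum_const, hfb, smul_eq_mul, smul_eq_mul]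
    rfl
  have := hS.symm.trans (hS2.trans hS3)
  rw [cardE_eq T hT hn] at this
  apply Nat.eq_of_mul_eq_mul_left hTpos
  calc T * (n * (n - 1) * K) = n * ((n - 1) * T) * K := by ring
    _ = _ := this
    _ = _ := by ring

theorem fx_le {c : Perm (Fin n)} (hc : c ≠ 1) : fx c + 2 ≤ n := by
  classical
  have h1 := Finset.card_filter_add_card_filter_not (s := (univ : Finset (Fin n))) (fun x => c x = x)
  rw [card_univ, Fintype.card_fin] at h1
  have h2 : 1 < (univ.filter fun x : Fin n => ¬ c x = x).card := by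
    obtain ⟨x, hx⟩ : ∃ x, c x ≠ x := by
      by_contra hcon
      push Not at hcon
      exact hc (Equiv.ext hcon)
    rw [Finset.one_lt_card]
    refine ⟨x, by simp [hx], c x, ?_, hx.symm⟩
    simp [hx]
  unfold fx
  omega

/-- many common fixed points -/
theorem exists_common (b c : Perm (Fin n)) {m : ℕ} (hm : m + 2 ≤ n) (hb : m ≤ fx b) (hc : m ≤ fx c) :
    ∃ h, Perm.sign h = 1 ∧ m ≤ N b c h := by
  classical
  obtain ⟨S, hS, hSm⟩ := Finset.exists_subset_card_eq hb
  obtain ⟨S', hS', hSm'⟩ := Finset.exists_subset_card_eq hc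
  let x : Fin m → Fin n := fun i => (S.equivFinOfCardEq hSm).symm i
  let y : Fin m → Fin n := fun i => (S'.equivFinOfCardEq hSm').symm i
  obtain ⟨h, hh, hh'⟩ := exists_even hm x y (Subtype.val_injective.comp (Equiv.injective _)) (Subtype.val_injective.comp (Equiv.injective _))
  refine ⟨h, hh, ?_⟩
  unfold N
  rw [← hSm]
  apply Finset.card_le_card
  intro z hz
  rw [mem_filter]
  refine ⟨mem_univ _, ?_⟩
  have hbz : b z = z := (mem_filter.1 (hS hz)).2
  obtain ⟨i, hi⟩ : ∃ i, x i = z := ⟨(S.equivFinOfCardEq hSm) ⟨z, hz⟩, by simp [x]⟩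
  have h1 : h z = y i := by rw [← hi, hh']
  have h2 : c (y i) = y i := (mem_filter.1 (hS' ((S'.equivFinOfCardEq hSm').symm i).2)).2
  rw [hbz, h1, h2]

theorem two_le_N {b c h : Perm (Fin n)} {y z : Fin n} (hyz : y ≠ z) (h1 : h (b y) = c (h y)) (h2 : h (b z) = c (h z)) :
    2 ≤ N b c h := by
  unfold N
  have : 1 < (univ.filter fun y => h (b y) = c (h y)).card := by
    rw [Finset.one_lt_card]
    exact ⟨y, by simp [h1], z, by simp [h2], hyz⟩
  exact this

theorem inj3 {x y z : Fin n} (h : x ≠ y) (h' : x ≠ z) (h'' : y ≠ z) : Function.Injective ![x, y, z] := by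
  intro i j hij
  fin_cases i <;> fin_cases j <;> simp_all

theorem inj4 {x y z w : Fin n} (h1 : x ≠ y) (h2 : x ≠ z) (h3 : x ≠ w) (h4 : y ≠ z) (h5 : y ≠ w) (h6 : z ≠ w) :
    Function.Injective ![x, y, z, w] := by
  intro i j hij
  fin_cases i <;> fin_cases j <;> simp_all

/-- one common fixed point and one more agreement -/
theorem exists_two_of_fixed (hn : 5 ≤ n) {b c : Perm (Fin n)} (hb : b ≠ 1) (hc : c ≠ 1) (hb1 : 1 ≤ fx b) (hc1 : 1 ≤ fx c) :
    ∃ h, Perm.sign h = 1 ∧ 2 ≤ N b c h := by
  classical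
  obtain ⟨x, hx⟩ := Finset.card_pos.1 hb1
  obtain ⟨y, hy⟩ := Finset.card_pos.1 hc1
  have hx := (mem_filter.1 hx).2
  have hy := (mem_filter.1 hy).2
  obtain ⟨u, hu⟩ : ∃ x, b x ≠ x := by
    by_contra hcon; push Not at hcon; exact hb (Equiv.ext hcon)
  obtain ⟨v, hv⟩ : ∃ x, c x ≠ x := by
    by_contra hcon; push Not at hcon; exact hc (Equiv.ext hcon)
  have a1 : x ≠ u := by rintro rfl; exact hu hx
  have a2 : x ≠ b u := by intro h; rw [h] at hx; exact hu (b.injective hx)
  have b1 : y ≠ v := by rintro rfl; exact hv hy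
  have b2 : y ≠ c v := by intro h; rw [h] at hy; exact hv (c.injective hy)
  obtain ⟨h, hh, hh'⟩ := exists_even (k := 3) (by omega) ![x, u, b u] ![y, v, c v] (inj3 a1 a2 hu.symm) (inj3 b1 b2 hv.symm)
  have h0 : h x = y := hh' 0
  have h1 : h u = v := hh' 1
  have h2 : h (b u) = c v := hh' 2
  exact ⟨h, hh, two_le_N a1 (by rw [hx, h0, hy]) (by rw [h2, h1])⟩

/-- elements without square one: a chain -/
theorem exists_two_of_chain (hn : 5 ≤ n) {b c : Perm (Fin n)} (hb : b * b ≠ 1) (hc : c * c ≠ 1) :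
    ∃ h, Perm.sign h = 1 ∧ 2 ≤ N b c h := by
  have key : ∀ b : Perm (Fin n), b * b ≠ 1 → ∃ u, u ≠ b u ∧ u ≠ b (b u) ∧ b u ≠ b (b u) := by
    intro b hb
    obtain ⟨u, hu⟩ : ∃ x, (b * b) x ≠ x := by
      by_contra hcon; push Not at hcon; exact hb (Equiv.ext hcon)
    have hu' : b (b u) ≠ u := hu
    have h1 : u ≠ b u := by intro h; rw [← h, ← h] at hu'; exact hu' rfl
    exact ⟨u, h1, hu'.symm, fun h => h1 (b.injective h)⟩
  obtain ⟨u, u1, u2, u3⟩ := key b hb
  obtain ⟨v, v1, v2, v3⟩ := key c hc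
  obtain ⟨h, hh, hh'⟩ := exists_even (k := 3) (by omega) ![u, b u, b (b u)] ![v, c v, c (c v)] (inj3 u1 u2 u3) (inj3 v1 v2 v3)
  have h0 : h u = v := hh' 0
  have h1 : h (b u) = c v := hh' 1
  have h2 : h (b (b u)) = c (c v) := hh' 2
  exact ⟨h, hh, two_le_N u1 (by rw [h1, h0]) (by rw [h2, h1])⟩

/-- two disjoint moved pairs -/
theorem exists_pairs {b : Perm (Fin n)} (hb : fx b + 4 ≤ n) :
    ∃ u v, u ≠ b u ∧ u ≠ v ∧ u ≠ b v ∧ b u ≠ v ∧ b u ≠ b v ∧ v ≠ b v := by
  classical
  have h1 := Finset.card_filter_add_card_filter_not (s := (univ : Finset (Fin n))) (fun x => b x = x)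
  rw [card_univ, Fintype.card_fin] at h1
  have h2 : 4 ≤ (univ.filter fun x : Fin n => ¬ b x = x).card := by unfold fx at hb; omega
  obtain ⟨u, hu⟩ := Finset.card_pos.1 (show 0 < (univ.filter fun x : Fin n => ¬ b x = x).card by omega)
  have hu := (mem_filter.1 hu).2
  obtain ⟨v, hv⟩ : ((univ.filter fun x : Fin n => ¬ b x = x) \ {u, b u, b⁻¹ u}).Nonempty := by
    rw [← Finset.card_pos]
    have h3 := Finset.le_card_sdiff {u, b u, b⁻¹ u} (univ.filter fun x : Fin n => ¬ b x = x)
    have h4 : ({u, b u, b⁻¹ u} : Finset (Fin n)).card ≤ 3 := Finset.card_le_three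
    omega
  rw [mem_sdiff, mem_filter, mem_insert, mem_insert, mem_singleton] at hv
  obtain ⟨⟨_, hv1⟩, hv2⟩ := hv
  push Not at hv2
  obtain ⟨hv3, hv4, hv5⟩ := hv2
  refine ⟨u, v, Ne.symm hu, Ne.symm hv3, ?_, Ne.symm hv4, fun h => hv3 (b.injective h).symm, Ne.symm hv1⟩
  intro h
  apply hv5
  rw [h]; simp

theorem exists_two_of_inv {b c : Perm (Fin n)} (hb : fx b + 4 ≤ n) (hc : fx c + 4 ≤ n) (h : b * b = 1 ∨ c * c = 1) :
    ∃ h, Perm.sign h = 1 ∧ 2 ≤ N b c h := by
  obtain ⟨u, v, u1, u2, u3, u4, u5, u6⟩ := exists_pairs hb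
  obtain ⟨w, z, w1, w2, w3, w4, w5, w6⟩ := exists_pairs hc
  obtain ⟨g, hg⟩ := Perm.exists_extending_pair ![u, b u, v, b v] ![w, c w, z, c z] (inj4 u1 u2 u3 u4 u5 u6) (inj4 w1 w2 w3 w4 w5 w6)
  have h0 : g u = w := hg 0
  have h1 : g (b u) = c w := hg 1
  have h2 : g v = z := hg 2
  have h3 : g (b v) = c z := hg 3
  rcases Int.units_eq_one_or (Perm.sign g) with hs | hs
  · exact ⟨g, hs, two_le_N u2 (by rw [h1, h0]) (by rw [h3, h2])⟩
  · rcases h with hbb | hcc
    · have hbu : b (b u) = u := by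
        have := congrArg (fun k : Perm (Fin n) => k u) hbb
        exact this
      refine ⟨g * swap u (b u), by rw [Perm.sign_mul, hs, Perm.sign_swap u1]; rfl, ?_⟩
      apply two_le_N (y := b u) (z := v) u4
      · have e1 : (g * swap u (b u)) (b (b u)) = g (b u) := by rw [hbu]; simp
        have e2 : (g * swap u (b u)) (b u) = g u := by simp
        rw [e1, e2, h0, h1]
      · have e1 : (g * swap u (b u)) (b v) = g (b v) := by
          rw [Perm.mul_apply, swap_apply_of_ne_of_ne u3.symm u5.symm]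
        have e2 : (g * swap u (b u)) v = g v := by
          rw [Perm.mul_apply, swap_apply_of_ne_of_ne u2.symm u4.symm]
        rw [e1, e2, h2, h3]
    · have hcw : c (c w) = w := by
        have := congrArg (fun k : Perm (Fin n) => k w) hcc
        exact this
      refine ⟨swap w (c w) * g, by rw [Perm.sign_mul, hs, Perm.sign_swap w1]; rfl, ?_⟩
      apply two_le_N (y := u) (z := v) u2
      · rw [Perm.mul_apply, Perm.mul_apply, h1, h0, swap_apply_left, swap_apply_right, hcw]
      · rw [Perm.mul_apply, Perm.mul_apply, h3, h2, swap_apply_of_ne_of_ne w3.symm w5.symm,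
          swap_apply_of_ne_of_ne w2.symm w4.symm]

theorem fx_inv (a : Perm (Fin n)) : fx a⁻¹ = fx a := by
  unfold fx
  congr 1
  apply filter_congr
  intro x _
  rw [Perm.inv_eq_iff_eq]
  exact eq_comm

/-- main combinatorial statement -/
theorem nonconst (hn : 5 ≤ n) {b c : Perm (Fin n)} (hb : b ≠ 1) (hc : c ≠ 1) (K : ℕ)
    (hK : ∀ h, Perm.sign h = 1 → N b c h = K) : False := by
  have hav := average (by omega) b c K hK
  have hfb := fx_le hb
  have hfc := fx_le hc
  -- rewrite the average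
  obtain ⟨m, hm⟩ : ∃ m, n = m + 1 := ⟨n - 1, by omega⟩
  have hz : ((n : ℤ) - 1) * K = ((fx b : ℤ) - 1) * ((fx c : ℤ) - 1) + ((n : ℤ) - 1) := by
    have h1 : ((n : ℤ)) * ((n : ℤ) - 1) * K = (fx b : ℤ) * (fx c : ℤ) * ((n : ℤ) - 1) +
        ((n : ℤ) - fx b) * ((n : ℤ) - fx c) := by
      have : ((n * (n - 1) * K : ℕ) : ℤ) = ((fx b * fx c * (n - 1) + (n - fx b) * (n - fx c) : ℕ) : ℤ) := by rw [hav]
      push_cast [Nat.cast_sub (show 1 ≤ n by omega), Nat.cast_sub (show fx b ≤ n by omega),
        Nat.cast_sub (show fx c ≤ n by omega)] at this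
      exact this
    have hn0 : (n : ℤ) ≠ 0 := by omega
    apply mul_left_cancel₀ hn0
    linear_combination h1
  by_cases hK1 : K = 1
  · -- then one of the two has exactly one fixed point
    rw [hK1] at hz
    have h0 : ((fx b : ℤ) - 1) * ((fx c : ℤ) - 1) = 0 := by push_cast at hz; linarith
    have hcontra : ∀ h, Perm.sign h = 1 → 2 ≤ N b c h → False := by
      intro h hh h2
      have := hK h hh
      omega
    by_cases hpos : 1 ≤ fx b ∧ 1 ≤ fx c
    · obtain ⟨h, hh, h2⟩ := exists_two_of_fixed hn hb hc hpos.1 hpos.2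
      exact hcontra h hh h2
    · have hs : fx b + 4 ≤ n ∧ fx c + 4 ≤ n := by
        rcases mul_eq_zero.1 h0 with h | h
        · have : fx b = 1 := by omega
          omega
        · have : fx c = 1 := by omega
          omega
      by_cases hbb : b * b = 1
      · obtain ⟨h, hh, h2⟩ := exists_two_of_inv hs.1 hs.2 (Or.inl hbb)
        exact hcontra h hh h2
      · by_cases hcc : c * c = 1
        · obtain ⟨h, hh, h2⟩ := exists_two_of_inv hs.1 hs.2 (Or.inr hcc)
          exact hcontra h hh h2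
        · obtain ⟨h, hh, h2⟩ := exists_two_of_chain hn hbb hcc
          exact hcontra h hh h2
  · -- `K ≠ 1`
    by_cases hpos : 2 ≤ fx b ∧ 2 ≤ fx c
    · obtain ⟨h, hh, h2⟩ := exists_common b c (m := min (fx b) (fx c)) (by omega) (min_le_left _ _) (min_le_right _ _)
      rw [hK h hh] at h2
      have h3 : (min (fx b) (fx c) : ℤ) ≤ K := by exact_mod_cast h2
      have hnb : (fx b : ℤ) + 2 ≤ n := by exact_mod_cast hfb
      have hnc : (fx c : ℤ) + 2 ≤ n := by exact_mod_cast hfc
      have hb2 : (2 : ℤ) ≤ fx b := by exact_mod_cast hpos.1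
      have hc2 : (2 : ℤ) ≤ fx c := by exact_mod_cast hpos.2
      rcases le_total (fx b) (fx c) with h4 | h4
      · rw [min_eq_left (by exact_mod_cast h4)] at h3
        nlinarith
      · rw [min_eq_right (by exact_mod_cast h4)] at h3
        nlinarith
    · -- the right side is not divisible by `n - 1`
      have h0 : ((fx b : ℤ) - 1) * ((fx c : ℤ) - 1) ≠ 0 := by
        intro h
        rw [h, zero_add] at hz
        apply hK1
        have hn0 : ((n : ℤ) - 1) ≠ 0 := by omega
        have : (K : ℤ) = 1 := mul_left_cancel₀ hn0 (by rw [hz, mul_one])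
        exact_mod_cast this
      have hdvd : ((n : ℤ) - 1) ∣ ((fx b : ℤ) - 1) * ((fx c : ℤ) - 1) := ⟨K - 1, by linear_combination -hz⟩
      have hb1 : (fx b : ℤ) - 1 ≠ 0 := left_ne_zero_of_mul h0
      have hc1 : (fx c : ℤ) - 1 ≠ 0 := right_ne_zero_of_mul h0
      rw [not_and_or] at hpos
      have hlt : |((fx b : ℤ) - 1) * ((fx c : ℤ) - 1)| < (n : ℤ) - 1 := by
        rcases hpos with h | h
        · have : fx b = 0 := by omega
          rw [this]
          rw [abs_lt]
          constructor <;> push_cast <;> omega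
        · have : fx c = 0 := by omega
          rw [this]
          rw [abs_lt]
          constructor <;> push_cast <;> omega
      have := Int.eq_zero_of_abs_lt_dvd hdvd hlt
      exact h0 this

theorem main (hn : 5 ≤ n) (a b : Perm (Fin n)) (ha : a ≠ 1) (hb : b ≠ 1) :
    ∃ g₁ h₁ g₂ h₂ : Perm (Fin n), g₁ ∈ alternatingGroup (Fin n) ∧ h₁ ∈ alternatingGroup (Fin n) ∧ g₂ ∈ alternatingGroup (Fin n) ∧ h₂ ∈ alternatingGroup (Fin n) ∧
      Nat.card (Function.fixedPoints ⇑(g₁ * a * g₁⁻¹ * (h₁ * b * h₁⁻¹))) ≠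
        Nat.card (Function.fixedPoints ⇑(g₂ * a * g₂⁻¹ * (h₂ * b * h₂⁻¹))) := by
  by_contra hcon
  push Not at hcon
  apply nonconst hn hb (inv_ne_one.2 ha) (N b a⁻¹ 1)
  intro h hh
  have := hcon 1 h 1 1 (one_mem _) hh (one_mem _) (one_mem _)
  rw [inv_one, mul_one, one_mul] at this
  rw [card_fixed] at this
  have h2 := card_fixed a b 1
  rw [inv_one, mul_one, one_mul] at h2
  rw [mul_one, one_mul] at this
  rw [this, h2]

end Cfsg.Agent.H16.FixAlt
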