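import Mathlib
import Cfsg.Agent.H23.JordanNilp

set_option autoImplicit false
set_option linter.all false

/-! Jordan types of nilpotent endomorphisms and partitions. -/

namespace Cfsg.Agent.H16.JNil

open Module

variable {K : Type*} [Field K] {V : Type*} [AddCommGroup V] [Module K V] {W : Type*} [AddCommGroup W] [Module K W]

/-- `ν` has Jordan blocks of sizes `k i` -/
def HasType {ι : Type*} (ν : Module.End K V) (k : ι → ℕ) : Prop :=
  ∃ v : ι → V, (∀ i, (ν ^ (k i)) (v i) = 0) ∧
      LinearIndependent K (fun x : (Σ i, Fin (k i)) => (ν ^ (x.2 : ℕ)) (v x.1)) ∧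
      Submodule.span K (Set.range (fun x : (Σ i, Fin (k i)) => (ν ^ (x.2 : ℕ)) (v x.1))) = ⊤

section basic
variable {ι ι' : Type*} {ν : Module.End K V} {k : ι → ℕ}

lemma HasType.basis (h : HasType ν k) : ∃ b : Basis (Σ i, Fin (k i)) K V, ∀ i (s : Fin (k i)),
    ν (b ⟨i, s⟩) = if hs : s.val + 1 < k i then b ⟨i, ⟨s.val + 1, hs⟩⟩ else 0 := by
  obtain ⟨v, h0, hli, hspan⟩ := h
  refine ⟨Basis.mk hli hspan.ge, fun i s => ?_⟩
  rw [Basis.mk_apply]
  simp only
  split_ifs with hs
  · rw [Basis.mk_apply]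
    simp only
    rw [pow_succ']
    rfl
  · have : s.val + 1 = k i := by have := s.2; omega
    have h1 := h0 i
    rw [← this, pow_succ'] at h1
    exact h1

lemma hasType_of_basis (b : Basis (Σ i, Fin (k i)) K V) (hb : ∀ i (s : Fin (k i)),
    ν (b ⟨i, s⟩) = if hs : s.val + 1 < k i then b ⟨i, ⟨s.val + 1, hs⟩⟩ else 0) : HasType ν k := by
  classical
  let v : ι → V := fun i => if h : 0 < k i then b ⟨i, ⟨0, h⟩⟩ else 0
  have hv : ∀ i (s : ℕ) (hs : s < k i), (ν ^ s) (v i) = b ⟨i, ⟨s, hs⟩⟩ := by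
    intro i s
    induction s with
    | zero => intro hs; simp [v, hs]
    | succ s ih =>
      intro hs
      rw [pow_succ', Module.End.mul_apply, ih (by omega), hb, dif_pos hs]
  refine ⟨v, ?_, ?_, ?_⟩
  · intro i
    rcases Nat.eq_zero_or_pos (k i) with h | h
    · rw [h, pow_zero]; simp [v, h]
    · have h1 : (ν ^ (k i - 1)) (v i) = b ⟨i, ⟨k i - 1, by omega⟩⟩ := hv i _ (by omega)
      have h2 : k i = (k i - 1) + 1 := by omega
      rw [h2, pow_succ', Module.End.mul_apply, h1, hb, dif_neg (by simp only; omega)]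
  · have : (fun x : (Σ i, Fin (k i)) => (ν ^ (x.2 : ℕ)) (v x.1)) = b := by
      funext x; exact hv x.1 x.2 x.2.2
    rw [this]; exact b.linearIndependent
  · have : (fun x : (Σ i, Fin (k i)) => (ν ^ (x.2 : ℕ)) (v x.1)) = b := by
      funext x; exact hv x.1 x.2 x.2.2
    rw [this]; exact b.span_eq

/-- endomorphisms of the same type are similar -/
theorem HasType.similar (h : HasType ν k) {μ : Module.End K W} (h' : HasType μ k) : ∃ e : V ≃ₗ[K] W, ∀ x, e (ν x) = μ (e x) := by
  obtain ⟨b, hb⟩ := h.basis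
  obtain ⟨c, hc⟩ := h'.basis
  let e : V ≃ₗ[K] W := b.equiv c (Equiv.refl _)
  have he : ∀ x, e (b x) = c x := fun x => by simp [e]
  refine ⟨e, ?_⟩
  have : e.toLinearMap ∘ₗ ν = μ ∘ₗ e.toLinearMap := by
    apply b.ext
    rintro ⟨i, s⟩
    simp only [LinearMap.comp_apply, LinearEquiv.coe_coe]
    rw [hb, he, hc]
    split_ifs with hs
    · rw [he]
    · rw [map_zero]
  intro x
  exact LinearMap.congr_fun this x

lemma HasType.conj (h : HasType ν k) (e : V ≃ₗ[K] W) : HasType (e.toLinearMap ∘ₗ ν ∘ₗ e.symm.toLinearMap) k := by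
  obtain ⟨b, hb⟩ := h.basis
  apply hasType_of_basis (b.map e)
  intro i s
  simp only [Basis.map_apply, LinearMap.comp_apply, LinearEquiv.coe_coe, LinearEquiv.symm_apply_apply]
  rw [hb]
  split_ifs
  · rfl
  · rw [map_zero]

lemma HasType.reindex (h : HasType ν k) (σ : ι' ≃ ι) : HasType ν (k ∘ σ) := by
  obtain ⟨b, hb⟩ := h.basis
  let τ : (Σ i, Fin (k i)) ≃ (Σ j, Fin ((k ∘ σ) j)) := (Equiv.sigmaCongrLeft (β := fun i => Fin (k i)) σ).symm
  have hτ : ∀ j (s : Fin (k (σ j))), τ.symm ⟨j, s⟩ = ⟨σ j, s⟩ := fun j s => rfl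
  apply hasType_of_basis (b.reindex τ)
  intro j s
  rw [Basis.reindex_apply, hτ, hb]
  simp only [Function.comp]
  split_ifs with h1
  · rw [Basis.reindex_apply]; rfl
  · rfl

lemma HasType.drop (h : HasType ν k) : HasType ν (fun i : {i // k i ≠ 0} => k i) := by
  obtain ⟨b, hb⟩ := h.basis
  let τ : (Σ i, Fin (k i)) ≃ (Σ j : {i // k i ≠ 0}, Fin (k j)) :=
    { toFun := fun x => ⟨⟨x.1, by have := x.2.2; omega⟩, x.2⟩
      invFun := fun x => ⟨x.1.1, x.2⟩
      left_inv := fun x => rfl
      right_inv := fun x => rfl }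
  have hτ : ∀ (j : {i // k i ≠ 0}) (s : Fin (k j)), τ.symm ⟨j, s⟩ = ⟨j.1, s⟩ := fun j s => rfl
  apply hasType_of_basis (b.reindex τ)
  intro j s
  rw [Basis.reindex_apply, hτ, hb]
  split_ifs with h1
  · rw [Basis.reindex_apply]; rfl
  · rfl

lemma HasType.undrop (h : HasType ν (fun i : {i // k i ≠ 0} => k i)) : HasType ν k := by
  obtain ⟨b, hb⟩ := h.basis
  let τ : (Σ j : {i // k i ≠ 0}, Fin (k j)) ≃ (Σ i, Fin (k i)) :=
    { toFun := fun x => ⟨x.1.1, x.2⟩
      invFun := fun x => ⟨⟨x.1, by have := x.2.2; omega⟩, x.2⟩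
      left_inv := fun x => rfl
      right_inv := fun x => rfl }
  have hτ : ∀ i (s : Fin (k i)), τ.symm ⟨i, s⟩ = ⟨⟨i, by have := s.2; omega⟩, s⟩ := fun j s => rfl
  apply hasType_of_basis (b.reindex τ)
  intro j s
  rw [Basis.reindex_apply, hτ, hb]
  simp only
  split_ifs with h1
  · rw [Basis.reindex_apply]; rfl
  · rfl

lemma pow_basis {b : Basis (Σ i, Fin (k i)) K V} (hb : ∀ i (s : Fin (k i)),
    ν (b ⟨i, s⟩) = if hs : s.val + 1 < k i then b ⟨i, ⟨s.val + 1, hs⟩⟩ else 0) (t : ℕ) : ∀ i (s : Fin (k i)),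
    (ν ^ t) (b ⟨i, s⟩) = if hs : s.val + t < k i then b ⟨i, ⟨s.val + t, hs⟩⟩ else 0 := by
  induction t with
  | zero => intro i s; rw [pow_zero, dif_pos (by simpa using s.2)]; rfl
  | succ t ih =>
    intro i s
    rw [pow_succ', Module.End.mul_apply, ih]
    by_cases h1 : s.val + t < k i
    · rw [dif_pos h1, hb]
      simp only
      split_ifs with h2 h3 h3
      · rfl
      · omega
      · omega
      · rfl
    · rw [dif_neg h1, dif_neg (by omega), map_zero]

/-- ranks of powers -/
theorem HasType.rank [Fintype ι] (h : HasType ν k) (t : ℕ) : finrank K (LinearMap.range (ν ^ t)) = ∑ i, (k i - t) := by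
  classical
  obtain ⟨b, hb⟩ := h.basis
  have hp := pow_basis hb t
  let c : (Σ i, Fin (k i - t)) → V := fun x => b ⟨x.1, ⟨x.2.val + t, by have := x.2.2; omega⟩⟩
  have hc : LinearIndependent K c := by
    apply b.linearIndependent.comp (fun x : (Σ i, Fin (k i - t)) => (⟨x.1, ⟨x.2.val + t, by have := x.2.2; omega⟩⟩ : Σ i, Fin (k i)))
    rintro ⟨i, s⟩ ⟨j, r⟩ h
    simp only [Sigma.mk.injEq] at h
    obtain ⟨rfl, h⟩ := h
    simp only [heq_eq_eq, Fin.mk.injEq, Nat.add_right_cancel_iff] at h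
    rw [Fin.ext h]
  have hspan : Submodule.span K (Set.range c) = LinearMap.range (ν ^ t) := by
    apply le_antisymm
    · rw [Submodule.span_le]
      rintro _ ⟨⟨i, s⟩, rfl⟩
      refine ⟨b ⟨i, ⟨s.val, by have := s.2; omega⟩⟩, ?_⟩
      rw [hp, dif_pos (by have := s.2; simp only; omega)]
    · rw [LinearMap.range_eq_map, ← b.span_eq, Submodule.map_span, Submodule.span_le]
      rintro _ ⟨_, ⟨⟨i, s⟩, rfl⟩, rfl⟩
      rw [hp]
      split_ifs with h1
      · apply Submodule.subset_span
        refine ⟨⟨i, ⟨s.val, by omega⟩⟩, rfl⟩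
      · exact Submodule.zero_mem _
  rw [← hspan, finrank_span_eq_card hc, Fintype.card_sigma]
  simp

lemma HasType.finrank [Fintype ι] (h : HasType ν k) : finrank K V = ∑ i, k i := by
  have := h.rank 0
  rw [pow_zero, Module.End.one_eq_id, LinearMap.range_id, finrank_top] at this
  simpa using this

/-- existence of each type -/
lemma exists_type (k : ι → ℕ) (b : Basis (Σ i, Fin (k i)) K V) : ∃ ν : Module.End K V, HasType ν k := by
  refine ⟨b.constr K (fun x => if hs : x.2.val + 1 < k x.1 then b ⟨x.1, ⟨x.2.val + 1, hs⟩⟩ else 0), hasType_of_basis b ?_⟩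
  intro i s
  rw [Basis.constr_basis]

end basic

/-- functions with the same multiset of values differ by a bijection -/
lemma exists_equiv_of_map {ι ι' : Type*} [Fintype ι] [Fintype ι'] (k : ι → ℕ) (k' : ι' → ℕ)
    (h : (Finset.univ.val.map k : Multiset ℕ) = Finset.univ.val.map k') : ∃ σ : ι ≃ ι', ∀ i, k' (σ i) = k i := by
  classical
  have hc : ∀ t, Nonempty ({i // k i = t} ≃ {j // k' j = t}) := by
    intro t
    have h1 := congrArg (fun m => Multiset.count t m) h
    simp only [Multiset.count_map] at h1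
    refine ⟨Fintype.equivOfCardEq ?_⟩
    rw [Fintype.card_subtype, Fintype.card_subtype]
    simp only [eq_comm (a := t)] at h1
    exact h1
  have e' : ∀ t, {i // k i = t} ≃ {j // k' j = t} := fun t => Classical.choice (hc t)
  let σ := (Equiv.sigmaFiberEquiv k).symm.trans ((Equiv.sigmaCongrRight e').trans (Equiv.sigmaFiberEquiv k'))
  refine ⟨σ, fun i => ?_⟩
  exact (e' (k i) ⟨i, rfl⟩).2

/-- the type of `ν` is the partition `μ` -/
def PT {n : ℕ} (ν : Module.End K V) (μ : Nat.Partition n) : Prop :=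
  ∃ (m : ℕ) (k : Fin m → ℕ), HasType ν k ∧ (Finset.univ.val.map k).filter (· ≠ 0) = μ.parts

lemma map_drop {ι : Type*} [Fintype ι] (k : ι → ℕ) :
    (Finset.univ.val.map (fun i : {i // k i ≠ 0} => k i) : Multiset ℕ) = (Finset.univ.val.map k).filter (· ≠ 0) := by
  classical
  rw [Multiset.filter_map]
  have h1 : (Multiset.filter ((fun x => x ≠ 0) ∘ k) (Finset.univ : Finset ι).val) = ((Finset.univ : Finset {i // k i ≠ 0}).val.map Subtype.val) := by
    have h2 : ((Finset.univ : Finset {i // k i ≠ 0}).map (Function.Embedding.subtype _)) = Finset.univ.filter (fun i => k i ≠ 0) := by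
      ext i; simp
    have h3 := congrArg Finset.val h2
    rw [Finset.map_val, Finset.filter_val] at h3
    exact h3.symm
  rw [h1, Multiset.map_map]
  rfl

variable {n : ℕ}

theorem PT.similar {ν : Module.End K V} {ν' : Module.End K W} {μ : Nat.Partition n} (h : PT ν μ) (h' : PT ν' μ) :
    ∃ e : V ≃ₗ[K] W, ∀ x, e (ν x) = ν' (e x) := by
  classical
  obtain ⟨m, k, h1, h2⟩ := h
  obtain ⟨m', k', h1', h2'⟩ := h'
  rw [← map_drop] at h2 h2'
  obtain ⟨σ, hσ⟩ := exists_equiv_of_map _ _ (h2.trans h2'.symm)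
  have h3 := h1'.drop.reindex σ
  have h4 : ((fun i : {i // k' i ≠ 0} => k' i) ∘ σ) = (fun i : {i // k i ≠ 0} => k i) := by
    funext i; exact hσ i
  rw [h4] at h3
  exact h1.drop.similar h3

lemma PT.conj {ν : Module.End K V} {ν' : Module.End K W} {μ : Nat.Partition n} (h : PT ν μ) (e : V ≃ₗ[K] W) (he : ∀ x, e (ν x) = ν' (e x)) : PT ν' μ := by
  obtain ⟨m, k, h1, h2⟩ := h
  refine ⟨m, k, ?_, h2⟩
  have h3 := h1.conj e
  have h4 : (e.toLinearMap ∘ₗ ν ∘ₗ e.symm.toLinearMap) = ν' := by
    apply LinearMap.ext; intro x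
    simp [he]
  rwa [h4] at h3

lemma PT.rank {ν : Module.End K V} {μ : Nat.Partition n} (h : PT ν μ) (t : ℕ) :
    finrank K (LinearMap.range (ν ^ t)) = (μ.parts.map (fun x => x - t)).sum := by
  obtain ⟨m, k, h1, h2⟩ := h
  rw [h1.drop.rank t, ← h2, ← map_drop, Multiset.map_map]
  rfl

lemma count_of_sums {a b : Multiset ℕ} (ha : ∀ x ∈ a, x ≠ 0) (hb : ∀ x ∈ b, x ≠ 0)
    (h : ∀ t, (a.map (fun x => x - t)).sum = (b.map (fun x => x - t)).sum) : a = b := by
  classical
  have key : ∀ (c : Multiset ℕ) (t : ℕ), (c.map (fun x => x - t)).sum = (c.map (fun x => x - (t + 1))).sum + (c.filter (fun x => t < x)).card := by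
    intro c t
    induction c using Multiset.induction_on with
    | empty => simp
    | cons x c ih =>
      rw [Multiset.map_cons, Multiset.map_cons, Multiset.sum_cons, Multiset.sum_cons, ih, Multiset.filter_cons]
      split_ifs with hx
      · rw [Multiset.card_add, Multiset.card_singleton]; omega
      · rw [zero_add]; omega
  have h1 : ∀ t, (a.filter (fun x => t < x)).card = (b.filter (fun x => t < x)).card := by
    intro t
    have e1 := key a t
    have e2 := key b t
    have e3 := h t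
    have e4 := h (t + 1)
    omega
  have key2 : ∀ (c : Multiset ℕ) (t : ℕ), (c.filter (fun x => t < x)).card = (c.filter (fun x => t + 1 < x)).card + c.count (t + 1) := by
    intro c t
    induction c using Multiset.induction_on with
    | empty => simp
    | cons x c ih =>
      rw [Multiset.filter_cons, Multiset.filter_cons, Multiset.count_cons]
      by_cases h2 : t < x
      · by_cases h3 : t + 1 < x
        · rw [if_pos h2, if_pos h3, if_neg (by omega)]; simp only [Multiset.card_add, Multiset.card_singleton]; omega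
        · rw [if_pos h2, if_neg h3, if_pos (by omega)]; simp only [Multiset.card_add, Multiset.card_singleton, zero_add]; omega
      · rw [if_neg h2, if_neg (by omega), if_neg (by omega)]; simp only [zero_add]; omega
  ext x
  rcases x with _ | t
  · rw [Multiset.count_eq_zero_of_notMem (fun h0 => ha 0 h0 rfl), Multiset.count_eq_zero_of_notMem (fun h0 => hb 0 h0 rfl)]
  · have e1 := key2 a t
    have e2 := key2 b t
    have e3 := h1 t
    have e4 := h1 (t + 1)
    omega

theorem PT.unique {ν : Module.End K V} {μ μ' : Nat.Partition n} (h : PT ν μ) (h' : PT ν μ') : μ = μ' := by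
  apply Nat.Partition.ext
  apply count_of_sums (fun x hx => (μ.parts_pos hx).ne') (fun x hx => (μ'.parts_pos hx).ne')
  intro t
  rw [← h.rank t, h'.rank t]

theorem exists_PT (ν : Module.End K V) [FiniteDimensional K V] (hn : finrank K V = n) (hν : IsNilpotent ν) : ∃ μ : Nat.Partition n, PT ν μ := by
  obtain ⟨N, hN⟩ := hν
  obtain ⟨m, k, v, h1, h2, h3⟩ := Cfsg.Agent.H23.exists_jordan_basis ν hN
  have ht : HasType ν k := ⟨v, h1, h2, h3⟩
  have hs : ((Finset.univ.val.map k).filter (· ≠ 0)).sum = n := by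
    rw [← map_drop, ← hn, ht.drop.finrank]
    rfl
  exact ⟨⟨(Finset.univ.val.map k).filter (· ≠ 0), fun {i} hi => Nat.pos_of_ne_zero (Multiset.mem_filter.1 hi).2, hs⟩, m, k, ht, rfl⟩

theorem exists_of_partition (K : Type*) [Field K] (μ : Nat.Partition n) : ∃ ν : Module.End K (Fin n → K), PT ν μ := by
  classical
  let L := μ.parts.toList
  let k : Fin L.length → ℕ := fun i => L.get i
  have hmap : (Finset.univ.val.map k : Multiset ℕ) = μ.parts := by
    have h1 : (Finset.univ.val.map k : Multiset ℕ) = ((List.finRange L.length).map k : List ℕ) := by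
      rw [Fin.univ_val_map]
      congr 1
      rw [List.ofFn_eq_map]
    rw [h1]
    have h2 : (List.finRange L.length).map k = L := by
      rw [← List.ofFn_eq_map]
      exact List.ofFn_get L
    rw [h2]
    exact μ.parts.coe_toList
  have hcard : Fintype.card (Σ i, Fin (k i)) = n := by
    rw [Fintype.card_sigma]
    simp only [Fintype.card_fin]
    have h1 : ∑ i, k i = (Finset.univ.val.map k).sum := rfl
    rw [h1, hmap, μ.parts_sum]
  let e : (Σ i, Fin (k i)) ≃ Fin n := Fintype.equivFinOfCardEq hcard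
  obtain ⟨ν, hν⟩ := exists_type k ((Pi.basisFun K (Fin n)).reindex e.symm)
  refine ⟨ν, _, k, hν, ?_⟩
  rw [hmap, Multiset.filter_eq_self]
  intro a ha
  exact (μ.parts_pos ha).ne'

end Cfsg.Agent.H16.JNil
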