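import Mathlib

set_option autoImplicit false
set_option linter.all false

/-! Semisimple endomorphisms with the same characteristic polynomial are similar. -/

namespace Cfsg.Agent.H16.SSim

open Polynomial Module

universe u v w

variable {F : Type u} [Field F]

/-- characteristic polynomial of the action of `X` -/
noncomputable def cp (M : Type*) [AddCommGroup M] [Module F M] [Module F[X] M] [IsScalarTower F F[X] M] [FiniteDimensional F M] : F[X] :=
  LinearMap.charpoly (Algebra.lsmul F F M (X : F[X]))

section
variable {M : Type*} [AddCommGroup M] [Module F M] [Module F[X] M] [IsScalarTower F F[X] M] [FiniteDimensional F M]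
variable {N : Type*} [AddCommGroup N] [Module F N] [Module F[X] N] [IsScalarTower F F[X] N] [FiniteDimensional F N]

lemma cp_congr (e : M ≃ₗ[F[X]] N) : cp (F := F) M = cp (F := F) N := by
  unfold cp
  rw [← LinearEquiv.charpoly_conj (e.restrictScalars F)]
  congr 1
  ext v
  simp [LinearEquiv.conj_apply]

lemma cp_prod : cp (F := F) (M × N) = cp (F := F) M * cp (F := F) N := by
  unfold cp
  rw [← LinearMap.charpoly_prodMap]
  congr 1

lemma cp_natDegree : (cp (F := F) M).natDegree = finrank F M := LinearMap.charpoly_natDegree _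

lemma cp_monic : (cp (F := F) M).Monic := LinearMap.charpoly_monic _

end

/-- the simple module of an irreducible polynomial -/
abbrev QQ (p : F[X]) := F[X] ⧸ Ideal.span {p}

lemma finite_QQ {p : F[X]} (hp : p.Monic) : FiniteDimensional F (QQ p) := (AdjoinRoot.powerBasis hp.ne_zero).finite

lemma cp_QQ {p : F[X]} (hp : p.Monic) [FiniteDimensional F (QQ p)] : cp (F := F) (QQ p) = p := by
  have h1 : (Algebra.lsmul F F (QQ p) (X : F[X])) = Algebra.lmul F (AdjoinRoot p) (AdjoinRoot.root p) := by
    apply LinearMap.ext
    intro v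
    obtain ⟨a, rfl⟩ := Ideal.Quotient.mk_surjective v
    rw [Algebra.lsmul_coe]
    show (X : F[X]) • (Ideal.Quotient.mk (Ideal.span {p}) a) = Ideal.Quotient.mk (Ideal.span {p}) X * (Ideal.Quotient.mk (Ideal.span {p}) a)
    rw [← map_mul, ← smul_eq_mul, ← Ideal.Quotient.mk_eq_mk, ← Submodule.Quotient.mk_smul]
    rfl
  haveI : FiniteDimensional F (AdjoinRoot p) := (AdjoinRoot.powerBasis hp.ne_zero).finite
  unfold cp
  rw [h1]
  have h2 := charpoly_leftMulMatrix (AdjoinRoot.powerBasis hp.ne_zero)
  rw [AdjoinRoot.minpoly_powerBasis_gen_of_monic hp] at h2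
  rw [Algebra.leftMulMatrix_apply, LinearMap.charpoly_toMatrix] at h2
  exact h2

lemma exists_simple {M : Type v} [AddCommGroup M] [Module F M] [Module F[X] M] [IsScalarTower F F[X] M] [FiniteDimensional F M]
    [IsSemisimpleModule F[X] M] [Nontrivial M] :
    ∃ (p : F[X]) (_ : p.Monic) (_ : Irreducible p) (N : Submodule F[X] M), Nonempty (M ≃ₗ[F[X]] QQ p × N) := by
  haveI : IsAtomic (Submodule F[X] M) := inferInstance
  obtain ⟨S, hS⟩ := IsAtomic.exists_atom (Submodule F[X] M)
  haveI : IsSimpleModule F[X] S := isSimpleModule_iff_isAtom.2 hS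
  obtain ⟨I, hI, ⟨e⟩⟩ := isSimpleModule_iff_quot_maximal.1 this
  obtain ⟨N, hN⟩ := exists_isCompl S
  have hI0 : I ≠ ⊥ := by
    rintro rfl
    have e2 : S ≃ₗ[F[X]] F[X] := e.trans (Submodule.quotEquivOfEqBot ⊥ rfl)
    have e3 : S ≃ₗ[F] F[X] := e2.restrictScalars F
    haveI : FiniteDimensional F S := inferInstanceAs (FiniteDimensional F (S.restrictScalars F))
    haveI : FiniteDimensional F F[X] := e3.finiteDimensional
    exact absurd this (by
      intro h
      exact Polynomial.not_finite h)
  obtain ⟨p0, hp0⟩ := (IsPrincipalIdealRing.principal I).principal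
  have hp00 : p0 ≠ 0 := by rintro rfl; apply hI0; rw [hp0]; simp
  have hunit : IsUnit (C (p0.leadingCoeff)⁻¹ : F[X]) := isUnit_C.2 (IsUnit.mk0 _ (inv_ne_zero (leadingCoeff_ne_zero.2 hp00)))
  set p := p0 * C (p0.leadingCoeff)⁻¹ with hp
  have hpm : p.Monic := monic_mul_leadingCoeff_inv hp00
  have hIp : I = Ideal.span {p} := by
    rw [hp0, hp]
    symm
    exact Ideal.span_singleton_mul_right_unit hunit p0
  have hirr : Irreducible p := by
    rw [hIp] at hI
    have := (Ideal.span_singleton_prime hpm.ne_zero).1 hI.isPrime
    exact this.irreducible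
  refine ⟨p, hpm, hirr, N, ⟨?_⟩⟩
  have e4 : (F[X] ⧸ I) ≃ₗ[F[X]] QQ p := Submodule.quotEquivOfEq _ _ hIp
  exact (Submodule.prodEquivOfIsCompl S N hN).symm.trans (LinearEquiv.prodCongr (e.trans e4) (LinearEquiv.refl _ _))

/-- an irreducible factor of the characteristic polynomial occurs as a direct summand -/
lemma exists_summand {p : F[X]} (hpm : p.Monic) (hp : Irreducible p) : ∀ (n : ℕ) {M : Type v} [AddCommGroup M] [Module F M] [Module F[X] M]
    [IsScalarTower F F[X] M] [FiniteDimensional F M] [IsSemisimpleModule F[X] M], finrank F M = n → p ∣ cp (F := F) M →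
    ∃ (N : Submodule F[X] M), Nonempty (M ≃ₗ[F[X]] QQ p × N) := by
  intro n
  induction n using Nat.strong_induction_on with
  | _ n ih =>
    intro M _ _ _ _ _ _ hn hdvd
    rcases subsingleton_or_nontrivial M with hs | hnt
    · exfalso
      have h1 := cp_natDegree (F := F) (M := M)
      rw [finrank_zero_of_subsingleton] at h1
      have h2 : cp (F := F) M = 1 := (cp_monic (F := F) (M := M)).natDegree_eq_zero.1 h1
      rw [h2] at hdvd
      exact hp.not_isUnit (isUnit_of_dvd_one hdvd)
    · obtain ⟨q, hqm, hq, N, ⟨e⟩⟩ := exists_simple (F := F) (M := M)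
      haveI := finite_QQ hqm
      haveI := finite_QQ hpm
      haveI : FiniteDimensional F N := inferInstanceAs (FiniteDimensional F (N.restrictScalars F))
      have h1 : cp (F := F) M = q * cp (F := F) N := by rw [cp_congr e, cp_prod, cp_QQ hqm]
      by_cases hqp : q = p
      · subst hqp; exact ⟨N, ⟨e⟩⟩
      · have h2 : p ∣ cp (F := F) N := by
          rw [h1] at hdvd
          refine (hp.prime.dvd_or_dvd hdvd).resolve_left ?_
          intro h3
          exact hqp (eq_of_monic_of_associated hqm hpm (hp.associated_of_dvd hq h3).symm)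
        have h3 : finrank F N < n := by
          rw [← hn, ← cp_natDegree (F := F) (M := M), ← cp_natDegree (F := F) (M := N), h1, (hqm.natDegree_mul (cp_monic (F := F) (M := N)))]
          have := hq.natDegree_pos
          omega
        obtain ⟨N', ⟨e'⟩⟩ := ih _ h3 (M := N) rfl h2
        have e2 : M ≃ₗ[F[X]] QQ p × (QQ q × N') :=
          e.trans ((LinearEquiv.prodCongr (LinearEquiv.refl _ _) e').trans
            ((LinearEquiv.prodAssoc F[X] (QQ q) (QQ p) N').symm.trans
              ((LinearEquiv.prodCongr (LinearEquiv.prodComm F[X] (QQ q) (QQ p)) (LinearEquiv.refl _ _)).trans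
                (LinearEquiv.prodAssoc F[X] (QQ p) (QQ q) N'))))
        -- transport the second factor to a submodule of M
        let W : Submodule F[X] M := (Submodule.prod (⊥ : Submodule F[X] (QQ p)) (⊤ : Submodule F[X] (QQ q × N'))).comap e2.toLinearMap
        refine ⟨W, ⟨?_⟩⟩
        have e3 : W ≃ₗ[F[X]] (QQ q × N') :=
          { toFun := fun x => (e2 x.1).2
            map_add' := fun x y => by simp
            map_smul' := fun c x => by simp
            invFun := fun y => ⟨e2.symm (0, y), by
              show e2 (e2.symm (0, y)) ∈ Submodule.prod (⊥ : Submodule F[X] (QQ p)) (⊤ : Submodule F[X] (QQ q × N'))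
              rw [LinearEquiv.apply_symm_apply]
              exact ⟨rfl, trivial⟩⟩
            left_inv := fun x => by
              apply Subtype.ext
              show e2.symm (0, (e2 x.1).2) = x.1
              have h5 : (e2 x.1).1 = 0 := x.2.1
              rw [← h5, Prod.mk.eta, LinearEquiv.symm_apply_apply]
            right_inv := fun y => by
              show (e2 (e2.symm (0, y))).2 = y
              rw [LinearEquiv.apply_symm_apply] }
        exact e2.trans (LinearEquiv.prodCongr (LinearEquiv.refl _ _) e3.symm)

/-- semisimple modules with equal characteristic polynomial are isomorphic -/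
theorem equiv_of_cp : ∀ (n : ℕ) {M : Type v} [AddCommGroup M] [Module F M] [Module F[X] M] [IsScalarTower F F[X] M] [FiniteDimensional F M]
    [IsSemisimpleModule F[X] M] {N : Type w} [AddCommGroup N] [Module F N] [Module F[X] N] [IsScalarTower F F[X] N] [FiniteDimensional F N]
    [IsSemisimpleModule F[X] N], finrank F M = n → cp (F := F) M = cp (F := F) N → Nonempty (M ≃ₗ[F[X]] N) := by
  intro n
  induction n using Nat.strong_induction_on with
  | _ n ih =>
    intro M _ _ _ _ _ _ N _ _ _ _ _ _ hn h
    have hdim : finrank F M = finrank F N := by rw [← cp_natDegree (F := F) (M := M), ← cp_natDegree (F := F) (M := N), h]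
    rcases subsingleton_or_nontrivial M with hs | hnt
    · haveI : Subsingleton N := by
        rw [finrank_zero_of_subsingleton] at hdim
        exact finrank_zero_iff.1 hdim.symm
      exact ⟨{ toFun := fun _ => 0, map_add' := fun _ _ => Subsingleton.elim _ _, map_smul' := fun _ _ => Subsingleton.elim _ _,
               invFun := fun _ => 0, left_inv := fun _ => Subsingleton.elim _ _, right_inv := fun _ => Subsingleton.elim _ _ }⟩
    · obtain ⟨q, hqm, hq, M', ⟨e⟩⟩ := exists_simple (F := F) (M := M)
      haveI := finite_QQ hqm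
      haveI : FiniteDimensional F M' := inferInstanceAs (FiniteDimensional F (M'.restrictScalars F))
      have h1 : cp (F := F) M = q * cp (F := F) M' := by rw [cp_congr e, cp_prod, cp_QQ hqm]
      obtain ⟨N', ⟨e'⟩⟩ := exists_summand hqm hq _ (M := N) rfl (by rw [← h, h1]; exact dvd_mul_right _ _)
      haveI : FiniteDimensional F N' := inferInstanceAs (FiniteDimensional F (N'.restrictScalars F))
      have h2 : cp (F := F) N = q * cp (F := F) N' := by rw [cp_congr e', cp_prod, cp_QQ hqm]
      have h3 : cp (F := F) M' = cp (F := F) N' := mul_left_cancel₀ hqm.ne_zero (by rw [← h1, ← h2, h])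
      have h4 : finrank F M' < n := by
        rw [← hn, ← cp_natDegree (F := F) (M := M), ← cp_natDegree (F := F) (M := M'), h1, (hqm.natDegree_mul (cp_monic (F := F) (M := M')))]
        have := hq.natDegree_pos
        omega
      obtain ⟨e3⟩ := ih _ h4 (M := M') (N := N') rfl h3
      exact ⟨e.trans ((LinearEquiv.prodCongr (LinearEquiv.refl _ _) e3).trans e'.symm)⟩

lemma cp_aeval {V : Type v} [AddCommGroup V] [Module F V] [FiniteDimensional F V] (f : Module.End F V) [FiniteDimensional F (AEval' f)] :
    cp (F := F) (AEval' f) = f.charpoly := by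
  unfold cp
  rw [← LinearEquiv.charpoly_conj (AEval'.of f).symm]
  congr 1
  ext v
  simp [LinearEquiv.conj_apply]

/-- semisimple endomorphisms with the same characteristic polynomial are similar -/
theorem similar_of_charpoly {V : Type v} [AddCommGroup V] [Module F V] [FiniteDimensional F V] {W : Type w} [AddCommGroup W] [Module F W] [FiniteDimensional F W]
    {f : Module.End F V} {g : Module.End F W} (hf : f.IsSemisimple) (hg : g.IsSemisimple) (h : f.charpoly = g.charpoly) :
    ∃ e : V ≃ₗ[F] W, ∀ v, e (f v) = g (e v) := by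
  haveI : IsSemisimpleModule F[X] (AEval' f) := hf
  haveI : IsSemisimpleModule F[X] (AEval' g) := hg
  haveI : FiniteDimensional F (AEval' f) := (AEval'.of f).finiteDimensional
  haveI : FiniteDimensional F (AEval' g) := (AEval'.of g).finiteDimensional
  obtain ⟨e⟩ := equiv_of_cp (F := F) _ (M := AEval' f) (N := AEval' g) rfl (by rw [cp_aeval f, cp_aeval g, h])
  refine ⟨(AEval'.of f).trans ((e.restrictScalars F).trans (AEval'.of g).symm), fun v => ?_⟩
  have h1 : AEval'.of f (f v) = (X : F[X]) • AEval'.of f v := (AEval'.X_smul_of f v).symm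
  show (AEval'.of g).symm (e (AEval'.of f (f v))) = g ((AEval'.of g).symm (e (AEval'.of f v)))
  rw [h1, map_smul]
  simp

end Cfsg.Agent.H16.SSim
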