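import Mathlib
import Cfsg.Agent.H16.SSim
import Cfsg.Agent.H16.CentDet

set_option autoImplicit false
set_option linter.all false

/-! Semisimple (p'-) classes of `GL_n(q)` and `SL_n(q)`. -/

namespace Cfsg.Agent.H16.SSim

open Polynomial Module Matrix

universe u

variable {F : Type u} [Field F]

lemma card_classes {G T : Type*} [Group G] (P : G → Prop) (φ : G → T) (h1 : ∀ g h, P g → P h → φ g = φ h → IsConj g h)
    (h2 : ∀ g h, IsConj g h → φ g = φ h) (h3 : ∀ t, ∃ g, P g ∧ φ g = t) :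
    Nat.card {c : ConjClasses G // ∃ g, ConjClasses.mk g = c ∧ P g} = Nat.card T := by
  classical
  let f : {c : ConjClasses G // ∃ g, ConjClasses.mk g = c ∧ P g} → T := fun c => φ (Classical.choose c.2)
  apply Nat.card_congr (Equiv.ofBijective f ⟨?_, ?_⟩)
  · intro c d hcd
    have hc := Classical.choose_spec c.2
    have hd := Classical.choose_spec d.2
    have := h1 _ _ hc.2 hd.2 hcd
    apply Subtype.ext
    rw [← hc.1, ← hd.1]
    exact ConjClasses.mk_eq_mk_iff_isConj.2 this
  · intro t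
    obtain ⟨g, hg, rfl⟩ := h3 t
    refine ⟨⟨ConjClasses.mk g, g, rfl, hg⟩, ?_⟩
    have hc := Classical.choose_spec (⟨ConjClasses.mk g, g, rfl, hg⟩ : {c : ConjClasses G // ∃ g, ConjClasses.mk g = c ∧ P g}).2
    exact h2 _ _ (ConjClasses.mk_eq_mk_iff_isConj.1 hc.1)

section ss
variable {V : Type*} [AddCommGroup V] [Module F V] [FiniteDimensional F V]

lemma squarefree_of_pow {m : ℕ} (hm : (m : F) ≠ 0) : Squarefree (X ^ m - 1 : F[X]) :=
  ((X_pow_sub_one_separable_iff).2 hm).squarefree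

lemma ss_of_pow {f : Module.End F V} {m : ℕ} (hm : (m : F) ≠ 0) (h : f ^ m = 1) :
    f.IsSemisimple ∧ Squarefree (minpoly F f) := by
  have h1 : aeval f (X ^ m - 1 : F[X]) = 0 := by simp [h]
  exact ⟨Module.End.isSemisimple_of_squarefree_aeval_eq_zero (squarefree_of_pow hm) h1,
    (squarefree_of_pow hm).squarefree_of_dvd (minpoly.dvd F f h1)⟩

end ss

variable {n : ℕ}

lemma gl_conj_iff (g h : GL (Fin n) F) (e : (Fin n → F) ≃ₗ[F] (Fin n → F))
    (he : ∀ v, e ((g : Matrix (Fin n) (Fin n) F) *ᵥ v) = (h : Matrix (Fin n) (Fin n) F) *ᵥ (e v)) :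
    ∃ P : GL (Fin n) F, P * g = h * P := by
  let P : GL (Fin n) F := ⟨LinearMap.toMatrix' e.toLinearMap, LinearMap.toMatrix' e.symm.toLinearMap, by
    rw [← LinearMap.toMatrix'_comp]; simp, by rw [← LinearMap.toMatrix'_comp]; simp⟩
  refine ⟨P, ?_⟩
  apply Units.ext
  rw [Units.val_mul, Units.val_mul]
  apply Matrix.toLin'.injective
  show toLin' (LinearMap.toMatrix' e.toLinearMap * (g : Matrix (Fin n) (Fin n) F)) = toLin' ((h : Matrix (Fin n) (Fin n) F) * LinearMap.toMatrix' e.toLinearMap)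
  apply LinearMap.ext
  intro v
  rw [toLin'_mul, toLin'_mul, toLin'_toMatrix']
  simp only [LinearMap.comp_apply, toLin'_apply]
  exact he v

theorem gl_conj_of_charpoly {g h : GL (Fin n) F} {m m' : ℕ} (hm : (m : F) ≠ 0) (hm' : (m' : F) ≠ 0) (hg : g ^ m = 1) (hh : h ^ m' = 1)
    (hc : (g : Matrix (Fin n) (Fin n) F).charpoly = (h : Matrix (Fin n) (Fin n) F).charpoly) :
    ∃ P : GL (Fin n) F, P * g = h * P := by
  have h1 : (toLin' (g : Matrix (Fin n) (Fin n) F)) ^ m = 1 := by
    rw [← toLin'_pow, ← Units.val_pow_eq_pow_val, hg]; simp; rfl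
  have h2 : (toLin' (h : Matrix (Fin n) (Fin n) F)) ^ m' = 1 := by
    rw [← toLin'_pow, ← Units.val_pow_eq_pow_val, hh]; simp; rfl
  obtain ⟨e, he⟩ := similar_of_charpoly (ss_of_pow hm h1).1 (ss_of_pow hm' h2).1 (by rw [charpoly_toLin', charpoly_toLin', hc])
  exact gl_conj_iff g h e (fun v => by rw [← toLin'_apply, he, toLin'_apply])

theorem sl_conj_of_charpoly [Finite F] {g h : SpecialLinearGroup (Fin n) F} {m m' : ℕ} (hm : (m : F) ≠ 0) (hm' : (m' : F) ≠ 0) (hg : g ^ m = 1) (hh : h ^ m' = 1)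
    (hc : (g : Matrix (Fin n) (Fin n) F).charpoly = (h : Matrix (Fin n) (Fin n) F).charpoly) : IsConj g h := by
  rcases Nat.eq_zero_or_pos n with rfl | hn
  · haveI : Subsingleton (SpecialLinearGroup (Fin 0) F) := ⟨fun a b => Subtype.ext (Subsingleton.elim _ _)⟩
    rw [Subsingleton.elim g h]
  haveI : Nonempty (Fin n) := ⟨⟨0, hn⟩⟩
  have hgG : (SpecialLinearGroup.toGL g) ^ m = 1 := by rw [← map_pow, hg, map_one]
  have hhG : (SpecialLinearGroup.toGL h) ^ m' = 1 := by rw [← map_pow, hh, map_one]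
  obtain ⟨P, hP⟩ := gl_conj_of_charpoly (g := SpecialLinearGroup.toGL g) (h := SpecialLinearGroup.toGL h) hm hm' hgG hhG hc
  have hgm : (g : Matrix (Fin n) (Fin n) F) ^ m = 1 := by
    have := congrArg (fun x : GL (Fin n) F => (x : Matrix (Fin n) (Fin n) F)) hgG
    simp only [Units.val_pow_eq_pow_val] at this
    exact this
  have h1 : (toLin' (g : Matrix (Fin n) (Fin n) F)) ^ m = 1 := by
    rw [← toLin'_pow, hgm]; simp; rfl
  obtain ⟨ψ, hψ, hdet⟩ := exists_commuting_det (toLin' (g : Matrix (Fin n) (Fin n) F)) (ss_of_pow hm h1).2 (((GeneralLinearGroup.det P)⁻¹ : Fˣ) : F)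
  set C : Matrix (Fin n) (Fin n) F := LinearMap.toMatrix' ψ with hC
  have hCdet : C.det = (((GeneralLinearGroup.det P)⁻¹ : Fˣ) : F) := by rw [hC, LinearMap.det_toMatrix', hdet]
  have hCg : C * (g : Matrix (Fin n) (Fin n) F) = (g : Matrix (Fin n) (Fin n) F) * C := by
    apply Matrix.toLin'.injective
    rw [toLin'_mul, toLin'_mul, hC, toLin'_toMatrix']
    exact hψ
  have hPC : ((P : Matrix (Fin n) (Fin n) F) * C).det = 1 := by
    rw [det_mul, hCdet, ← GeneralLinearGroup.val_det_apply, Units.mul_inv]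
  have hPg : (P : Matrix (Fin n) (Fin n) F) * (g : Matrix (Fin n) (Fin n) F) = (h : Matrix (Fin n) (Fin n) F) * P := congrArg (fun x : GL (Fin n) F => (x : Matrix (Fin n) (Fin n) F)) hP
  rw [isConj_iff]
  let R : Matrix.SpecialLinearGroup (Fin n) F := ⟨_, hPC⟩
  refine ⟨R, ?_⟩
  rw [mul_inv_eq_iff_eq_mul]
  apply Subtype.ext
  show (P : Matrix (Fin n) (Fin n) F) * C * g = h * (P * C)
  rw [mul_assoc, hCg, ← mul_assoc, hPg, mul_assoc]

lemma exists_with_charpoly (f : F[X]) (hf : f.Monic) (hn : f.natDegree = n) : ∃ M : Matrix (Fin n) (Fin n) F, M.charpoly = f := by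
  subst hn
  have h2 := charpoly_leftMulMatrix (AdjoinRoot.powerBasis hf.ne_zero)
  rw [AdjoinRoot.minpoly_powerBasis_gen_of_monic hf] at h2
  exact ⟨_, h2⟩

/-- monic polynomial with given coefficients -/
noncomputable def mk (m : ℕ) (c : F) (a : Fin m → F) : F[X] := X ^ (m + 1) + (C c + ∑ i : Fin m, C (a i) * X ^ (i.val + 1))

lemma mk_deg_aux (m : ℕ) (c : F) (a : Fin m → F) : (C c + ∑ i : Fin m, C (a i) * X ^ (i.val + 1)).degree < ((m + 1 : ℕ) : WithBot ℕ) := by
  apply lt_of_le_of_lt (degree_add_le _ _)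
  rw [max_lt_iff]
  constructor
  · exact lt_of_le_of_lt degree_C_le (by exact_mod_cast Nat.succ_pos m)
  · apply lt_of_le_of_lt (degree_sum_le _ _)
    rw [Finset.sup_lt_iff (by exact_mod_cast WithBot.bot_lt_coe (m + 1))]
    intro i _
    apply lt_of_le_of_lt (degree_C_mul_X_pow_le _ _)
    have := i.2
    exact_mod_cast (by omega : i.val + 1 < m + 1)

lemma mk_monic (m : ℕ) (c : F) (a : Fin m → F) : (mk m c a).Monic := monic_X_pow_add (mk_deg_aux m c a)

lemma mk_natDegree (m : ℕ) (c : F) (a : Fin m → F) : (mk m c a).natDegree = m + 1 := by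
  unfold mk
  apply natDegree_eq_of_degree_eq_some
  rw [degree_add_eq_left_of_degree_lt]
  · exact degree_X_pow _
  · rw [degree_X_pow]; exact mk_deg_aux m c a

lemma mk_coeff_zero (m : ℕ) (c : F) (a : Fin m → F) : (mk m c a).coeff 0 = c := by
  unfold mk
  simp [coeff_X_pow, finset_sum_coeff]

lemma mk_coeff_succ (m : ℕ) (c : F) (a : Fin m → F) (i : Fin m) : (mk m c a).coeff (i.val + 1) = a i := by
  unfold mk
  have hi := i.2
  simp only [coeff_add, coeff_X_pow, finset_sum_coeff, coeff_C_mul]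
  rw [if_neg (by omega), coeff_C_succ, zero_add, zero_add, Finset.sum_eq_single i]
  · rw [if_pos rfl, mul_one]
  · intro j _ hj
    rw [if_neg (by intro h; exact hj (Fin.ext (by omega))), mul_zero]
  · intro h; exact absurd (Finset.mem_univ _) h

lemma monic_ext {m : ℕ} {f g : F[X]} (hf : f.Monic) (hg : g.Monic) (hfd : f.natDegree = m + 1) (hgd : g.natDegree = m + 1)
    (h0 : f.coeff 0 = g.coeff 0) (h : ∀ i : Fin m, f.coeff (i.val + 1) = g.coeff (i.val + 1)) : f = g := by
  ext k
  rcases Nat.lt_trichotomy k (m + 1) with hk | hk | hk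
  · rcases k with _ | k
    · exact h0
    · exact h ⟨k, by omega⟩
  · subst hk
    have h1 := hf.coeff_natDegree
    have h2 := hg.coeff_natDegree
    rw [hfd] at h1; rw [hgd] at h2
    rw [h1, h2]
  · rw [coeff_eq_zero_of_natDegree_lt (by omega), coeff_eq_zero_of_natDegree_lt (by omega)]

section fin
variable [Fintype F] (p : ℕ) [hp : Fact p.Prime] [CharP F p]

lemma exists_ss (M : GL (Fin n) F) : ∃ g : GL (Fin n) F, (orderOf g).Coprime p ∧ (g : Matrix (Fin n) (Fin n) F).charpoly = (M : Matrix (Fin n) (Fin n) F).charpoly := by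
  obtain ⟨f, hpp, hf⟩ := FiniteField.card F p
  set N := orderOf M with hN
  have hN0 : 0 < N := orderOf_pos M
  refine ⟨M ^ (Fintype.card F ^ N), ?_, ?_⟩
  · rw [orderOf_pow, ← hN]
    obtain ⟨k, r, hr, hkr⟩ := Nat.exists_eq_pow_mul_and_not_dvd (Nat.pos_iff_ne_zero.1 hN0) p hpp.ne_one
    have hkN : k ≤ N := by
      have h1 : p ^ k ≤ N := by rw [hkr]; exact Nat.le_mul_of_pos_right _ (Nat.pos_of_ne_zero (by rintro rfl; simp at hr))
      exact (Nat.lt_pow_self hpp.one_lt).le.trans h1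
    have hg : Nat.gcd N (Fintype.card F ^ N) = p ^ k := by
      rw [hf, ← pow_mul]
      nth_rewrite 1 [hkr]
      have h2 : (f : ℕ) * N = k + ((f : ℕ) * N - k) := by
        have : N ≤ (f : ℕ) * N := Nat.le_mul_of_pos_left _ f.pos
        omega
      rw [h2, pow_add, Nat.gcd_mul_left]
      have h3 : Nat.Coprime r (p ^ ((f : ℕ) * N - k)) := Nat.Coprime.pow_right _ (((Nat.Prime.coprime_iff_not_dvd hpp).2 hr).symm)
      rw [h3, mul_one]
    rw [hg, hkr, Nat.mul_div_cancel_left _ (pow_pos hpp.pos k)]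
    exact ((Nat.Prime.coprime_iff_not_dvd hpp).2 hr).symm
  · have : ∀ t : ℕ, ((M ^ (Fintype.card F ^ t) : GL (Fin n) F) : Matrix (Fin n) (Fin n) F).charpoly = (M : Matrix (Fin n) (Fin n) F).charpoly := by
      intro t
      induction t with
      | zero => simp
      | succ t ih =>
        rw [pow_succ, pow_mul, Units.val_pow_eq_pow_val, FiniteField.Matrix.charpoly_pow_card, ih]
    exact this N

include p in
lemma cast_ne_zero_of_coprime {G : Type*} [Group G] {g : G} (h : (orderOf g).Coprime p) : (orderOf g : F) ≠ 0 := by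
  intro h0
  rw [CharP.cast_eq_zero_iff F p] at h0
  have := Nat.Coprime.eq_one_of_dvd h.symm h0
  exact hp.out.one_lt.ne' this

theorem card_gl_ss (hn : 1 ≤ n) :
    Nat.card {c : ConjClasses (GL (Fin n) F) // ∃ g : GL (Fin n) F, ConjClasses.mk g = c ∧ (orderOf g).Coprime p} = (Fintype.card F - 1) * Fintype.card F ^ (n - 1) := by
  classical
  obtain ⟨m, rfl⟩ := Nat.exists_eq_add_of_le' hn
  rw [card_classes (fun g : GL (Fin (m + 1)) F => (orderOf g).Coprime p)
    (fun g => ((GeneralLinearGroup.det g, fun i : Fin m => (g : Matrix (Fin (m + 1)) (Fin (m + 1)) F).charpoly.coeff (i.val + 1)) : Fˣ × (Fin m → F)))]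
  · rw [Nat.card_prod, Nat.card_units, Nat.card_fun, Nat.card_eq_fintype_card, Nat.card_eq_fintype_card]
    simp
  · intro g h hg hh heq
    rw [Prod.mk.injEq] at heq
    have hc : (g : Matrix (Fin (m + 1)) (Fin (m + 1)) F).charpoly = (h : Matrix (Fin (m + 1)) (Fin (m + 1)) F).charpoly := by
      apply monic_ext (m := m) (charpoly_monic _) (charpoly_monic _) (by rw [charpoly_natDegree_eq_dim]; simp) (by rw [charpoly_natDegree_eq_dim]; simp)
      · have h1 := congrArg (fun x : Fˣ => (x : F)) heq.1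
        simp only [GeneralLinearGroup.val_det_apply] at h1
        rw [det_eq_sign_charpoly_coeff, det_eq_sign_charpoly_coeff] at h1
        exact mul_left_cancel₀ (pow_ne_zero _ (neg_ne_zero.2 one_ne_zero)) h1
      · intro i; exact congrFun heq.2 i
    obtain ⟨P, hP⟩ := gl_conj_of_charpoly (cast_ne_zero_of_coprime (F := F) p hg) (cast_ne_zero_of_coprime (F := F) p hh) (pow_orderOf_eq_one g) (pow_orderOf_eq_one h) hc
    rw [isConj_iff]
    exact ⟨P, by rw [hP, mul_inv_cancel_right]⟩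
  · intro g h hgh
    obtain ⟨P, hP⟩ := isConj_iff.1 hgh
    rw [Prod.mk.injEq]
    constructor
    · rw [← hP, map_mul, map_mul, map_inv, mul_comm, inv_mul_cancel_left]
    · rw [← hP, Units.val_mul, Units.val_mul, Matrix.coe_units_inv, charpoly_units_conj]
  · rintro ⟨d, a⟩
    obtain ⟨M, hM⟩ := exists_with_charpoly (mk m ((-1) ^ (m + 1) * (d : F)) a) (mk_monic _ _ _) (mk_natDegree _ _ _)
    have hdet : M.det = d := by
      rw [det_eq_sign_charpoly_coeff, hM, mk_coeff_zero, Fintype.card_fin, ← mul_assoc, ← mul_pow]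
      simp
    obtain ⟨g, hg, hgc⟩ := exists_ss p (GeneralLinearGroup.mkOfDetNeZero M (by rw [hdet]; exact d.ne_zero))
    have hgc' : (g : Matrix (Fin (m + 1)) (Fin (m + 1)) F).charpoly = mk m ((-1) ^ (m + 1) * (d : F)) a := hgc.trans hM
    refine ⟨g, hg, ?_⟩
    rw [Prod.mk.injEq]
    constructor
    · apply Units.ext
      rw [GeneralLinearGroup.val_det_apply, det_eq_sign_charpoly_coeff, hgc', mk_coeff_zero, Fintype.card_fin, ← mul_assoc, ← mul_pow]
      simp
    · funext i
      rw [hgc', mk_coeff_succ]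

theorem card_sl_ss (hn : 1 ≤ n) :
    Nat.card {c : ConjClasses (SpecialLinearGroup (Fin n) F) // ∃ g : SpecialLinearGroup (Fin n) F, ConjClasses.mk g = c ∧ (orderOf g).Coprime p} = Fintype.card F ^ (n - 1) := by
  classical
  obtain ⟨m, rfl⟩ := Nat.exists_eq_add_of_le' hn
  rw [card_classes (fun g : SpecialLinearGroup (Fin (m + 1)) F => (orderOf g).Coprime p)
    (fun g => ((fun i : Fin m => (g : Matrix (Fin (m + 1)) (Fin (m + 1)) F).charpoly.coeff (i.val + 1)) : (Fin m → F)))]
  · rw [Nat.card_fun, Nat.card_eq_fintype_card, Nat.card_eq_fintype_card]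
    simp
  · intro g h hg hh heq
    have hc : (g : Matrix (Fin (m + 1)) (Fin (m + 1)) F).charpoly = (h : Matrix (Fin (m + 1)) (Fin (m + 1)) F).charpoly := by
      apply monic_ext (m := m) (charpoly_monic _) (charpoly_monic _) (by rw [charpoly_natDegree_eq_dim]; simp) (by rw [charpoly_natDegree_eq_dim]; simp)
      · have h1 : (g : Matrix (Fin (m + 1)) (Fin (m + 1)) F).det = (h : Matrix (Fin (m + 1)) (Fin (m + 1)) F).det := by rw [g.2, h.2]
        rw [det_eq_sign_charpoly_coeff, det_eq_sign_charpoly_coeff] at h1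
        exact mul_left_cancel₀ (pow_ne_zero _ (neg_ne_zero.2 one_ne_zero)) h1
      · intro i; exact congrFun heq i
    exact sl_conj_of_charpoly (cast_ne_zero_of_coprime (F := F) p hg) (cast_ne_zero_of_coprime (F := F) p hh) (pow_orderOf_eq_one g) (pow_orderOf_eq_one h) hc
  · intro g h hgh
    obtain ⟨P, hP⟩ := isConj_iff.1 hgh
    have h1 : SpecialLinearGroup.toGL h = SpecialLinearGroup.toGL P * SpecialLinearGroup.toGL g * (SpecialLinearGroup.toGL P)⁻¹ := by
      rw [← hP, map_mul, map_mul, map_inv]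
    have h2 : (h : Matrix (Fin (m + 1)) (Fin (m + 1)) F).charpoly = (g : Matrix (Fin (m + 1)) (Fin (m + 1)) F).charpoly := by
      have h3 := congrArg (fun x : GL (Fin (m + 1)) F => (x : Matrix (Fin (m + 1)) (Fin (m + 1)) F).charpoly) h1
      simp only [Units.val_mul] at h3
      rw [Matrix.coe_units_inv, charpoly_units_conj] at h3
      exact h3
    rw [h2]
  · intro a
    obtain ⟨M, hM⟩ := exists_with_charpoly (mk m ((-1 : F) ^ (m + 1)) a) (mk_monic _ _ _) (mk_natDegree _ _ _)
    have hdet : M.det = 1 := by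
      rw [det_eq_sign_charpoly_coeff, hM, mk_coeff_zero, Fintype.card_fin, ← mul_pow]
      simp
    obtain ⟨g, hg, hgc⟩ := exists_ss p (GeneralLinearGroup.mkOfDetNeZero M (by rw [hdet]; exact one_ne_zero))
    have hgc' : (g : Matrix (Fin (m + 1)) (Fin (m + 1)) F).charpoly = mk m ((-1 : F) ^ (m + 1)) a := hgc.trans hM
    have hgdet : (g : Matrix (Fin (m + 1)) (Fin (m + 1)) F).det = 1 := by
      rw [det_eq_sign_charpoly_coeff, hgc', mk_coeff_zero, Fintype.card_fin, ← mul_pow]
      simp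
    let R : Matrix.SpecialLinearGroup (Fin (m + 1)) F := ⟨g, hgdet⟩
    refine ⟨R, ?_, ?_⟩
    · have h1 : SpecialLinearGroup.toGL R = g := Units.ext rfl
      rw [← orderOf_injective _ SpecialLinearGroup.toGL_injective, h1]
      exact hg
    · funext i
      show (g : Matrix (Fin (m + 1)) (Fin (m + 1)) F).charpoly.coeff (i.val + 1) = a i
      rw [hgc', mk_coeff_succ]

end fin

end Cfsg.Agent.H16.SSim
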