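import Mathlib
import Cfsg.Agent.H16.JNil
import Cfsg.Agent.H16.SSim2

set_option autoImplicit false
set_option linter.all false

/-! Unipotent classes of `GL_n(q)`. -/

namespace Cfsg.Agent.H16.JNil

open Module Matrix

variable {F : Type*} [Field F] {n : ℕ}

/-- the endomorphism `g - 1` -/
noncomputable def Ng (g : GL (Fin n) F) : Module.End F (Fin n → F) := toLin' ((g : Matrix (Fin n) (Fin n) F) - 1)

lemma Ng_apply (g : GL (Fin n) F) (v : Fin n → F) : Ng g v = (g : Matrix (Fin n) (Fin n) F) *ᵥ v - v := by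
  unfold Ng
  rw [toLin'_apply, sub_mulVec, one_mulVec]

lemma conj_iff (g h : GL (Fin n) F) : IsConj g h ↔ ∃ e : (Fin n → F) ≃ₗ[F] (Fin n → F), ∀ x, e (Ng g x) = Ng h (e x) := by
  constructor
  · intro hc
    obtain ⟨P, hP⟩ := isConj_iff.1 hc
    have hP' : P * g = h * P := by rw [← hP, inv_mul_cancel_right]
    have hPm : (P : Matrix (Fin n) (Fin n) F) * (g : Matrix (Fin n) (Fin n) F) = (h : Matrix (Fin n) (Fin n) F) * P :=
      congrArg (fun x : GL (Fin n) F => (x : Matrix (Fin n) (Fin n) F)) hP'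
    let e : (Fin n → F) ≃ₗ[F] (Fin n → F) := LinearMap.GeneralLinearGroup.generalLinearEquiv F (Fin n → F) (GeneralLinearGroup.toLin P)
    have he : ∀ x, e x = (P : Matrix (Fin n) (Fin n) F) *ᵥ x := fun x => rfl
    refine ⟨e, fun x => ?_⟩
    rw [he, he, Ng_apply, Ng_apply, mulVec_sub, mulVec_mulVec, mulVec_mulVec, hPm]
  · rintro ⟨e, he⟩
    obtain ⟨P, hP⟩ := Cfsg.Agent.H16.SSim.gl_conj_iff g h e (fun v => by
      have := he v
      rw [Ng_apply, Ng_apply, map_sub] at this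
      have h2 := sub_left_injective this
      exact h2)
    rw [isConj_iff]
    exact ⟨P, by rw [hP, mul_inv_cancel_right]⟩

lemma exists_J (μ : Nat.Partition n) : ∃ g : GL (Fin n) F, PT (Ng g) μ := by
  obtain ⟨ν, hν⟩ := exists_of_partition F μ
  have hnil : IsNilpotent ν := by
    refine ⟨n, ?_⟩
    have h1 := hν.rank n
    have h2 : (μ.parts.map (fun x => x - n)).sum = 0 := by
      rw [Multiset.sum_eq_zero_iff]
      intro y hy
      obtain ⟨x, hx, rfl⟩ := Multiset.mem_map.1 hy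
      have := Multiset.single_le_sum (fun _ _ => Nat.zero_le _) x hx
      rw [μ.parts_sum] at this
      omega
    rw [h2, Submodule.finrank_eq_zero, LinearMap.range_eq_bot] at h1
    exact h1
  have hu : IsUnit (1 + LinearMap.toMatrix' ν : Matrix (Fin n) (Fin n) F) := by
    apply IsNilpotent.isUnit_one_add
    obtain ⟨k, hk⟩ := hnil
    refine ⟨k, ?_⟩
    have := congrArg LinearMap.toMatrix' hk
    rw [map_zero] at this
    rw [← this]
    exact (map_pow (LinearMap.toMatrixAlgEquiv' (R := F) (n := Fin n)) ν k).symm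
  obtain ⟨g, hg⟩ := hu
  refine ⟨g, ?_⟩
  have : Ng g = ν := by
    unfold Ng
    rw [hg, add_sub_cancel_left, toLin'_toMatrix']
  rw [this]; exact hν

theorem card_unip (Q : Nat.Partition n → Prop) (P : GL (Fin n) F → Prop) (hP : ∀ g, P g → IsNilpotent (Ng g))
    (hPQ : ∀ g μ, PT (Ng g) μ → (P g ↔ Q μ)) :
    Nat.card {C : ConjClasses (GL (Fin n) F) // ∃ g, ConjClasses.mk g = C ∧ P g} = Nat.card {μ : Nat.Partition n // Q μ} := by
  classical
  choose J hJ using fun μ : Nat.Partition n => exists_J (F := F) μ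
  symm
  let f : {μ : Nat.Partition n // Q μ} → {C : ConjClasses (GL (Fin n) F) // ∃ g, ConjClasses.mk g = C ∧ P g} := fun μ =>
    ⟨ConjClasses.mk (J μ.1), J μ.1, rfl, (hPQ _ _ (hJ μ.1)).2 μ.2⟩
  apply Nat.card_congr (Equiv.ofBijective f ⟨?_, ?_⟩)
  · intro μ μ' h
    have h1 : ConjClasses.mk (J μ.1) = ConjClasses.mk (J μ'.1) := congrArg Subtype.val h
    obtain ⟨e, he⟩ := (conj_iff _ _).1 (ConjClasses.mk_eq_mk_iff_isConj.1 h1)
    apply Subtype.ext
    exact ((hJ μ.1).conj e he).unique (hJ μ'.1)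
  · rintro ⟨C, g, rfl, hg⟩
    obtain ⟨μ, hμ⟩ := exists_PT (n := n) (Ng g) (by simp) (hP g hg)
    refine ⟨⟨μ, (hPQ g μ hμ).1 hg⟩, ?_⟩
    apply Subtype.ext
    show ConjClasses.mk (J μ) = ConjClasses.mk g
    rw [ConjClasses.mk_eq_mk_iff_isConj, conj_iff]
    exact (hJ μ).similar hμ

variable (p : ℕ) [hp : Fact p.Prime] [CharP F p]

lemma Ng_pow (g : GL (Fin n) F) (k : ℕ) : (Ng g) ^ (p ^ k) = toLin' (((g ^ (p ^ k) : GL (Fin n) F) : Matrix (Fin n) (Fin n) F) - 1) := by
  unfold Ng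
  rw [← toLin'_pow]
  congr 1
  haveI : ExpChar F p := ExpChar.prime hp.out
  rcases isEmpty_or_nonempty (Fin n) with h | h
  · exact Subsingleton.elim _ _
  haveI : CharP (Matrix (Fin n) (Fin n) F) p := inferInstance
  rw [sub_pow_char_pow_of_commute _ _ (Commute.one_right _), one_pow, Units.val_pow_eq_pow_val]

lemma Ng_eq_zero (g : GL (Fin n) F) : Ng g = 0 ↔ g = 1 := by
  unfold Ng
  rw [LinearEquiv.map_eq_zero_iff, sub_eq_zero]
  constructor
  · intro h; exact Units.ext h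
  · rintro rfl; rfl

lemma pow_eq_one_iff (g : GL (Fin n) F) (k : ℕ) : (Ng g) ^ (p ^ k) = 0 ↔ g ^ (p ^ k) = 1 := by
  rw [Ng_pow p]
  exact Ng_eq_zero (g ^ (p ^ k))

lemma nilp_iff (g : GL (Fin n) F) : (∃ k : ℕ, orderOf g = p ^ k) ↔ IsNilpotent (Ng g) := by
  constructor
  · rintro ⟨k, hk⟩
    refine ⟨p ^ k, (pow_eq_one_iff p g k).2 ?_⟩
    rw [← hk]; exact pow_orderOf_eq_one g
  · rintro ⟨m, hm⟩
    have h1 : (Ng g) ^ (p ^ m) = 0 := by
      have : m ≤ p ^ m := (Nat.lt_pow_self hp.out.one_lt).le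
      obtain ⟨r, hr⟩ := Nat.exists_eq_add_of_le this
      rw [hr, pow_add, hm, zero_mul]
    have h2 := (pow_eq_one_iff p g m).1 h1
    obtain ⟨k, _, hk⟩ := (Nat.dvd_prime_pow hp.out).1 (orderOf_dvd_of_pow_eq_one h2)
    exact ⟨k, hk⟩

theorem card_unip_classes : Nat.card {C : ConjClasses (GL (Fin n) F) // ∃ g, ConjClasses.mk g = C ∧ ∃ k : ℕ, orderOf g = p ^ k} = Fintype.card (Nat.Partition n) := by
  rw [card_unip (fun _ => True) (fun g => ∃ k : ℕ, orderOf g = p ^ k) (fun g hg => (nilp_iff p g).1 hg)]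
  · rw [Nat.card_congr (Equiv.subtypeUnivEquiv (fun _ => trivial)), Nat.card_eq_fintype_card]
  · intro g μ h
    refine ⟨fun _ => trivial, fun _ => (nilp_iff p g).2 ⟨n, ?_⟩⟩
    have h1 := h.rank n
    have h2 : (μ.parts.map (fun x => x - n)).sum = 0 := by
      rw [Multiset.sum_eq_zero_iff]
      intro y hy
      obtain ⟨x, hx, rfl⟩ := Multiset.mem_map.1 hy
      have := Multiset.single_le_sum (fun _ _ => Nat.zero_le _) x hx
      rw [μ.parts_sum] at this
      omega
    rw [h2, Submodule.finrank_eq_zero, LinearMap.range_eq_bot] at h1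
    exact h1

lemma sum_sub_eq_zero (m : Multiset ℕ) (t : ℕ) : (m.map (fun x => x - t)).sum = 0 ↔ ∀ a ∈ m, a ≤ t := by
  rw [Multiset.sum_eq_zero_iff]
  constructor
  · intro h a ha
    have := h _ (Multiset.mem_map.2 ⟨a, ha, rfl⟩)
    omega
  · intro h y hy
    obtain ⟨x, hx, rfl⟩ := Multiset.mem_map.1 hy
    have := h x hx
    omega

lemma PT.pow_zero_iff {ν : Module.End F (Fin n → F)} {μ : Nat.Partition n} (h : PT ν μ) (t : ℕ) : ν ^ t = 0 ↔ ∀ a ∈ μ.parts, a ≤ t := by
  rw [← sum_sub_eq_zero, ← h.rank t, Submodule.finrank_eq_zero, LinearMap.range_eq_bot]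

theorem card_order_p : Nat.card {C : ConjClasses (GL (Fin n) F) // ∃ g, ConjClasses.mk g = C ∧ orderOf g = p} =
    (Finset.univ.filter (fun μ : Nat.Partition n => ∀ a ∈ μ.parts, a ≤ p)).card - 1 := by
  classical
  rw [card_unip (fun μ => (∀ a ∈ μ.parts, a ≤ p) ∧ ¬ ∀ a ∈ μ.parts, a ≤ 1) (fun g => orderOf g = p) (fun g hg => (nilp_iff p g).1 ⟨1, by rw [hg, pow_one]⟩)]
  · let μ₁ : Nat.Partition n := ⟨Multiset.replicate n 1, fun {i} hi => by rw [Multiset.eq_of_mem_replicate hi]; exact Nat.one_pos, by simp⟩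
    have h1 : ∀ μ : Nat.Partition n, (∀ a ∈ μ.parts, a ≤ 1) ↔ μ = μ₁ := by
      intro μ
      constructor
      · intro h
        have h2 : ∀ a ∈ μ.parts, a = 1 := fun a ha => by have := h a ha; have := μ.parts_pos ha; omega
        have h3 := Multiset.eq_replicate_card.2 h2
        have h4 := μ.parts_sum
        rw [h3, Multiset.sum_replicate, smul_eq_mul, mul_one] at h4
        apply Nat.Partition.ext
        rw [h3, h4]
      · rintro rfl a ha
        rw [Multiset.eq_of_mem_replicate ha]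
    rw [Nat.card_eq_fintype_card, Fintype.card_subtype]
    have h2 : (Finset.univ.filter (fun μ : Nat.Partition n => (∀ a ∈ μ.parts, a ≤ p) ∧ ¬ ∀ a ∈ μ.parts, a ≤ 1)) =
        (Finset.univ.filter (fun μ : Nat.Partition n => ∀ a ∈ μ.parts, a ≤ p)).erase μ₁ := by
      ext μ
      rw [Finset.mem_filter, Finset.mem_erase, Finset.mem_filter, h1]
      tauto
    rw [h2, Finset.card_erase_of_mem]
    rw [Finset.mem_filter]
    refine ⟨Finset.mem_univ _, fun a ha => ?_⟩
    rw [Multiset.eq_of_mem_replicate ha]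
    exact hp.out.one_lt.le
  · intro g μ h
    rw [← h.pow_zero_iff, ← h.pow_zero_iff, pow_one, Ng_eq_zero]
    have h1 := pow_eq_one_iff p g 1
    rw [pow_one] at h1
    rw [h1]
    constructor
    · intro h2
      refine ⟨by rw [← h2]; exact pow_orderOf_eq_one g, ?_⟩
      rintro rfl
      rw [orderOf_one] at h2
      exact hp.out.one_lt.ne h2
    · rintro ⟨h2, h3⟩
      exact orderOf_eq_prime h2 h3

end Cfsg.Agent.H16.JNil
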