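import Mathlib
import Cfsg.Agent.H5.Vec

set_option autoImplicit false
set_option linter.all false

/-! Cross characteristic lower bound for `SL_n(q)`. -/

namespace Cfsg.Agent.H16.LSB

open Module Matrix

section grp
variable {F : Type*} [Field F] {m : ℕ}

noncomputable def blk (A : Matrix (Fin m) (Fin m) F) (v : Fin m → F) : Matrix (Fin (m + 1)) (Fin (m + 1)) F :=
  reindexAlgEquiv F F (finSumFinEquiv : Fin m ⊕ Fin 1 ≃ Fin (m + 1)) (fromBlocks A (of fun i _ => v i) 0 1)

lemma blk_mul (A B : Matrix (Fin m) (Fin m) F) (v w : Fin m → F) : blk A v * blk B w = blk (A * B) (A *ᵥ w + v) := by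
  unfold blk
  rw [← map_mul, fromBlocks_multiply]
  congr 1
  ext i j
  rcases i with i | i <;> rcases j with j | j
  · simp
  · simp [Matrix.mul_apply, mulVec, dotProduct, fromBlocks_apply₁₂]
  · simp
  · simp

lemma blk_inj {A B : Matrix (Fin m) (Fin m) F} {v w : Fin m → F} (h : blk A v = blk B w) : A = B ∧ v = w := by
  unfold blk at h
  have h1 := (reindexAlgEquiv F F (finSumFinEquiv : Fin m ⊕ Fin 1 ≃ Fin (m + 1))).injective h
  rw [fromBlocks_inj] at h1
  exact ⟨h1.1, funext fun i => congrFun (congrFun h1.2.1 i) 0⟩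

lemma blk_one : blk (1 : Matrix (Fin m) (Fin m) F) 0 = 1 := by
  unfold blk
  have : (fromBlocks (1 : Matrix (Fin m) (Fin m) F) (of fun i _ => (0 : Fin m → F) i) (0 : Matrix (Fin 1) (Fin m) F) (1 : Matrix (Fin 1) (Fin 1) F)) = 1 := by
    rw [← fromBlocks_one]; rfl
  rw [this, map_one]

lemma blk_det (A : Matrix (Fin m) (Fin m) F) (v : Fin m → F) : (blk A v).det = A.det := by
  unfold blk
  rw [coe_reindexAlgEquiv, det_reindex_self, det_fromBlocks_zero₂₁, det_one, mul_one]

lemma blk_scalar {v : Fin m → F} {c : F} (hm : 0 < m) (h : blk 1 v = scalar (Fin (m + 1)) c) : v = 0 := by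
  funext i
  have h2 := congrFun (congrFun h (finSumFinEquiv (Sum.inl i))) (finSumFinEquiv (Sum.inr (0 : Fin 1)))
  unfold blk at h2
  rw [coe_reindexAlgEquiv, reindex_apply, submatrix_apply, Equiv.symm_apply_apply, Equiv.symm_apply_apply, fromBlocks_apply₁₂, of_apply] at h2
  rw [h2, scalar_apply, diagonal_apply_ne]
  · rfl
  · intro h3
    have := finSumFinEquiv.injective h3
    simp at this

/-- the elements of the affine subgroup -/
noncomputable def el (A : Matrix.SpecialLinearGroup (Fin m) F) (v : Fin m → F) : Matrix.SpecialLinearGroup (Fin (m + 1)) F :=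
  ⟨blk A.1 v, by rw [blk_det, A.2]⟩

lemma el_mul (A B : Matrix.SpecialLinearGroup (Fin m) F) (v w : Fin m → F) : el A v * el B w = el (A * B) ((A : Matrix (Fin m) (Fin m) F) *ᵥ w + v) :=
  Subtype.ext (blk_mul _ _ _ _)

lemma el_one : el (1 : Matrix.SpecialLinearGroup (Fin m) F) 0 = 1 := Subtype.ext blk_one

lemma el_conj (A : Matrix.SpecialLinearGroup (Fin m) F) (v : Fin m → F) : el 1 ((A : Matrix (Fin m) (Fin m) F) *ᵥ v) * el A 0 = el A 0 * el 1 v := by
  rw [el_mul, el_mul, one_mul, mul_one, mulVec_zero, zero_add, add_zero]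

lemma el_central (hm : 0 < m) {v : Fin m → F} (h : el 1 v ∈ Subgroup.center (Matrix.SpecialLinearGroup (Fin (m + 1)) F)) : v = 0 := by
  rw [Matrix.SpecialLinearGroup.mem_center_iff] at h
  obtain ⟨c, _, hc⟩ := h
  exact blk_scalar hm hc.symm

end grp

theorem bound {F : Type*} [Field F] [Fintype F] {m : ℕ} (hm : 2 ≤ m) {L : Type*} [Field L] [IsAlgClosed L] (hL : (Fintype.card F : L) ≠ 0)
    {V : Type*} [AddCommGroup V] [Module L V] [FiniteDimensional L V]
    (ρ : Matrix.SpecialLinearGroup (Fin (m + 1)) F →* Module.End L V)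
    (hker : ∀ g, ρ g = 1 → g ∈ Subgroup.center (Matrix.SpecialLinearGroup (Fin (m + 1)) F)) :
    Fintype.card F ^ m - 1 ≤ finrank L V := by
  classical
  haveI : Nontrivial (Fin m) := Fin.nontrivial_iff_two_le.2 hm
  let T : (Fin m → F) → Module.End L V := fun v => ρ (el 1 v)
  have hTadd : ∀ v w, T (v + w) = T v * T w := by
    intro v w
    show ρ (el 1 (v + w)) = ρ (el 1 v) * ρ (el 1 w)
    rw [← map_mul, el_mul, one_mul, Matrix.SpecialLinearGroup.coe_one, one_mulVec, add_comm w v]
  have hT0 : T 0 = 1 := by show ρ (el 1 0) = 1; rw [el_one, map_one]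
  have hTc : ∀ v w, Commute (T v) (T w) := by
    intro v w
    show T v * T w = T w * T v
    rw [← hTadd, ← hTadd, add_comm]
  set q := Fintype.card F with hq
  have hTq : ∀ v, (T v) ^ q = 1 := by
    intro v
    have h1 : ∀ k : ℕ, T (k • v) = (T v) ^ k := by
      intro k
      induction k with
      | zero => rw [zero_smul, hT0, pow_zero]
      | succ k ih => rw [succ_nsmul, hTadd, ih, pow_succ]
    rw [← h1]
    have h2 : q • v = 0 := by
      rw [← Nat.cast_smul_eq_nsmul F, hq, FiniteField.cast_card_eq_zero, zero_smul]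
    rw [h2, hT0]
  have hss : ∀ v, (T v).IsSemisimple := by
    intro v
    apply Module.End.isSemisimple_of_squarefree_aeval_eq_zero (p := Polynomial.X ^ q - 1)
    · exact (Polynomial.X_pow_sub_one_separable_iff.2 hL).squarefree
    · rw [map_sub, map_pow, Polynomial.aeval_X, hTq, map_one, sub_self]
  have hmax : ∀ v μ, (T v).maxGenEigenspace μ = (T v).eigenspace μ := fun v μ => (hss v).isFinitelySemisimple.maxGenEigenspace_eq_eigenspace μ
  have htop : ⨆ χ : (Fin m → F) → L, ⨅ v, (T v).maxGenEigenspace (χ v) = ⊤ :=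
    Module.End.iSup_iInf_maxGenEigenspace_eq_top_of_iSup_maxGenEigenspace_eq_top_of_commute T (fun v w _ => hTc v w)
      (fun v => Module.End.iSup_maxGenEigenspace_eq_top (T v))
  simp only [hmax] at htop
  have hmem : ∀ (χ : (Fin m → F) → L) (x : V), x ∈ ⨅ v, (T v).eigenspace (χ v) ↔ ∀ v, T v x = χ v • x := by
    intro χ x
    simp only [Submodule.mem_iInf, Module.End.mem_eigenspace_iff]
  -- a nontrivial weight
  obtain ⟨χ, x, hx, hx0, v0, hv0⟩ : ∃ (χ : (Fin m → F) → L) (x : V), (∀ v, T v x = χ v • x) ∧ x ≠ 0 ∧ ∃ v0, χ v0 ≠ 1 := by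
    by_contra hcon
    push Not at hcon
    have h1 : ⨅ v, (T v).eigenspace (1 : L) = ⊤ := by
      rw [eq_top_iff, ← htop]
      apply iSup_le
      intro χ y hy
      rw [hmem] at hy
      rw [hmem (fun _ => 1)]
      intro v
      rw [hy v]
      rcases eq_or_ne y 0 with rfl | hy0
      · rw [smul_zero, smul_zero]
      · rw [hcon χ y hy hy0 v]
    have h2 : ∀ v, T v = 1 := by
      intro v
      apply LinearMap.ext
      intro y
      have : y ∈ ⨅ v, (T v).eigenspace (1 : L) := by rw [h1]; trivial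
      rw [hmem (fun _ => 1)] at this
      rw [this v, one_smul]; rfl
    have h3 := el_central (by omega) (hker _ (h2 (fun _ => 1)))
    have := congrFun h3 ⟨0, by omega⟩
    simp at this
  have hχadd : ∀ v w, χ (v + w) = χ v * χ w := by
    intro v w
    have h1 := hx (v + w)
    rw [hTadd, Module.End.mul_apply, hx w, map_smul, hx v, smul_smul] at h1
    have h2 := smul_left_injective L hx0 h1
    rw [← h2, mul_comm]
  have hχ0 : χ 0 = 1 := by
    have h1 := hx 0
    rw [hT0] at h1
    have h2 : (1 : L) • x = χ 0 • x := by rw [one_smul]; exact h1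
    exact (smul_left_injective L hx0 h2).symm
  let X : AddChar (Fin m → F) L := { toFun := χ, map_zero_eq_one' := hχ0, map_add_eq_mul' := hχadd }
  -- the additive character of F
  let ψ : AddChar F L := { toFun := fun a => χ (a • v0), map_zero_eq_one' := by rw [zero_smul, hχ0], map_add_eq_mul' := fun a b => by rw [add_smul, hχadd] }
  have hψ1 : ψ 1 ≠ 1 := by show χ ((1 : F) • v0) ≠ 1; rw [one_smul]; exact hv0
  let Y : (Fin m → F) → AddChar (Fin m → F) L := fun w =>
    { toFun := fun v => ψ (w ⬝ᵥ v), map_zero_eq_one' := by rw [dotProduct_zero, AddChar.map_zero_eq_one], map_add_eq_mul' := fun a b => by rw [dotProduct_add, AddChar.map_add_eq_mul] }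
  have hYinj : Function.Injective Y := by
    intro w w' h
    by_contra hne
    have h1 : ∃ i, w i ≠ w' i := Function.ne_iff.1 hne
    obtain ⟨i, hi⟩ := h1
    have h2 := DFunLike.congr_fun h (Pi.single i ((w i - w' i)⁻¹))
    have h3 : ψ (w ⬝ᵥ Pi.single i ((w i - w' i)⁻¹)) = ψ (w' ⬝ᵥ Pi.single i ((w i - w' i)⁻¹)) := h2
    rw [dotProduct_single, dotProduct_single] at h3
    apply hψ1
    have h4 : (1 : F) = w i * (w i - w' i)⁻¹ + -(w' i * (w i - w' i)⁻¹) := by
      rw [← sub_eq_add_neg, ← sub_mul, mul_inv_cancel₀ (sub_ne_zero.2 hi)]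
    rw [h4, AddChar.map_add_eq_mul, h3, ← AddChar.map_add_eq_mul, add_neg_cancel, AddChar.map_zero_eq_one]
  have hlin : LinearIndependent L (fun φ : AddChar (Fin m → F) L => (φ : (Fin m → F) → L)) := by
    have h1 := (linearIndependent_monoidHom (Multiplicative (Fin m → F)) L).comp (fun φ : AddChar (Fin m → F) L => φ.toMonoidHom)
      (fun a b h => by
        apply AddChar.ext
        intro v
        exact DFunLike.congr_fun h (Multiplicative.ofAdd v))
    exact h1
  haveI : Finite (AddChar (Fin m → F) L) := hlin.finite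
  haveI : Fintype (AddChar (Fin m → F) L) := Fintype.ofFinite _
  have hcard : Fintype.card (AddChar (Fin m → F) L) ≤ Fintype.card (Fin m → F) := by
    have := hlin.fintype_card_le_finrank
    rwa [finrank_fintype_fun_eq_card] at this
  have hYbij : Function.Bijective Y := by
    rw [Fintype.bijective_iff_injective_and_card]
    exact ⟨hYinj, le_antisymm (Fintype.card_le_of_injective Y hYinj) hcard⟩
  obtain ⟨w, hw⟩ := hYbij.surjective X
  have hw' : ∀ v, χ v = ψ (w ⬝ᵥ v) := fun v => (DFunLike.congr_fun hw v).symm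
  have hw0 : w ≠ 0 := by
    rintro rfl
    apply hv0
    rw [hw', zero_dotProduct, AddChar.map_zero_eq_one]
  -- all nontrivial weights occur
  have hall : ∀ w' : {w' : Fin m → F // w' ≠ 0}, ∃ y : V, y ≠ 0 ∧ ∀ v, T v y = ψ (w'.1 ⬝ᵥ v) • y := by
    intro w'
    obtain ⟨g, hg⟩ := H5.exists_SL_mulVec hw0 w'.2
    let A : Matrix.SpecialLinearGroup (Fin m) F := ⟨(g : Matrix (Fin m) (Fin m) F)ᵀ, by rw [det_transpose, g.2]⟩
    have hA : (A : Matrix (Fin m) (Fin m) F) = (g : Matrix (Fin m) (Fin m) F)ᵀ := rfl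
    have hinv : ρ (el A 0) * ρ ((el A 0)⁻¹) = 1 := by rw [← map_mul, mul_inv_cancel, map_one]
    have hinv2 : ρ ((el A 0)⁻¹) * ρ (el A 0) = 1 := by rw [← map_mul, inv_mul_cancel, map_one]
    refine ⟨ρ ((el A 0)⁻¹) x, ?_, ?_⟩
    · intro h
      apply hx0
      have := congrArg (ρ (el A 0)) h
      rwa [← Module.End.mul_apply, hinv, map_zero] at this
    · intro v
      have h1 : el 1 v * (el A 0)⁻¹ = (el A 0)⁻¹ * el 1 ((A : Matrix (Fin m) (Fin m) F) *ᵥ v) := by
        rw [eq_inv_mul_iff_mul_eq, ← mul_assoc, ← el_conj, mul_inv_cancel_right]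
      show ρ (el 1 v) (ρ ((el A 0)⁻¹) x) = _
      rw [← Module.End.mul_apply, ← map_mul, h1, map_mul, Module.End.mul_apply]
      have h2 : ρ (el 1 ((A : Matrix (Fin m) (Fin m) F) *ᵥ v)) x = χ ((A : Matrix (Fin m) (Fin m) F) *ᵥ v) • x := hx _
      rw [h2, map_smul, hw', hA, ← hg, mulVec_transpose, dotProduct_comm w, ← dotProduct_mulVec, dotProduct_comm]
  choose y hy0 hy using hall
  have hli : LinearIndependent L y := by
    have hind : iSupIndep fun χ : (Fin m → F) → L => ⨅ v, (T v).maxGenEigenspace (χ v) :=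
      Module.End.independent_iInf_maxGenEigenspace_of_forall_mapsTo T (fun v w μ => Module.End.mapsTo_maxGenEigenspace_of_comm (hTc w v) μ)
    have hinj : Function.Injective (fun w' : {w' : Fin m → F // w' ≠ 0} => (Y w'.1 : (Fin m → F) → L)) := by
      intro a b h
      exact Subtype.ext (hYinj (DFunLike.coe_injective h))
    have h2 := hind.comp hinj
    apply h2.linearIndependent _ (v := y)
    · intro w'
      simp only [Function.comp, hmax]
      rw [hmem]
      exact hy w'
    · exact hy0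
  have h3 := hli.fintype_card_le_finrank
  rw [Fintype.card_subtype_compl, Fintype.card_fun, Fintype.card_fin, Fintype.card_subtype_eq] at h3
  exact h3

end Cfsg.Agent.H16.LSB
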