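import Mathlib
import Cfsg.Agent.H16.LSBnd

set_option autoImplicit false
set_option linter.all false

/-! Weights of elementary abelian subgroups; cross characteristic lower bound for `Sp_2n(q)`. -/

namespace Cfsg.Agent.H16.LSB

open Module Matrix

section weights
variable {F : Type*} [Field F] [Fintype F] {L : Type*} [Field L] {V : Type*} [AddCommGroup V] [Module L V] [FiniteDimensional L V]
  {ι : Type*} [Fintype ι] [DecidableEq ι]

lemma wt_aux (hL : (Fintype.card F : L) ≠ 0) (T : (ι → F) → Module.End L V) (hT0 : T 0 = 1) (hTadd : ∀ v w, T (v + w) = T v * T w) (v : ι → F) :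
    (T v).IsSemisimple := by
  have hTq : (T v) ^ (Fintype.card F) = 1 := by
    have h1 : ∀ k : ℕ, T (k • v) = (T v) ^ k := by
      intro k
      induction k with
      | zero => rw [zero_smul, hT0, pow_zero]
      | succ k ih => rw [succ_nsmul, hTadd, ih, pow_succ]
    rw [← h1]
    have h2 : Fintype.card F • v = 0 := by
      rw [← Nat.cast_smul_eq_nsmul F, FiniteField.cast_card_eq_zero, zero_smul]
    rw [h2, hT0]
  apply Module.End.isSemisimple_of_squarefree_aeval_eq_zero (p := Polynomial.X ^ (Fintype.card F) - 1)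
  · exact (Polynomial.X_pow_sub_one_separable_iff.2 hL).squarefree
  · rw [map_sub, map_pow, Polynomial.aeval_X, hTq, map_one, sub_self]

theorem exists_weight [IsAlgClosed L] (hL : (Fintype.card F : L) ≠ 0) (T : (ι → F) → Module.End L V) (hT0 : T 0 = 1) (hTadd : ∀ v w, T (v + w) = T v * T w)
    (v0 : ι → F) (hv0 : T v0 ≠ 1) : ∃ ψ : AddChar F L, ∃ w : ι → F, ψ 1 ≠ 1 ∧ ψ (w ⬝ᵥ v0) ≠ 1 ∧ ∃ x : V, x ≠ 0 ∧ ∀ v, T v x = ψ (w ⬝ᵥ v) • x := by
  classical
  have hTc : ∀ v w, Commute (T v) (T w) := by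
    intro v w
    show T v * T w = T w * T v
    rw [← hTadd, ← hTadd, add_comm]
  have hmax : ∀ v μ, (T v).maxGenEigenspace μ = (T v).eigenspace μ := fun v μ => (wt_aux hL T hT0 hTadd v).isFinitelySemisimple.maxGenEigenspace_eq_eigenspace μ
  have htop : ⨆ χ : (ι → F) → L, ⨅ v, (T v).maxGenEigenspace (χ v) = ⊤ :=
    Module.End.iSup_iInf_maxGenEigenspace_eq_top_of_iSup_maxGenEigenspace_eq_top_of_commute T (fun v w _ => hTc v w)
      (fun v => Module.End.iSup_maxGenEigenspace_eq_top (T v))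
  simp only [hmax] at htop
  have hmem : ∀ (χ : (ι → F) → L) (x : V), x ∈ ⨅ v, (T v).eigenspace (χ v) ↔ ∀ v, T v x = χ v • x := by
    intro χ x
    simp only [Submodule.mem_iInf, Module.End.mem_eigenspace_iff]
  obtain ⟨χ, x, hx, hx0, hv0⟩ : ∃ (χ : (ι → F) → L) (x : V), (∀ v, T v x = χ v • x) ∧ x ≠ 0 ∧ χ v0 ≠ 1 := by
    by_contra hcon
    push Not at hcon
    have h1 : LinearMap.ker (T v0 - 1) = ⊤ := by
      rw [eq_top_iff, ← htop]
      apply iSup_le
      intro χ y hy
      rw [hmem] at hy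
      rw [LinearMap.mem_ker, LinearMap.sub_apply, hy v0, Module.End.one_apply, sub_eq_zero]
      rcases eq_or_ne y 0 with rfl | hy0
      · rw [smul_zero]
      · rw [hcon χ y hy hy0, one_smul]
    apply hv0
    rw [LinearMap.ker_eq_top] at h1
    exact sub_eq_zero.1 h1
  have hχadd : ∀ v w, χ (v + w) = χ v * χ w := by
    intro v w
    have h1 := hx (v + w)
    rw [hTadd, Module.End.mul_apply, hx w, map_smul, hx v, smul_smul] at h1
    have h2 := smul_left_injective L hx0 h1
    rw [← h2, mul_comm]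
  have hχ0 : χ 0 = 1 := by
    have h1 := hx 0
    rw [hT0] at h1
    have h2 : (1 : L) • x = χ 0 • x := by rw [one_smul]; exact h1
    exact (smul_left_injective L hx0 h2).symm
  let X : AddChar (ι → F) L := { toFun := χ, map_zero_eq_one' := hχ0, map_add_eq_mul' := hχadd }
  let ψ : AddChar F L := { toFun := fun a => χ (a • v0), map_zero_eq_one' := by rw [zero_smul, hχ0], map_add_eq_mul' := fun a b => by rw [add_smul, hχadd] }
  have hψ1 : ψ 1 ≠ 1 := by show χ ((1 : F) • v0) ≠ 1; rw [one_smul]; exact hv0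
  let Y : (ι → F) → AddChar (ι → F) L := fun w =>
    { toFun := fun v => ψ (w ⬝ᵥ v), map_zero_eq_one' := by rw [dotProduct_zero, AddChar.map_zero_eq_one], map_add_eq_mul' := fun a b => by rw [dotProduct_add, AddChar.map_add_eq_mul] }
  have hYinj : Function.Injective Y := by
    intro w w' h
    by_contra hne
    have h1 : ∃ i, w i ≠ w' i := Function.ne_iff.1 hne
    obtain ⟨i, hi⟩ := h1
    have h2 := DFunLike.congr_fun h (Pi.single i ((w i - w' i)⁻¹))
    have h3 : ψ (w ⬝ᵥ Pi.single i ((w i - w' i)⁻¹)) = ψ (w' ⬝ᵥ Pi.single i ((w i - w' i)⁻¹)) := h2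
    rw [dotProduct_single, dotProduct_single] at h3
    apply hψ1
    have h4 : (1 : F) = w i * (w i - w' i)⁻¹ + -(w' i * (w i - w' i)⁻¹) := by
      rw [← sub_eq_add_neg, ← sub_mul, mul_inv_cancel₀ (sub_ne_zero.2 hi)]
    rw [h4, AddChar.map_add_eq_mul, h3, ← AddChar.map_add_eq_mul, add_neg_cancel, AddChar.map_zero_eq_one]
  have hlin : LinearIndependent L (fun φ : AddChar (ι → F) L => (φ : (ι → F) → L)) := by
    have h1 := (linearIndependent_monoidHom (Multiplicative (ι → F)) L).comp (fun φ : AddChar (ι → F) L => φ.toMonoidHom)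
      (fun a b h => by
        apply AddChar.ext
        intro v
        exact DFunLike.congr_fun h (Multiplicative.ofAdd v))
    exact h1
  haveI : Finite (AddChar (ι → F) L) := hlin.finite
  haveI : Fintype (AddChar (ι → F) L) := Fintype.ofFinite _
  have hcard : Fintype.card (AddChar (ι → F) L) ≤ Fintype.card (ι → F) := by
    have := hlin.fintype_card_le_finrank
    rwa [finrank_fintype_fun_eq_card] at this
  have hYbij : Function.Bijective Y := by
    rw [Fintype.bijective_iff_injective_and_card]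
    exact ⟨hYinj, le_antisymm (Fintype.card_le_of_injective Y hYinj) hcard⟩
  obtain ⟨w, hw⟩ := hYbij.surjective X
  have hw' : ∀ v, χ v = ψ (w ⬝ᵥ v) := fun v => (DFunLike.congr_fun hw v).symm
  exact ⟨ψ, w, hψ1, by rw [← hw']; exact hv0, x, hx0, fun v => by rw [hx, hw']⟩

theorem card_le_of_weights (hL : (Fintype.card F : L) ≠ 0) (T : (ι → F) → Module.End L V) (hT0 : T 0 = 1) (hTadd : ∀ v w, T (v + w) = T v * T w)
    (ψ : AddChar F L) (hψ1 : ψ 1 ≠ 1) {S : Type*} [Fintype S] (wt : S → (ι → F)) (hwt : Function.Injective wt)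
    (hS : ∀ s, ∃ y : V, y ≠ 0 ∧ ∀ v, T v y = ψ (wt s ⬝ᵥ v) • y) : Fintype.card S ≤ finrank L V := by
  classical
  have hTc : ∀ v w, Commute (T v) (T w) := by
    intro v w
    show T v * T w = T w * T v
    rw [← hTadd, ← hTadd, add_comm]
  have hmax : ∀ v μ, (T v).maxGenEigenspace μ = (T v).eigenspace μ := fun v μ => (wt_aux hL T hT0 hTadd v).isFinitelySemisimple.maxGenEigenspace_eq_eigenspace μ
  choose y hy0 hy using hS
  have hli : LinearIndependent L y := by
    have hind : iSupIndep fun χ : (ι → F) → L => ⨅ v, (T v).maxGenEigenspace (χ v) :=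
      Module.End.independent_iInf_maxGenEigenspace_of_forall_mapsTo T (fun v w μ => Module.End.mapsTo_maxGenEigenspace_of_comm (hTc w v) μ)
    have hinj : Function.Injective (fun s : S => (fun v => ψ (wt s ⬝ᵥ v) : (ι → F) → L)) := by
      intro a b h
      apply hwt
      by_contra hne
      obtain ⟨i, hi⟩ := Function.ne_iff.1 hne
      have h3 : ψ (wt a ⬝ᵥ Pi.single i ((wt a i - wt b i)⁻¹)) = ψ (wt b ⬝ᵥ Pi.single i ((wt a i - wt b i)⁻¹)) := congrFun h _
      rw [dotProduct_single, dotProduct_single] at h3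
      apply hψ1
      have h4 : (1 : F) = wt a i * (wt a i - wt b i)⁻¹ + -(wt b i * (wt a i - wt b i)⁻¹) := by
        rw [← sub_eq_add_neg, ← sub_mul, mul_inv_cancel₀ (sub_ne_zero.2 hi)]
      rw [h4, AddChar.map_add_eq_mul, h3, ← AddChar.map_add_eq_mul, add_neg_cancel, AddChar.map_zero_eq_one]
    have h2 := hind.comp hinj
    apply h2.linearIndependent _ (v := y)
    · intro s
      simp only [Function.comp, hmax]
      simp only [Submodule.mem_iInf, Module.End.mem_eigenspace_iff]
      exact hy s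
    · exact hy0
  exact hli.fintype_card_le_finrank

end weights

section sp
variable {F : Type*} [Field F] {n : ℕ}

noncomputable def NS (S : Matrix (Fin n) (Fin n) F) (hS : Sᵀ = S) : ↥(Matrix.symplecticGroup (Fin n) F) :=
  ⟨fromBlocks 1 S 0 1, by
    rw [SymplecticGroup.mem_iff, J, fromBlocks_transpose, fromBlocks_multiply, fromBlocks_multiply]
    simp [hS]⟩

noncomputable def MA (A A' : Matrix (Fin n) (Fin n) F) (h : A * A' = 1) : ↥(Matrix.symplecticGroup (Fin n) F) :=
  ⟨fromBlocks A 0 0 A'ᵀ, by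
    have h' : A'ᵀ * Aᵀ = 1 := by rw [← transpose_mul, h, transpose_one]
    rw [SymplecticGroup.mem_iff, J, fromBlocks_transpose, fromBlocks_multiply, fromBlocks_multiply]
    simp [h, h']⟩

lemma MA_NS (A A' S : Matrix (Fin n) (Fin n) F) (h : A * A' = 1) (hS : Sᵀ = S) (hS' : (A * S * Aᵀ)ᵀ = A * S * Aᵀ) :
    NS (A * S * Aᵀ) hS' * MA A A' h = MA A A' h * NS S hS := by
  apply Subtype.ext
  show fromBlocks 1 (A * S * Aᵀ) 0 1 * fromBlocks A 0 0 A'ᵀ = fromBlocks A 0 0 A'ᵀ * fromBlocks 1 S 0 1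
  have h' : Aᵀ * A'ᵀ = 1 := by rw [← transpose_mul, mul_eq_one_comm.1 h, transpose_one]
  rw [fromBlocks_multiply, fromBlocks_multiply]
  simp [Matrix.mul_assoc, h']

lemma NS_mul (S S' : Matrix (Fin n) (Fin n) F) (h h' h'') : NS S h * NS S' h' = NS (S + S') h'' := by
  apply Subtype.ext
  show fromBlocks 1 S 0 1 * fromBlocks 1 S' 0 1 = fromBlocks 1 (S + S') 0 1
  rw [fromBlocks_multiply]
  simp [add_comm]

lemma NS_central {S : Matrix (Fin n) (Fin n) F} {h} (hc : NS S h ∈ Subgroup.center ↥(Matrix.symplecticGroup (Fin n) F)) : S = 0 := by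
  rw [Subgroup.mem_center_iff] at hc
  have h1 := congrArg Subtype.val (hc (SymplecticGroup.symJ (Fin n) F))
  have h2 : J (Fin n) F * fromBlocks 1 S 0 1 = fromBlocks 1 S 0 1 * J (Fin n) F := h1
  rw [J, fromBlocks_multiply, fromBlocks_multiply, fromBlocks_inj] at h2
  have := h2.1
  simpa using this.symm

variable {k : ℕ}
/-- the symmetric matrices supported on the first row and column -/
noncomputable def sm (v : Fin (k + 1) → F) : Matrix (Fin (k + 1)) (Fin (k + 1)) F :=
  vecMulVec (Pi.single 0 1) v + vecMulVec v (Pi.single 0 1) - v 0 • vecMulVec (Pi.single 0 1) (Pi.single 0 1)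

lemma sm_apply (v : Fin (k + 1) → F) (i j : Fin (k + 1)) : sm v i j = (Pi.single 0 1 : Fin (k + 1) → F) i * v j + v i * (Pi.single 0 1 : Fin (k + 1) → F) j -
    v 0 * ((Pi.single 0 1 : Fin (k + 1) → F) i * (Pi.single 0 1 : Fin (k + 1) → F) j) := rfl

lemma sm_symm (v : Fin (k + 1) → F) : (sm v)ᵀ = sm v := by
  ext i j
  rw [transpose_apply, sm_apply, sm_apply]; ring

lemma sm_add (v w : Fin (k + 1) → F) : sm (v + w) = sm v + sm w := by
  ext i j
  rw [Matrix.add_apply, sm_apply, sm_apply, sm_apply]; simp only [Pi.add_apply]; ring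

lemma sm_zero : sm (0 : Fin (k + 1) → F) = 0 := by
  ext i j
  rw [sm_apply]; simp

lemma sm_e0 : sm (Pi.single 0 1 : Fin (k + 1) → F) ≠ 0 := by
  intro h
  have := congrFun (congrFun h 0) 0
  rw [sm_apply] at this
  simp at this

lemma mul_sm (u v : Fin (k + 1) → F) :
    (1 + vecMulVec (Pi.single 0 1) u) * sm v * (1 + vecMulVec (Pi.single 0 1) u)ᵀ =
      sm ((1 + u 0) • v + (2 * (1 + u 0) * (u ⬝ᵥ v) - (1 + u 0) ^ 2 * v 0 + (1 + u 0) * v 0) • (Pi.single 0 1 : Fin (k + 1) → F)) := by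
  have h1 : ∀ x : Fin (k + 1) → F, (1 + vecMulVec (Pi.single 0 1) u) *ᵥ x = x + (u ⬝ᵥ x) • Pi.single 0 1 := by
    intro x
    rw [add_mulVec, one_mulVec, vecMulVec_mulVec]
    congr 1
    ext i; simp [mul_comm]
  have h2 : ∀ x y : Fin (k + 1) → F, (1 + vecMulVec (Pi.single 0 1) u) * vecMulVec x y * (1 + vecMulVec (Pi.single 0 1) u)ᵀ =
      vecMulVec (x + (u ⬝ᵥ x) • Pi.single 0 1) (y + (u ⬝ᵥ y) • Pi.single 0 1) := by
    intro x y
    rw [mul_vecMulVec, vecMulVec_mul, vecMul_transpose, h1, h1]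
  have h3 : u ⬝ᵥ Pi.single 0 1 = u 0 := by simp
  unfold sm
  rw [Matrix.mul_sub, Matrix.sub_mul, Matrix.mul_add, Matrix.add_mul, h2, h2, Matrix.mul_smul, Matrix.smul_mul, h2, h3]
  ext i j
  simp only [Matrix.add_apply, Matrix.sub_apply, Matrix.smul_apply, vecMulVec_apply, Pi.add_apply, Pi.smul_apply, smul_eq_mul, Pi.single_eq_same, mul_one]
  ring

end sp

theorem sp_bound {F : Type*} [Field F] [Fintype F] (h2 : (2 : F) ≠ 0) {k : ℕ} {L : Type*} [Field L] [IsAlgClosed L] (hL : (Fintype.card F : L) ≠ 0)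
    {V : Type*} [AddCommGroup V] [Module L V] [FiniteDimensional L V]
    (ρ : ↥(Matrix.symplecticGroup (Fin (k + 1)) F) →* Module.End L V)
    (hker : ∀ g, ρ g = 1 → g ∈ Subgroup.center ↥(Matrix.symplecticGroup (Fin (k + 1)) F)) :
    Fintype.card F ^ k * (Fintype.card F - 1) / 2 ≤ finrank L V := by
  classical
  let T : (Fin (k + 1) → F) → Module.End L V := fun v => ρ (NS (sm v) (sm_symm v))
  have hTadd : ∀ v w, T (v + w) = T v * T w := by
    intro v w
    show ρ (NS (sm (v + w)) (sm_symm (v + w))) = ρ (NS (sm v) (sm_symm v)) * ρ (NS (sm w) (sm_symm w))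
    rw [← map_mul, NS_mul _ _ _ _ (by rw [← sm_add]; exact sm_symm _)]
    congr 1
    apply Subtype.ext
    show fromBlocks 1 _ 0 1 = fromBlocks 1 _ 0 1
    rw [sm_add]
  have hT0 : T 0 = 1 := by
    show ρ (NS (sm 0) (sm_symm 0)) = 1
    have : NS (sm (0 : Fin (k + 1) → F)) (sm_symm 0) = 1 := by
      apply Subtype.ext
      show fromBlocks 1 _ 0 1 = 1
      rw [sm_zero, fromBlocks_one]
    rw [this, map_one]
  have hv0 : T (Pi.single 0 1) ≠ 1 := by
    intro h
    exact sm_e0 (NS_central (hker _ h))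
  obtain ⟨ψ, w, hψ1, hψw, x, hx0, hx⟩ := exists_weight hL T hT0 hTadd (Pi.single 0 1) hv0
  have hw0 : w 0 ≠ 0 := by
    intro h
    apply hψw
    rw [dotProduct_single, h, zero_mul, AddChar.map_zero_eq_one]
  set C : Finset F := (Finset.univ.filter (fun t : F => t ≠ 0)).image (fun t => t ^ 2 * w 0) with hC
  have hCcard : Fintype.card F - 1 ≤ 2 * C.card := by
    have h1 : (Finset.univ.filter (fun t : F => t ≠ 0)).card ≤ 2 * C.card := by
      apply Finset.card_le_mul_card_image
      intro c hc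
      rw [Finset.mem_image] at hc
      obtain ⟨t, ht, rfl⟩ := hc
      have h3 : (Finset.univ.filter (fun t : F => t ≠ 0)).filter (fun s => s ^ 2 * w 0 = t ^ 2 * w 0) ⊆ {t, -t} := by
        intro s hs
        rw [Finset.mem_filter] at hs
        have h4 := mul_right_cancel₀ hw0 hs.2
        rw [Finset.mem_insert, Finset.mem_singleton]
        exact sq_eq_sq_iff_eq_or_eq_neg.1 h4
      exact (Finset.card_le_card h3).trans Finset.card_le_two
    have h5 : (Finset.univ.filter (fun t : F => t ≠ 0)).card = Fintype.card F - 1 := by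
      rw [Finset.filter_ne', Finset.card_erase_of_mem (Finset.mem_univ _), Finset.card_univ]
    rwa [h5] at h1
  have hle := card_le_of_weights hL T hT0 hTadd ψ hψ1 (S := C × (Fin k → F)) (fun s => Fin.cons (s.1 : F) s.2)
    (by
      rintro ⟨a, b⟩ ⟨a', b'⟩ h
      rw [Fin.cons_inj] at h
      exact Prod.ext (Subtype.ext h.1) h.2) (by
      rintro ⟨⟨c, hc⟩, b⟩
      rw [hC, Finset.mem_image] at hc
      obtain ⟨t, ht, rfl⟩ := hc
      rw [Finset.mem_filter] at ht
      have ht := ht.2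
      set w' : Fin (k + 1) → F := Fin.cons (t ^ 2 * w 0) b with hw'
      have hw'0 : w' 0 = t ^ 2 * w 0 := rfl
      obtain ⟨u, hudef⟩ : ∃ u : Fin (k + 1) → F, u = (2 * t * w 0)⁻¹ • (w' - t • w - ((t - t ^ 2) * w 0) • Pi.single 0 1) := ⟨_, rfl⟩
      have hd : 2 * t * w 0 ≠ 0 := mul_ne_zero (mul_ne_zero h2 ht) hw0
      have hu0 : 1 + u 0 = t := by
        rw [hudef]
        show 1 + (2 * t * w 0)⁻¹ * (w' 0 - t * w 0 - ((t - t ^ 2) * w 0) * (Pi.single 0 1 : Fin (k + 1) → F) 0) = t
        rw [hw'0, Pi.single_eq_same]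
        field_simp
        ring
      have huw : (2 * t * w 0) • u = w' - t • w - ((t - t ^ 2) * w 0) • Pi.single 0 1 := by
        rw [hudef, smul_smul, mul_inv_cancel₀ hd, one_smul]
      set A : Matrix (Fin (k + 1)) (Fin (k + 1)) F := 1 + vecMulVec (Pi.single 0 1) u with hA
      let A' : Matrix (Fin (k + 1)) (Fin (k + 1)) F := 1 - t⁻¹ • vecMulVec (Pi.single 0 1) u
      have hAA' : A * A' = 1 := by
        have h6 : vecMulVec (Pi.single 0 1 : Fin (k + 1) → F) u * vecMulVec (Pi.single 0 1 : Fin (k + 1) → F) u = (u 0) • vecMulVec (Pi.single 0 1 : Fin (k + 1) → F) u := by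
          rw [vecMulVec_mul_vecMulVec]
          simp [smul_vecMulVec]
        show (1 + vecMulVec (Pi.single 0 1) u) * (1 - t⁻¹ • vecMulVec (Pi.single 0 1) u) = 1
        rw [Matrix.mul_sub, Matrix.mul_one, Matrix.add_mul, Matrix.one_mul, Matrix.mul_smul, h6, smul_smul]
        have h7 : t⁻¹ * u 0 = 1 - t⁻¹ := by
          have : u 0 = t - 1 := by rw [← hu0]; ring
          rw [this]; field_simp
        rw [h7, sub_smul, one_smul]; abel
      have hinv : ρ (MA A A' hAA') * ρ ((MA A A' hAA')⁻¹) = 1 := by rw [← map_mul, mul_inv_cancel, map_one]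
      refine ⟨ρ ((MA A A' hAA')⁻¹) x, ?_, ?_⟩
      · intro h
        apply hx0
        have := congrArg (ρ (MA A A' hAA')) h
        rwa [← Module.End.mul_apply, hinv, map_zero] at this
      · intro v
        set v' : Fin (k + 1) → F := (1 + u 0) • v + (2 * (1 + u 0) * (u ⬝ᵥ v) - (1 + u 0) ^ 2 * v 0 + (1 + u 0) * v 0) • (Pi.single 0 1 : Fin (k + 1) → F) with hv'
        have h8 : A * sm v * Aᵀ = sm v' := mul_sm u v
        have h9 : NS (sm v') (sm_symm v') * MA A A' hAA' = MA A A' hAA' * NS (sm v) (sm_symm v) := by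
          rw [← MA_NS A A' (sm v) hAA' (sm_symm v) (by rw [h8]; exact sm_symm v')]
          congr 1
          apply Subtype.ext
          show fromBlocks 1 _ 0 1 = fromBlocks 1 _ 0 1
          rw [h8]
        have h10 : NS (sm v) (sm_symm v) * (MA A A' hAA')⁻¹ = (MA A A' hAA')⁻¹ * NS (sm v') (sm_symm v') := by
          rw [eq_inv_mul_iff_mul_eq, ← mul_assoc, ← h9, mul_inv_cancel_right]
        show ρ (NS (sm v) (sm_symm v)) (ρ ((MA A A' hAA')⁻¹) x) = _
        rw [← Module.End.mul_apply, ← map_mul, h10, map_mul, Module.End.mul_apply]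
        have h11 : ρ (NS (sm v') (sm_symm v')) x = ψ (w ⬝ᵥ v') • x := hx v'
        rw [h11, map_smul]
        congr 2
        have h12 : w' = (2 * t * w 0) • u + t • w + ((t - t ^ 2) * w 0) • Pi.single 0 1 := by rw [huw]; abel
        rw [hv', hu0]
        show w ⬝ᵥ _ = w' ⬝ᵥ v
        rw [h12, dotProduct_add, add_dotProduct, add_dotProduct, dotProduct_smul, dotProduct_smul, smul_dotProduct, smul_dotProduct, smul_dotProduct,
          dotProduct_single, single_dotProduct]
        simp only [smul_eq_mul, mul_one, one_mul]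
        ring)
  rw [Fintype.card_prod, Fintype.card_coe, Fintype.card_fun, Fintype.card_fin] at hle
  refine le_trans ?_ hle
  calc Fintype.card F ^ k * (Fintype.card F - 1) / 2 ≤ Fintype.card F ^ k * (2 * C.card) / 2 := Nat.div_le_div_right (Nat.mul_le_mul_left _ hCcard)
    _ = C.card * Fintype.card F ^ k := by
      rw [show Fintype.card F ^ k * (2 * C.card) = (C.card * Fintype.card F ^ k) * 2 by ring, Nat.mul_div_cancel _ (by norm_num)]

end Cfsg.Agent.H16.LSB
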