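import Mathlib

set_option autoImplicit false
set_option linter.all false

/-! Eigenvalue orbits for matrices over a finite field. -/

namespace Cfsg.Agent.H16.PGr

open Polynomial

variable {F : Type*} [Field F] [Fintype F] {m : Type*} [Fintype m] [DecidableEq m]

/-- `z` is an eigenvalue of `x` in the algebraic closure -/
def Ev (x : Matrix m m F) (z : AlgebraicClosure F) : Prop := aeval z x.charpoly = 0

lemma Ev.pow_card {x : Matrix m m F} {z : AlgebraicClosure F} (h : Ev x z) : Ev x (z ^ Fintype.card F) := by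
  have h1 := Polynomial.aeval_algHom_apply (FiniteField.frobeniusAlgHom F (AlgebraicClosure F)) z x.charpoly
  rw [FiniteField.coe_frobeniusAlgHom] at h1
  unfold Ev at h ⊢
  simp only at h1
  rw [h1, h, zero_pow Fintype.card_ne_zero]

lemma Ev.card_le {x : Matrix m m F} {S : Finset (AlgebraicClosure F)} (h : ∀ z ∈ S, Ev x z) : S.card ≤ Fintype.card m := by
  have h0 : (x.charpoly.map (algebraMap F (AlgebraicClosure F))) ≠ 0 := (x.charpoly_monic.map _).ne_zero
  have h1 : S.val ⊆ (x.charpoly.map (algebraMap F (AlgebraicClosure F))).roots := by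
    intro z hz
    rw [mem_roots h0, IsRoot, eval_map_algebraMap]
    exact h z hz
  have h2 := Polynomial.card_le_degree_of_subset_roots h1
  rwa [natDegree_map, Matrix.charpoly_natDegree_eq_dim] at h2

lemma Ev.spec {x : Matrix m m F} {z : AlgebraicClosure F} (h : Ev x z) :
    z ∈ spectrum (AlgebraicClosure F) (x.map (algebraMap F (AlgebraicClosure F))) := by
  rw [Matrix.mem_spectrum_iff_isRoot_charpoly, Matrix.charpoly_map, IsRoot, eval_map_algebraMap]
  exact h

lemma Ev.pow_one {x : Matrix m m F} {N : ℕ} (hx : x ^ N = 1) {z : AlgebraicClosure F} (h : Ev x z) : z ^ N = 1 := by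
  have h1 := spectrum.pow_mem_pow (x.map (algebraMap F (AlgebraicClosure F))) N h.spec
  have h2 : (x.map (algebraMap F (AlgebraicClosure F))) ^ N = 1 := by
    have : (x ^ N).map (algebraMap F (AlgebraicClosure F)) = (x.map (algebraMap F (AlgebraicClosure F))) ^ N :=
      map_pow (RingHom.mapMatrix (algebraMap F (AlgebraicClosure F))) x N
    rw [← this, hx, Matrix.map_one _ (map_zero _) (map_one _)]
  rw [h2] at h1
  by_contra hne
  have h3 : IsUnit (algebraMap (AlgebraicClosure F) (Matrix m m (AlgebraicClosure F)) (z ^ N) - 1) := by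
    rw [← map_one (algebraMap (AlgebraicClosure F) (Matrix m m (AlgebraicClosure F))), ← map_sub]
    exact (IsUnit.mk0 _ (sub_ne_zero.2 hne)).map _
  exact h1 h3

lemma exists_ev_of_minpoly {x : Matrix m m F} {z : AlgebraicClosure F} (h : aeval z (minpoly F x) = 0) : Ev x z := by
  obtain ⟨c, hc⟩ := Matrix.minpoly_dvd_charpoly x
  unfold Ev
  rw [hc, map_mul, h, zero_mul]

lemma xpow_ne {d : ℕ} (hd : d ≠ 0) : (X ^ d - 1 : F[X]) ≠ 0 := by
  have := X_pow_sub_C_ne_zero (Nat.pos_of_ne_zero hd) (1 : F)
  rwa [map_one] at this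

lemma pow_eq_one_of_ev {x : Matrix m m F} {N d : ℕ} (hN : (N : F) ≠ 0) (hx : x ^ N = 1)
    (h : ∀ z : AlgebraicClosure F, Ev x z → z ^ d = 1) (hd : d ≠ 0) : x ^ d = 1 := by
  have h1 : minpoly F x ∣ X ^ N - 1 := minpoly.dvd F x (by simp [hx])
  have hsep : (minpoly F x).Separable := (X_pow_sub_one_separable_iff.2 hN).of_dvd h1
  have hne : (minpoly F x) ≠ 0 := minpoly.ne_zero (Matrix.isIntegral x)
  have h2 : minpoly F x ∣ X ^ d - 1 := by
    rw [← Polynomial.map_dvd_map' (algebraMap F (AlgebraicClosure F))]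
    apply (IsAlgClosed.splits _).dvd_of_roots_le_roots ((Polynomial.map_ne_zero_iff (algebraMap F (AlgebraicClosure F)).injective).2 hne)
    rw [Multiset.le_iff_subset (nodup_roots hsep.map)]
    intro z hz
    rw [mem_roots ((Polynomial.map_ne_zero_iff (algebraMap F (AlgebraicClosure F)).injective).2 hne), IsRoot, eval_map_algebraMap] at hz
    have h3 := h z (exists_ev_of_minpoly hz)
    rw [mem_roots ((Polynomial.map_ne_zero_iff (algebraMap F (AlgebraicClosure F)).injective).2 (xpow_ne hd)), IsRoot, eval_map_algebraMap]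
    simp [h3]
  obtain ⟨c, hc⟩ := h2
  have h4 : aeval x (X ^ d - 1 : F[X]) = 0 := by rw [hc, map_mul, minpoly.aeval, zero_mul]
  simpa [sub_eq_zero] using h4

/-- if all eigenvalues are distinct `r`-th roots of unity then the matrix has order dividing `r` -/
lemma pow_eq_one_of_card {x : Matrix m m F} {r : ℕ} (hr : r ≠ 0) {S : Finset (AlgebraicClosure F)} (hS : ∀ z ∈ S, Ev x z)
    (hS1 : ∀ z ∈ S, z ^ r = 1) (hc : S.card = Fintype.card m) : x ^ r = 1 := by
  have h0 : (x.charpoly.map (algebraMap F (AlgebraicClosure F))) ≠ 0 := (x.charpoly_monic.map _).ne_zero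
  have hle : S.val ≤ (x.charpoly.map (algebraMap F (AlgebraicClosure F))).roots := by
    rw [Multiset.le_iff_subset S.nodup]
    intro z hz
    rw [mem_roots h0, IsRoot, eval_map_algebraMap]
    exact hS z hz
  have heq : S.val = (x.charpoly.map (algebraMap F (AlgebraicClosure F))).roots := by
    apply Multiset.eq_of_le_of_card_le hle
    have h2 := Polynomial.card_roots' (x.charpoly.map (algebraMap F (AlgebraicClosure F)))
    rw [natDegree_map, Matrix.charpoly_natDegree_eq_dim] at h2
    rw [Finset.card_val, hc]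
    exact h2
  have h2 : x.charpoly ∣ X ^ r - 1 := by
    rw [← Polynomial.map_dvd_map' (algebraMap F (AlgebraicClosure F))]
    apply (IsAlgClosed.splits _).dvd_of_roots_le_roots h0
    rw [← heq, Multiset.le_iff_subset S.nodup]
    intro z hz
    rw [mem_roots ((Polynomial.map_ne_zero_iff (algebraMap F (AlgebraicClosure F)).injective).2 (xpow_ne hr)), IsRoot, eval_map_algebraMap]
    simp [hS1 z hz]
  obtain ⟨c, hc⟩ := h2
  have h4 : aeval x (X ^ r - 1 : F[X]) = 0 := by rw [hc, map_mul, Matrix.aeval_self_charpoly, zero_mul]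
  simpa [sub_eq_zero] using h4

section orb
open Classical in
/-- orbit of `z` under a group of exponents -/
noncomputable def orb (N : ℕ) [NeZero N] (z : AlgebraicClosure F) (H : Subgroup (ZMod N)ˣ) : Finset (AlgebraicClosure F) :=
  (Finset.univ.filter (fun u : (ZMod N)ˣ => u ∈ H)).image (fun u : (ZMod N)ˣ => z ^ (u : ZMod N).val)

lemma card_orb {N : ℕ} [NeZero N] {z : AlgebraicClosure F} (hz : orderOf z = N) (H : Subgroup (ZMod N)ˣ) : (orb N z H).card = Nat.card H := by
  classical
  unfold orb
  rw [Finset.card_image_of_injOn, Nat.card_eq_fintype_card, Fintype.card_subtype]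
  have hz0 : z ≠ 0 := by
    rintro rfl
    rw [orderOf_eq_zero_iff'.2] at hz
    · exact NeZero.ne N hz.symm
    · intro n hn
      rw [zero_pow hn.ne']; exact zero_ne_one
  intro a _ b _ hab
  apply Units.ext
  apply ZMod.val_injective N
  obtain ⟨u, rfl⟩ : ∃ u : (AlgebraicClosure F)ˣ, (u : AlgebraicClosure F) = z := ⟨Units.mk0 z hz0, rfl⟩
  have h1 : u ^ (a : ZMod N).val = u ^ (b : ZMod N).val := Units.ext (by simpa using hab)
  rw [pow_inj_mod, ← orderOf_units, hz, Nat.mod_eq_of_lt (ZMod.val_lt _), Nat.mod_eq_of_lt (ZMod.val_lt _)] at h1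
  exact h1

lemma orderOf_orb {N : ℕ} [NeZero N] {z : AlgebraicClosure F} (hz : orderOf z = N) {H : Subgroup (ZMod N)ˣ} {w : AlgebraicClosure F}
    (hw : w ∈ orb N z H) : orderOf w = N := by
  classical
  unfold orb at hw
  rw [Finset.mem_image] at hw
  obtain ⟨u, -, rfl⟩ := hw
  rw [Nat.Coprime.orderOf_pow, hz]
  rw [hz]
  exact (ZMod.val_coe_unit_coprime u).symm

/-- a set of exponents preserving eigenvalues contains the generated subgroup -/
lemma ev_orb {x : Matrix m m F} {N : ℕ} [NeZero N] {z : AlgebraicClosure F} (hz : orderOf z = N) (T : Set (ZMod N)ˣ)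
    (hT : ∀ u ∈ T, ∀ w : AlgebraicClosure F, w ^ N = 1 → Ev x w → Ev x (w ^ (u : ZMod N).val)) (hx : Ev x z)
    {w : AlgebraicClosure F} (hw : w ∈ orb N z (Subgroup.closure T)) : Ev x w := by
  classical
  unfold orb at hw
  rw [Finset.mem_image] at hw
  obtain ⟨u, hu, rfl⟩ := hw
  rw [Finset.mem_filter] at hu
  have hpow : ∀ w : AlgebraicClosure F, w ^ N = 1 → ∀ a b : ZMod N, (w ^ a.val) ^ b.val = w ^ (a * b).val := by
    intro w hw a b
    rw [← pow_mul, ZMod.val_mul]
    conv_lhs => rw [← Nat.div_add_mod (a.val * b.val) N, pow_add, pow_mul, hw, one_pow, one_mul]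
  have key : ∀ u ∈ Submonoid.closure T, ∀ w : AlgebraicClosure F, w ^ N = 1 → Ev x w → Ev x (w ^ (u : ZMod N).val) := by
    intro u hu
    induction hu using Submonoid.closure_induction with
    | mem u hu => exact hT u hu
    | one =>
      intro w hw h
      have h1 : w ^ ((1 : (ZMod N)ˣ) : ZMod N).val = w := by
        rw [Units.val_one]
        rcases Nat.lt_or_ge 1 N with h1 | h1
        · haveI : Fact (1 < N) := ⟨h1⟩
          rw [ZMod.val_one, _root_.pow_one]
        · have hN1 : N = 1 := le_antisymm h1 (NeZero.pos N)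
          subst hN1
          rw [_root_.pow_one] at hw
          rw [hw, one_pow]
      rw [h1]; exact h
    | mul a b _ _ ha hb =>
      intro w hw h
      rw [Units.val_mul, ← hpow w hw]
      apply hb _ _ (ha w hw h)
      rw [← pow_mul, mul_comm, pow_mul, hw, one_pow]
  have hcl : (Subgroup.closure T).toSubmonoid = Submonoid.closure T := Subgroup.closure_toSubmonoid_of_finite
  have hu2 : u ∈ Submonoid.closure T := by rw [← hcl]; exact hu.2
  exact key u hu2 z (by rw [← hz]; exact pow_orderOf_eq_one z) hx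

end orb

end Cfsg.Agent.H16.PGr
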