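import Mathlib
import Cfsg.Agent.H5.LinBasic
import Cfsg.Agent.H17.GLOrders

set_option autoImplicit false
set_option linter.all false

/-! Sylow subgroups of `GL_n(q)`, `SL_n(q)` for large primes. -/

namespace Cfsg.Agent.H16.SylB

open Module Matrix

/-- Sylow subgroups from an embedding of the right order -/
theorem sylow_of_embed {G A : Type*} [Group G] [Finite G] [Group A] [Finite A] {r : ℕ} [Fact r.Prime] (f : A →* G) (hf : Function.Injective f)
    (h : Nat.card A = r ^ (Nat.card G).factorization r) (P : Sylow r G) : Nonempty ((P : Subgroup G) ≃* A) := by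
  have h1 : Nat.card f.range = r ^ (Nat.card G).factorization r := by
    rw [← h]; exact (Nat.card_congr (MonoidHom.ofInjective hf).toEquiv).symm
  let Q : Sylow r G := Sylow.ofCard f.range h1
  have e : (P : Subgroup G) ≃* (Q : Subgroup G) := P.equiv Q
  have hQ : (Q : Subgroup G) = f.range := rfl
  exact ⟨e.trans ((MulEquiv.subgroupCongr hQ).trans (MonoidHom.ofInjective hf).symm)⟩

section val
variable {q r : ℕ} [hr : Fact r.Prime]

lemma dvd_iff (hq : 1 < q) (j : ℕ) : r ∣ q ^ j - 1 ↔ orderOf (q : ZMod r) ∣ j := by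
  rw [orderOf_dvd_iff_pow_eq_one, ← ZMod.natCast_eq_zero_iff, Nat.cast_sub (Nat.one_le_pow _ _ (by omega)), Nat.cast_pow, Nat.cast_one, sub_eq_zero]

lemma ord_pos (hrq : ¬ r ∣ q) : 0 < orderOf (q : ZMod r) := by
  have h0 : (q : ZMod r) ≠ 0 := by rwa [Ne, ZMod.natCast_eq_zero_iff]
  rw [orderOf_pos_iff, isOfFinOrder_iff_pow_eq_one]
  exact ⟨r - 1, Nat.sub_pos_of_lt hr.out.one_lt, ZMod.pow_card_sub_one_eq_one h0⟩

lemma val_pow (hq : 1 < q) (hrq : ¬ r ∣ q) {j : ℕ} (hj : 0 < j) (hjr : j < r) :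
    (q ^ j - 1).factorization r = if orderOf (q : ZMod r) ∣ j then (q ^ orderOf (q : ZMod r) - 1).factorization r else 0 := by
  split_ifs with h
  · obtain ⟨t, ht⟩ := h
    set d := orderOf (q : ZMod r) with hd
    have hd0 : 0 < d := ord_pos hrq
    rcases Nat.lt_trichotomy t 1 with h1 | h1 | h1
    · have : t = 0 := by omega
      subst this; omega
    · subst h1; rw [ht, mul_one]
    · have hj2 : 2 ≤ j := by rw [ht]; nlinarith
      have hr2 : Odd r := hr.out.odd_of_ne_two (by omega)
      have hdv : r ∣ q ^ d - 1 := (dvd_iff hq d).2 dvd_rfl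
      have hnd : ¬ r ∣ q ^ d := fun h => hrq (hr.out.dvd_of_dvd_pow h)
      have h2 := padicValNat.pow_sub_pow (p := r) hr2 (x := q ^ d) (y := 1) (Nat.one_lt_pow hd0.ne' hq) hdv hnd (n := t) (by omega)
      rw [one_pow, ← pow_mul, ← ht] at h2
      rw [Nat.factorization_def _ hr.out, Nat.factorization_def _ hr.out, h2]
      have htr : ¬ r ∣ t := by
        intro h
        have := Nat.le_of_dvd (by omega) h
        have h3 : t ≤ j := by rw [ht]; exact Nat.le_mul_of_pos_left _ hd0
        omega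
      rw [padicValNat.eq_zero_of_not_dvd htr, add_zero]
  · apply Nat.factorization_eq_zero_of_not_dvd
    rwa [dvd_iff hq]

lemma val_cyc (hq : 1 < q) (hrq : ¬ r ∣ q) :
    padicValNat r ((Polynomial.cyclotomic (orderOf (q : ZMod r)) ℤ).eval (q : ℤ)).natAbs = (q ^ orderOf (q : ZMod r) - 1).factorization r := by
  set d := orderOf (q : ZMod r) with hd
  have hd0 : 0 < d := ord_pos hrq
  have h1 : (q : ℤ) ^ d - 1 = (Polynomial.cyclotomic d ℤ).eval (q : ℤ) * ∏ e ∈ d.properDivisors, (Polynomial.cyclotomic e ℤ).eval (q : ℤ) := by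
    have h2 := congrArg (Polynomial.eval (q : ℤ)) (Polynomial.prod_cyclotomic_eq_X_pow_sub_one hd0 ℤ)
    rw [Polynomial.eval_prod, Polynomial.eval_sub, Polynomial.eval_pow, Polynomial.eval_X, Polynomial.eval_one] at h2
    rw [← h2, ← Nat.cons_self_properDivisors hd0.ne', Finset.prod_cons]
  have hnd : ∀ e ∈ d.properDivisors, ¬ r ∣ ((Polynomial.cyclotomic e ℤ).eval (q : ℤ)).natAbs := by
    intro e he h
    rw [Nat.mem_properDivisors] at he
    have he0 : 0 < e := Nat.pos_of_dvd_of_pos he.1 hd0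
    have h3 : (Polynomial.cyclotomic e ℤ).eval (q : ℤ) ∣ (q : ℤ) ^ e - 1 := by
      have := Polynomial.eval_dvd (x := (q : ℤ)) (Polynomial.cyclotomic.dvd_X_pow_sub_one e ℤ)
      simpa using this
    have h4 : (r : ℤ) ∣ (q : ℤ) ^ e - 1 := (Int.natCast_dvd.2 h).trans h3
    have h5 : r ∣ q ^ e - 1 := by
      have : ((q ^ e - 1 : ℕ) : ℤ) = (q : ℤ) ^ e - 1 := by
        rw [Nat.cast_sub (Nat.one_le_pow _ _ (by omega))]; push_cast; ring
      rw [← this] at h4
      exact_mod_cast h4
    rw [dvd_iff hq] at h5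
    have := Nat.le_of_dvd he0 h5
    omega
  have hne : (q ^ d - 1) ≠ 0 := by
    have := Nat.one_lt_pow hd0.ne' hq
    omega
  have h2 : q ^ d - 1 = ((Polynomial.cyclotomic d ℤ).eval (q : ℤ)).natAbs * ∏ e ∈ d.properDivisors, ((Polynomial.cyclotomic e ℤ).eval (q : ℤ)).natAbs := by
    have h3 := congrArg Int.natAbs h1
    rw [Int.natAbs_mul] at h3
    have h4 : ((q : ℤ) ^ d - 1).natAbs = q ^ d - 1 := by
      have : ((q ^ d - 1 : ℕ) : ℤ) = (q : ℤ) ^ d - 1 := by
        rw [Nat.cast_sub (Nat.one_le_pow _ _ (by omega))]; push_cast; ring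
      rw [← this, Int.natAbs_natCast]
    rw [h4] at h3
    rw [h3]
    congr 1
    exact map_prod Int.natAbsHom _ _
  rw [h2] at hne
  rw [h2, Nat.factorization_mul (left_ne_zero_of_mul hne) (right_ne_zero_of_mul hne), Finsupp.add_apply]
  have h5 : (∏ e ∈ d.properDivisors, ((Polynomial.cyclotomic e ℤ).eval (q : ℤ)).natAbs).factorization r = 0 := by
    apply Nat.factorization_eq_zero_of_not_dvd
    rw [Prime.dvd_finset_prod_iff hr.out.prime]
    rintro ⟨e, he, h⟩
    exact hnd e he h
  rw [h5, add_zero, Nat.factorization_def _ hr.out]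

lemma val_prod (hq : 1 < q) (hrq : ¬ r ∣ q) {n : ℕ} (hn : n < r) :
    (∏ i ∈ Finset.range n, (q ^ (i + 1) - 1)).factorization r = (n / orderOf (q : ZMod r)) * (q ^ orderOf (q : ZMod r) - 1).factorization r := by
  rw [Nat.factorization_prod (fun i _ => by
    have : 1 < q ^ (i + 1) := Nat.one_lt_pow (Nat.succ_ne_zero i) hq
    omega), Finsupp.finset_sum_apply]
  rw [Finset.sum_congr rfl (g := fun i => if orderOf (q : ZMod r) ∣ i + 1 then (q ^ orderOf (q : ZMod r) - 1).factorization r else 0) (fun i hi => by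
    rw [Finset.mem_range] at hi
    exact val_pow hq hrq (by omega) (by omega))]
  rw [← Finset.sum_filter, Finset.sum_const, smul_eq_mul, Nat.card_multiples]

end val

section gl
variable {F : Type*} [Field F] [Fintype F] {q r : ℕ} [hr : Fact r.Prime]

lemma card_gl (hq : Fintype.card F = q) (n : ℕ) : Nat.card (GL (Fin n) F) = q ^ (∑ i ∈ Finset.range n, i) * ∏ i ∈ Finset.range n, (q ^ (i + 1) - 1) := by
  rw [Matrix.card_GL_field, hq, Finset.prod_range (fun i => q ^ (i + 1) - 1)] 
  rw [← Finset.prod_range (fun i => q ^ (i + 1) - 1), ← Finset.prod_range (fun i => q ^ n - q ^ i), ← Finset.prod_range_reflect (fun i => q ^ (i + 1) - 1), ← Finset.prod_pow_eq_pow_sum,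
    ← Finset.prod_mul_distrib]
  apply Finset.prod_congr rfl
  intro i hi
  rw [Finset.mem_range] at hi
  rw [Nat.mul_sub, mul_one, ← pow_add]
  congr 2; omega

lemma val_gl (hq : Fintype.card F = q) (hrq : ¬ r ∣ q) {n : ℕ} (hn : n < r) :
    (Nat.card (GL (Fin n) F)).factorization r = (n / orderOf (q : ZMod r)) * (q ^ orderOf (q : ZMod r) - 1).factorization r := by
  have hq1 : 1 < q := by rw [← hq]; exact Fintype.one_lt_card
  have h0 : ∏ i ∈ Finset.range n, (q ^ (i + 1) - 1) ≠ 0 := by
    rw [Finset.prod_ne_zero_iff]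
    intro i _
    have : 1 < q ^ (i + 1) := Nat.one_lt_pow (Nat.succ_ne_zero i) hq1
    omega
  rw [card_gl hq, Nat.factorization_mul (pow_ne_zero _ (by omega)) h0, Finsupp.add_apply, val_prod hq1 hrq hn, Nat.factorization_pow]
  rw [Finsupp.smul_apply, Nat.factorization_eq_zero_of_not_dvd hrq, smul_zero, zero_add]

theorem gl_embed (hq : Fintype.card F = q) {d k n m : ℕ} (hd : 0 < d) (hkn : k * d ≤ n) (hm0 : 0 < m) (hm : m ∣ q ^ d - 1) :
    ∃ f : (Fin k → Multiplicative (ZMod m)) →* GL (Fin n) F, Function.Injective f := by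
  classical
  haveI : NeZero m := ⟨hm0.ne'⟩
  obtain ⟨E, _, _, _, hE⟩ := H17.exists_extension (F := F) d hd.ne'
  haveI : Module.Finite F E := Module.Finite.of_finite
  obtain ⟨g, hg⟩ := H17.exists_orderOf_eq_card_units E
  have hEc : Nat.card E = q ^ d := by
    rw [Module.natCard_eq_pow_finrank (K := F) (V := E), hE, Nat.card_eq_fintype_card, hq]
  rw [hEc] at hg
  obtain ⟨c, hc⟩ := hm
  have hgpos : 0 < q ^ d - 1 := by rw [← hg]; exact orderOf_pos _
  have hc0 : c ≠ 0 := by rintro rfl; rw [mul_zero] at hc; omega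
  have hx : orderOf (g ^ c) = m := by
    rw [orderOf_pow_of_dvd hc0 (by rw [hg, hc]; exact Dvd.intro_left _ rfl), hg, hc, Nat.mul_div_cancel _ (Nat.pos_of_ne_zero hc0)]
  let e : Multiplicative (ZMod m) ≃* Subgroup.zpowers (g ^ c) := mulEquivOfCyclicCardEq (by
    rw [Nat.card_zpowers, hx]; exact Nat.card_zmod m)
  let A := (Fin k → E) × (Fin (n - k * d) → F)
  have hA : finrank F A = n := by
    rw [Module.finrank_prod, Module.finrank_pi_fintype, finrank_fintype_fun_eq_card, Fintype.card_fin]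
    simp only [hE, Finset.sum_const, Finset.card_univ, Fintype.card_fin, smul_eq_mul]
    omega
  obtain ⟨φ, hφ⟩ := H17.exists_unitsHom_gl hA
  let h : (Fin k → Multiplicative (ZMod m)) →* A :=
    { toFun := fun y => (fun i => ((e (y i) : Eˣ) : E), 1)
      map_one' := by
        apply Prod.ext
        · funext i; simp
        · rfl
      map_mul' := fun a b => by
        apply Prod.ext
        · funext i
          show ((e ((a * b) i) : Eˣ) : E) = ((e (a i) : Eˣ) : E) * ((e (b i) : Eˣ) : E)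
          simp
        · show (1 : Fin (n - k * d) → F) = 1 * 1
          rw [mul_one] }
  refine ⟨φ.comp h.toHomUnits, ?_⟩
  intro a b hab
  have h1 := congrArg (fun u : Aˣ => (u : A)) (hφ hab)
  have h2 : (fun i => ((e (a i) : Eˣ) : E)) = fun i => ((e (b i) : Eˣ) : E) := congrArg Prod.fst h1
  funext i
  exact e.injective (Subtype.ext (Units.ext (congrFun h2 i)))

theorem syl_gl (hq : Fintype.card F = q) (hrq : ¬ r ∣ q) {n : ℕ} (hn : n < r) (P : Sylow r (GL (Fin n) F)) :
    Nonempty (↥(P : Subgroup (GL (Fin n) F)) ≃* (Fin (n / orderOf (q : ZMod r)) →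
        Multiplicative (ZMod (r ^ padicValNat r ((Polynomial.cyclotomic (orderOf (q : ZMod r)) ℤ).eval (q : ℤ)).natAbs)))) := by
  classical
  have hq1 : 1 < q := by rw [← hq]; exact Fintype.one_lt_card
  rw [val_cyc hq1 hrq]
  set d := orderOf (q : ZMod r) with hd
  have hd0 : 0 < d := ord_pos hrq
  obtain ⟨f, hf⟩ := gl_embed (F := F) hq (k := n / d) (n := n) hd0 (Nat.div_mul_le_self n d) (pow_pos hr.out.pos ((q ^ d - 1).factorization r)) (Nat.ordProj_dvd _ _)
  haveI : NeZero (r ^ ((q ^ d - 1).factorization r)) := ⟨(pow_pos hr.out.pos _).ne'⟩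
  haveI : Finite (Multiplicative (ZMod (r ^ ((q ^ d - 1).factorization r)))) := inferInstanceAs (Finite (ZMod _))
  apply sylow_of_embed f hf _ P
  rw [Nat.card_fun, Nat.card_eq_fintype_card (α := Fin (n / d)), Fintype.card_fin, val_gl hq hrq hn, mul_comm, pow_mul]
  congr 1
  exact Nat.card_zmod _

lemma val_sl (hq : Fintype.card F = q) (hrq : ¬ r ∣ q) {n : ℕ} (hn : n < r) (hn1 : 1 ≤ n) :
    (Nat.card (Matrix.SpecialLinearGroup (Fin n) F)).factorization r + (q - 1).factorization r =
      (n / orderOf (q : ZMod r)) * (q ^ orderOf (q : ZMod r) - 1).factorization r := by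
  have hq1 : 1 < q := by rw [← hq]; exact Fintype.one_lt_card
  rw [← val_gl hq hrq hn, Matrix.card_GL_field, hq, ← H5.card_SL_mul hq n hn1, Nat.factorization_mul (by omega) Nat.card_pos.ne', Finsupp.add_apply, add_comm]

theorem syl_sl (hq : Fintype.card F = q) (hrq : ¬ r ∣ q) {n : ℕ} (hn : n < r) (P : Sylow r (Matrix.SpecialLinearGroup (Fin n) F)) :
    Nonempty (↥(P : Subgroup (Matrix.SpecialLinearGroup (Fin n) F)) ≃* (Fin ((Finset.Icc 2 n).filter (fun i => orderOf (q : ZMod r) ∣ i)).card →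
        Multiplicative (ZMod (r ^ padicValNat r ((Polynomial.cyclotomic (orderOf (q : ZMod r)) ℤ).eval (q : ℤ)).natAbs)))) := by
  classical
  have hq1 : 1 < q := by rw [← hq]; exact Fintype.one_lt_card
  rw [val_cyc hq1 hrq]
  set d := orderOf (q : ZMod r) with hd
  have hd0 : 0 < d := ord_pos hrq
  set a := (q ^ d - 1).factorization r with ha
  haveI : NeZero (r ^ a) := ⟨(pow_pos hr.out.pos _).ne'⟩
  haveI : Finite (Multiplicative (ZMod (r ^ a))) := inferInstanceAs (Finite (ZMod _))
  have hcard : ∀ k, Nat.card (Fin k → Multiplicative (ZMod (r ^ a))) = r ^ (k * a) := by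
    intro k
    rw [Nat.card_fun, Nat.card_eq_fintype_card (α := Fin k), Fintype.card_fin, mul_comm, pow_mul]
    congr 1
    exact Nat.card_zmod _
  rcases Nat.eq_zero_or_pos n with rfl | hn0
  · have h0 : ((Finset.Icc 2 0).filter (fun i => d ∣ i)).card = 0 := by simp
    rw [h0]
    haveI : Subsingleton (Matrix.SpecialLinearGroup (Fin 0) F) := ⟨fun a b => Subtype.ext (Subsingleton.elim _ _)⟩
    apply sylow_of_embed (1 : (Fin 0 → Multiplicative (ZMod (r ^ a))) →* _) (fun a b _ => Subsingleton.elim _ _) _ P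
    rw [hcard, Nat.card_of_subsingleton 1]; simp
  have hv := val_sl (F := F) hq hrq hn hn0
  rw [← hd, ← ha] at hv
  by_cases hd1 : d = 1
  · have hcnt : ((Finset.Icc 2 n).filter (fun i => d ∣ i)).card = n - 1 := by
      rw [hd1, Finset.filter_true_of_mem (fun _ _ => one_dvd _), Nat.card_Icc]; omega
    rw [hcnt]
    obtain ⟨k, rfl⟩ := Nat.exists_eq_add_of_le' hn0
    rw [Nat.add_sub_cancel]
    have ha1 : a = (q - 1).factorization r := by rw [ha, hd1, pow_one]
    obtain ⟨g, hg⟩ := H17.exists_orderOf_eq_card_units F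
    rw [Nat.card_eq_fintype_card, hq] at hg
    obtain ⟨c, hc⟩ : r ^ a ∣ q - 1 := by rw [ha1]; exact Nat.ordProj_dvd _ _
    have hc0 : c ≠ 0 := by rintro rfl; rw [mul_zero] at hc; omega
    have hx : orderOf (g ^ c) = r ^ a := by
      rw [orderOf_pow_of_dvd hc0 (by rw [hg, hc]; exact Dvd.intro_left _ rfl), hg, hc, Nat.mul_div_cancel _ (Nat.pos_of_ne_zero hc0)]
    let e : Multiplicative (ZMod (r ^ a)) ≃* Subgroup.zpowers (g ^ c) := mulEquivOfCyclicCardEq (by
      rw [Nat.card_zpowers, hx]; exact Nat.card_zmod _)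
    let D : (Fin k → Multiplicative (ZMod (r ^ a))) → (Fin (k + 1) → F) := fun y => Fin.cons (((∏ i, (e (y i) : Fˣ))⁻¹ : Fˣ) : F) (fun i => ((e (y i) : Fˣ) : F))
    have hD : ∀ y, ∏ i, D y i = 1 := by
      intro y
      rw [Fin.prod_univ_succ]
      show (((∏ i, (e (y i) : Fˣ))⁻¹ : Fˣ) : F) * ∏ i : Fin k, ((e (y i) : Fˣ) : F) = 1
      rw [← Units.coe_prod, ← Units.val_mul, inv_mul_cancel, Units.val_one]
    let f : (Fin k → Multiplicative (ZMod (r ^ a))) →* Matrix.SpecialLinearGroup (Fin (k + 1)) F :=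
      { toFun := fun y => ⟨diagonal (D y), by rw [det_diagonal, hD]⟩
        map_one' := by
          apply Subtype.ext
          show diagonal (D 1) = 1
          rw [← diagonal_one]
          congr 1
          funext i
          refine Fin.cases ?_ (fun j => ?_) i
          · show (((∏ i : Fin k, (e ((1 : Fin k → Multiplicative (ZMod (r ^ a))) i) : Fˣ))⁻¹ : Fˣ) : F) = 1
            simp
          · show ((e ((1 : Fin k → Multiplicative (ZMod (r ^ a))) j) : Fˣ) : F) = 1
            simp
        map_mul' := fun x y => by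
          apply Subtype.ext
          show diagonal (D (x * y)) = diagonal (D x) * diagonal (D y)
          rw [diagonal_mul_diagonal]
          congr 1
          funext i
          refine Fin.cases ?_ (fun j => ?_) i
          · show (((∏ i : Fin k, (e ((x * y) i) : Fˣ))⁻¹ : Fˣ) : F) = (((∏ i : Fin k, (e (x i) : Fˣ))⁻¹ : Fˣ) : F) * (((∏ i : Fin k, (e (y i) : Fˣ))⁻¹ : Fˣ) : F)
            rw [← Units.val_mul, ← mul_inv, ← Finset.prod_mul_distrib]
            simp
          · show ((e ((x * y) j) : Fˣ) : F) = ((e (x j) : Fˣ) : F) * ((e (y j) : Fˣ) : F)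
            simp }
    apply sylow_of_embed f _ _ P
    · intro x y hxy
      have h1 : diagonal (D x) = diagonal (D y) := congrArg Subtype.val hxy
      have h2 := diagonal_injective h1
      funext i
      have h3 := congrFun h2 i.succ
      exact e.injective (Subtype.ext (Units.ext h3))
    · rw [hcard]
      congr 1
      rw [hd1, Nat.div_one, ← ha1] at hv
      have h7 : (k + 1) * a = k * a + a := by ring
      have h8 : (Nat.card (Matrix.SpecialLinearGroup (Fin (k + 1)) F)).factorization r + a = (k + 1) * a := hv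
      omega
  · have hd2 : 2 ≤ d := by omega
    have hcnt : ((Finset.Icc 2 n).filter (fun i => d ∣ i)).card = n / d := by
      rw [← Nat.Ioc_filter_dvd_card_eq_div]
      congr 1
      ext i
      simp only [Finset.mem_filter, Finset.mem_Icc, Finset.mem_Ioc]
      constructor
      · rintro ⟨⟨h1, h2⟩, h3⟩; exact ⟨⟨by omega, h2⟩, h3⟩
      · rintro ⟨⟨h1, h2⟩, h3⟩
        have := Nat.le_of_dvd h1 h3
        exact ⟨⟨by omega, h2⟩, h3⟩
    have hnq : ¬ r ∣ q - 1 := by
      have h1 := dvd_iff (r := r) hq1 1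
      rw [pow_one] at h1
      rw [h1, ← hd, Nat.dvd_one]; exact hd1
    rw [Nat.factorization_eq_zero_of_not_dvd hnq, add_zero] at hv
    rw [hcnt]
    obtain ⟨f, hf⟩ := gl_embed (F := F) hq (k := n / d) (n := n) hd0 (Nat.div_mul_le_self n d) (pow_pos hr.out.pos a) (Nat.ordProj_dvd _ _)
    have hdet : ∀ y, f y ∈ (Matrix.SpecialLinearGroup.toGL : Matrix.SpecialLinearGroup (Fin n) F →* GL (Fin n) F).range := by
      intro y
      rw [H5.range_toGL, MonoidHom.mem_ker]
      have h1 : y ^ (r ^ a) = 1 := by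
        funext i
        rw [Pi.pow_apply, Pi.one_apply]
        have := pow_card_eq_one' (x := y i)
        have h2 : Nat.card (Multiplicative (ZMod (r ^ a))) = r ^ a := Nat.card_zmod _
        rwa [h2] at this
      have h3 : (GeneralLinearGroup.det (f y)) ^ (r ^ a) = 1 := by rw [← map_pow, ← map_pow, h1, map_one, map_one]
      have h4 : (GeneralLinearGroup.det (f y)) ^ (q - 1) = 1 := by
        have := pow_card_eq_one' (x := GeneralLinearGroup.det (f y))
        rwa [Nat.card_units, Nat.card_eq_fintype_card, hq] at this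
      have h5 : Nat.Coprime (r ^ a) (q - 1) := Nat.Coprime.pow_left _ ((Nat.Prime.coprime_iff_not_dvd hr.out).2 hnq)
      have h6 := Nat.dvd_gcd (orderOf_dvd_of_pow_eq_one h3) (orderOf_dvd_of_pow_eq_one h4)
      rw [h5, Nat.dvd_one, orderOf_eq_one_iff] at h6
      exact h6
    let f' : (Fin (n / d) → Multiplicative (ZMod (r ^ a))) →* Matrix.SpecialLinearGroup (Fin n) F :=
      ((MonoidHom.ofInjective (Matrix.SpecialLinearGroup.toGL_injective (n := Fin n) (R := F))).symm.toMonoidHom).comp (f.codRestrict _ hdet)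
    apply sylow_of_embed f' _ _ P
    · intro x y hxy
      have h1 := (MonoidHom.ofInjective (Matrix.SpecialLinearGroup.toGL_injective (n := Fin n) (R := F))).symm.injective hxy
      exact hf (congrArg Subtype.val h1)
    · rw [hcard, hv]

end gl

end Cfsg.Agent.H16.SylB
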