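import Mathlib
import Cfsg.Agent.H16.PGr
import Cfsg.Agent.H16.SylB

set_option autoImplicit false
set_option linter.all false

/-! Element orders `rs` in `PSL_n(q)`. -/

namespace Cfsg.Agent.H16.PGr

open Polynomial

variable {F : Type*} [Field F] [Fintype F] {m : Type*} [Fintype m] [DecidableEq m]

/-- the Frobenius exponent -/
noncomputable def qu (F : Type*) [Fintype F] (N : ℕ) (h : (Fintype.card F).Coprime N) : (ZMod N)ˣ := ZMod.unitOfCoprime (Fintype.card F) h

lemma orderOf_qu (N : ℕ) (h : (Fintype.card F).Coprime N) : orderOf (qu F N h) = orderOf ((Fintype.card F : ℕ) : ZMod N) := by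
  rw [← orderOf_units]; rfl

lemma ev_qu {x : Matrix m m F} {N : ℕ} [NeZero N] (h : (Fintype.card F).Coprime N) (w : AlgebraicClosure F) (hw : w ^ N = 1) (hx : Ev x w) :
    Ev x (w ^ (qu F N h : ZMod N).val) := by
  have h1 : (qu F N h : ZMod N).val = Fintype.card F % N := by
    unfold qu
    rw [ZMod.coe_unitOfCoprime, ZMod.val_natCast]
  rw [h1]
  have h2 : w ^ (Fintype.card F % N) = w ^ Fintype.card F := by
    conv_rhs => rw [← Nat.div_add_mod (Fintype.card F) N, pow_add, pow_mul, hw, one_pow, one_mul]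
  rw [h2]
  exact hx.pow_card

lemma card_zp {N : ℕ} (h : (Fintype.card F).Coprime N) : Nat.card (Subgroup.closure {qu F N h}) = orderOf ((Fintype.card F : ℕ) : ZMod N) := by
  rw [← Subgroup.zpowers_eq_closure, Nat.card_zpowers, orderOf_qu]

theorem sl1 {x : Matrix m m F} {N : ℕ} [NeZero N] (h : (Fintype.card F).Coprime N) {z : AlgebraicClosure F} (hz : orderOf z = N) (hx : Ev x z) :
    orderOf ((Fintype.card F : ℕ) : ZMod N) ≤ Fintype.card m := by
  rw [← card_zp h, ← card_orb hz]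
  apply Ev.card_le (x := x)
  intro w hw
  apply ev_orb hz _ _ hx hw
  rintro u rfl w hw hx
  exact ev_qu h w hw hx

theorem sl2 {x : Matrix m m F} {N M : ℕ} [NeZero N] [NeZero M] (h : (Fintype.card F).Coprime N) (h' : (Fintype.card F).Coprime M)
    {z w : AlgebraicClosure F} (hz : orderOf z = N) (hw : orderOf w = M) (hx : Ev x z) (hy : Ev x w) (hNM : N ≠ M) :
    orderOf ((Fintype.card F : ℕ) : ZMod N) + orderOf ((Fintype.card F : ℕ) : ZMod M) ≤ Fintype.card m := by
  classical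
  rw [← card_zp h, ← card_zp h', ← card_orb hz, ← card_orb hw, ← Finset.card_union_of_disjoint]
  · apply Ev.card_le (x := x)
    intro v hv
    rw [Finset.mem_union] at hv
    rcases hv with hv | hv
    · apply ev_orb hz _ _ hx hv
      rintro u rfl w hw hx
      exact ev_qu h w hw hx
    · apply ev_orb hw _ _ hy hv
      rintro u rfl w hw hx
      exact ev_qu h' w hw hx
  · rw [Finset.disjoint_left]
    intro v hv hv'
    exact hNM ((orderOf_orb hz hv).symm.trans (orderOf_orb hw hv'))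

lemma coprime_of_ne {p r : ℕ} [Fact p.Prime] [CharP F p] (hr : r.Prime) (hrp : r ≠ p) : (Fintype.card F).Coprime r := by
  obtain ⟨e, _, he⟩ := FiniteField.card F p
  rw [he]
  exact Nat.Coprime.pow_left _ ((Nat.coprime_primes Fact.out hr).2 (Ne.symm hrp))

lemma cast_ne {p r : ℕ} [Fact p.Prime] [CharP F p] (hr : r.Prime) (hrp : r ≠ p) : (r : F) ≠ 0 := by
  intro h
  rw [CharP.cast_eq_zero_iff F p] at h
  exact hrp ((Nat.prime_dvd_prime_iff_eq Fact.out hr).1 h).symm

lemma ord_dvd_ord {N r q : ℕ} (h : r ∣ N) : orderOf ((q : ℕ) : ZMod r) ∣ orderOf ((q : ℕ) : ZMod N) := by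
  rw [orderOf_dvd_iff_pow_eq_one]
  have h1 := pow_orderOf_eq_one ((q : ℕ) : ZMod N)
  have h2 := congrArg (ZMod.castHom h (ZMod r)) h1
  rwa [map_pow, map_natCast, map_one] at h2

/-- order of an eigenvalue of a matrix of order dividing `rs` -/
lemma ev_cases {r s : ℕ} (hr : r.Prime) (hs : s.Prime) (hrs : r ≠ s) {z : AlgebraicClosure F} (h : z ^ (r * s) = 1) (h2 : z ^ r ≠ 1) :
    orderOf z = s ∨ orderOf z = r * s := by
  have h3 : orderOf z ∣ r * s := orderOf_dvd_of_pow_eq_one h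
  have h4 : s ∣ orderOf z := by
    by_contra hcon
    have h5 : (orderOf z).Coprime s := ((Nat.Prime.coprime_iff_not_dvd hs).2 hcon).symm
    have h6 : orderOf z ∣ r := h5.dvd_of_dvd_mul_right h3
    exact h2 (orderOf_dvd_iff_pow_eq_one.1 h6)
  obtain ⟨c, hc⟩ := h4
  rw [hc, mul_comm r s] at h3
  have h5 : c ∣ r := Nat.dvd_of_mul_dvd_mul_left hs.pos h3
  rcases (Nat.dvd_prime hr).1 h5 with rfl | rfl
  · left; rw [hc, mul_one]
  · right; rw [hc, mul_comm]

theorem rs_bound {p : ℕ} [Fact p.Prime] [CharP F p] {x : Matrix m m F} {r s : ℕ} (hr : r.Prime) (hs : s.Prime) (hrs : r ≠ s) (hrp : r ≠ p) (hsp : s ≠ p)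
    (hx : x ^ (r * s) = 1) (hxr : x ^ r ≠ 1) (hxs : x ^ s ≠ 1)
    {k l : ℕ} (hk : k = orderOf ((Fintype.card F : ℕ) : ZMod r)) (hl : l = orderOf ((Fintype.card F : ℕ) : ZMod s)) (hkl : k ≤ l) :
    k + l ≤ Fintype.card m ∨ k ∣ l := by
  haveI : NeZero r := ⟨hr.ne_zero⟩
  haveI : NeZero s := ⟨hs.ne_zero⟩
  haveI : NeZero (r * s) := ⟨mul_ne_zero hr.ne_zero hs.ne_zero⟩
  have hN : ((r * s : ℕ) : F) ≠ 0 := by
    push_cast
    exact mul_ne_zero (cast_ne hr hrp) (cast_ne hs hsp)
  have hcop : (Fintype.card F).Coprime (r * s) := (coprime_of_ne hr hrp).mul_right (coprime_of_ne hs hsp)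
  have hq1 : 1 < Fintype.card F := Fintype.one_lt_card
  have hkpos : 0 < k := by
    rw [hk, ← orderOf_qu r (coprime_of_ne hr hrp)]; exact orderOf_pos _
  have hlpos : 0 < l := by
    rw [hl, ← orderOf_qu s (coprime_of_ne hs hsp)]; exact orderOf_pos _
  have hrsord : ∀ z : AlgebraicClosure F, Ev x z → orderOf z = r * s → k + l ≤ Fintype.card m ∨ k ∣ l := by
    intro z hz ho
    by_cases hd : k ∣ l
    · exact Or.inr hd
    · left
      refine le_trans ?_ (sl1 hcop ho hz)
      have h1 : k ∣ orderOf ((Fintype.card F : ℕ) : ZMod (r * s)) := by rw [hk]; exact ord_dvd_ord (Dvd.intro _ rfl)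
      have h2 : l ∣ orderOf ((Fintype.card F : ℕ) : ZMod (r * s)) := by rw [hl]; exact ord_dvd_ord (Dvd.intro_left _ rfl)
      have h3 : 0 < orderOf ((Fintype.card F : ℕ) : ZMod (r * s)) := by
        rw [← orderOf_qu _ hcop]; exact orderOf_pos _
      obtain ⟨c, hc⟩ := h2
      have hc2 : 2 ≤ c := by
        by_contra hcon
        have : c = 0 ∨ c = 1 := by omega
        rcases this with rfl | rfl
        · rw [mul_zero] at hc; omega
        · rw [mul_one] at hc; rw [hc] at h1; exact hd h1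
      rw [hc]
      nlinarith
  obtain ⟨z, hz, hzr⟩ : ∃ z : AlgebraicClosure F, Ev x z ∧ z ^ r ≠ 1 := by
    by_contra hcon
    push Not at hcon
    exact hxr (pow_eq_one_of_ev hN hx hcon hr.ne_zero)
  obtain ⟨w, hw, hws⟩ : ∃ z : AlgebraicClosure F, Ev x z ∧ z ^ s ≠ 1 := by
    by_contra hcon
    push Not at hcon
    exact hxs (pow_eq_one_of_ev hN hx hcon hs.ne_zero)
  rcases ev_cases hr hs hrs (hz.pow_one hx) hzr with h1 | h1
  · rcases ev_cases hs hr hrs.symm (by rw [mul_comm]; exact hw.pow_one hx) hws with h2 | h2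
    · left
      rw [hk, hl]
      exact sl2 (coprime_of_ne hr hrp) (coprime_of_ne hs hsp) h2 h1 hw hz hrs
    · exact hrsord w hw (by rw [h2, mul_comm])
  · exact hrsord z hz h1

end Cfsg.Agent.H16.PGr
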