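import Mathlib
import Cfsg.Agent.H16.PGr2

set_option autoImplicit false
set_option linter.all false

/-! Element orders `rs` and `rp` in `PSL_n(q)`. -/

namespace Cfsg.Agent.H16.PGr

open Polynomial Module

variable {F : Type*} [Field F] [Fintype F]

lemma center_pow {n : ℕ} (hn : 1 ≤ n) {z : Matrix.SpecialLinearGroup (Fin n) F} (hz : z ∈ Subgroup.center (Matrix.SpecialLinearGroup (Fin n) F)) :
    z ^ (Fintype.card F - 1) = 1 := by
  obtain ⟨c, hc, hcz⟩ := Matrix.SpecialLinearGroup.mem_center_iff.1 hz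
  apply Subtype.ext
  rw [Matrix.SpecialLinearGroup.coe_pow, ← hcz, ← map_pow, Matrix.SpecialLinearGroup.coe_one]
  have hc0 : c ≠ 0 := by
    rintro rfl
    rw [zero_pow (by rw [Fintype.card_fin]; omega)] at hc
    exact zero_ne_one hc
  rw [FiniteField.pow_card_sub_one_eq_one c hc0, map_one]

lemma mk_pow_eq_one_iff {n : ℕ} {x : Matrix.SpecialLinearGroup (Fin n) F} {j : ℕ} :
    ((x : Matrix.ProjectiveSpecialLinearGroup (Fin n) F)) ^ j = 1 ↔ x ^ j ∈ Subgroup.center (Matrix.SpecialLinearGroup (Fin n) F) := by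
  rw [← QuotientGroup.mk_pow]
  exact QuotientGroup.eq_one_iff _

lemma orderOf_mk {n : ℕ} (hn : 1 ≤ n) {x : Matrix.SpecialLinearGroup (Fin n) F} (h : (orderOf x).Coprime (Fintype.card F - 1)) :
    orderOf ((x : Matrix.ProjectiveSpecialLinearGroup (Fin n) F)) = orderOf x := by
  apply Nat.dvd_antisymm
  · apply orderOf_dvd_of_pow_eq_one
    rw [← QuotientGroup.mk_pow, pow_orderOf_eq_one]; rfl
  · have h1 : ((x : Matrix.ProjectiveSpecialLinearGroup (Fin n) F)) ^ (orderOf ((x : Matrix.ProjectiveSpecialLinearGroup (Fin n) F))) = 1 := pow_orderOf_eq_one _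
    rw [mk_pow_eq_one_iff] at h1
    have h2 := center_pow hn h1
    rw [← pow_mul] at h2
    exact h.dvd_of_dvd_mul_right (orderOf_dvd_of_pow_eq_one h2)

theorem exists_sl_of_unit {A : Type*} [Ring A] [Algebra F A] [FiniteDimensional F A] {n N : ℕ} (hA : finrank F A = n) (u : Aˣ)
    (hu : orderOf u = N) (hN : N.Coprime (Fintype.card F - 1)) : ∃ x : Matrix.SpecialLinearGroup (Fin n) F, orderOf x = N := by
  obtain ⟨φ, hφ⟩ := H17.exists_unitsHom_gl hA
  have h1 : (Matrix.GeneralLinearGroup.det (φ u)) ^ N = 1 := by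
    rw [← map_pow, ← map_pow, ← hu, pow_orderOf_eq_one, map_one, map_one]
  have h2 : (Matrix.GeneralLinearGroup.det (φ u)) ^ (Fintype.card F - 1) = 1 := by
    have := pow_card_eq_one' (x := Matrix.GeneralLinearGroup.det (φ u))
    rwa [Nat.card_units, Nat.card_eq_fintype_card] at this
  have h3 := Nat.dvd_gcd (orderOf_dvd_of_pow_eq_one h1) (orderOf_dvd_of_pow_eq_one h2)
  rw [hN, Nat.dvd_one, orderOf_eq_one_iff] at h3
  have h4 : φ u ∈ (Matrix.SpecialLinearGroup.toGL : Matrix.SpecialLinearGroup (Fin n) F →* GL (Fin n) F).range := by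
    rw [H5.range_toGL, MonoidHom.mem_ker]; exact h3
  obtain ⟨x, hx⟩ := h4
  refine ⟨x, ?_⟩
  rw [← orderOf_injective _ (Matrix.SpecialLinearGroup.toGL_injective (n := Fin n) (R := F)) x, hx, orderOf_injective _ hφ, hu]

theorem exists_field_unit {d N : ℕ} (hd : d ≠ 0) (hN0 : N ≠ 0) (hN : N ∣ Fintype.card F ^ d - 1) :
    ∃ (E : Type) (_ : Field E) (_ : Finite E) (_ : Algebra F E), finrank F E = d ∧ ∃ u : Eˣ, orderOf u = N := by
  obtain ⟨E, i1, i2, i3, hE⟩ := H17.exists_extension (F := F) d hd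
  refine ⟨E, i1, i2, i3, hE, ?_⟩
  haveI : FiniteDimensional F E := Module.Finite.of_finite
  obtain ⟨g, hg⟩ := H17.exists_orderOf_eq_card_units E
  have hEc : Nat.card E = Fintype.card F ^ d := by
    rw [Module.natCard_eq_pow_finrank (K := F) (V := E), hE, Nat.card_eq_fintype_card]
  rw [hEc] at hg
  obtain ⟨c, hc⟩ := hN
  have hgpos : 0 < Fintype.card F ^ d - 1 := by rw [← hg]; exact orderOf_pos _
  have hc0 : c ≠ 0 := by rintro rfl; rw [mul_zero] at hc; omega
  exact ⟨g ^ c, by rw [orderOf_pow_of_dvd hc0 (by rw [hg, hc]; exact Dvd.intro_left _ rfl), hg, hc, Nat.mul_div_cancel _ (Nat.pos_of_ne_zero hc0)]⟩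

/-- lift of an element of `PSL` of order coprime to `q-1` -/
lemma exists_lift {n N : ℕ} (hn : 1 ≤ n) {g : Matrix.ProjectiveSpecialLinearGroup (Fin n) F} (hg : orderOf g = N) (hN : N.Coprime (Fintype.card F - 1)) :
    ∃ x : Matrix.SpecialLinearGroup (Fin n) F, orderOf x = N := by
  obtain ⟨x, rfl⟩ := QuotientGroup.mk_surjective g
  refine ⟨x ^ (Fintype.card F - 1), ?_⟩
  apply Nat.dvd_antisymm
  · apply orderOf_dvd_of_pow_eq_one
    rw [← pow_mul, mul_comm, pow_mul]
    apply center_pow hn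
    rw [← mk_pow_eq_one_iff, ← hg]
    exact pow_orderOf_eq_one _
  · rw [← hg]
    have h2 : (orderOf ((QuotientGroup.mk x : Matrix.ProjectiveSpecialLinearGroup (Fin n) F))) ∣ (Fintype.card F - 1) * orderOf (x ^ (Fintype.card F - 1)) := by
      apply orderOf_dvd_of_pow_eq_one
      rw [pow_mul, ← QuotientGroup.mk_pow, ← QuotientGroup.mk_pow, pow_orderOf_eq_one]; rfl
    rw [← hg] at hN
    exact hN.dvd_of_dvd_mul_left h2

lemma ord_ne_one {r : ℕ} (hr : r.Prime) {k : ℕ} (hk : k = orderOf ((Fintype.card F : ℕ) : ZMod r)) (h2k : 2 ≤ k) : r.Coprime (Fintype.card F - 1) := by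
  haveI : Fact r.Prime := ⟨hr⟩
  rw [Nat.Prime.coprime_iff_not_dvd hr]
  intro h
  have h1 := SylB.dvd_iff (r := r) (Fintype.one_lt_card (α := F)) 1
  rw [pow_one, ← hk, Nat.dvd_one] at h1
  have := h1.1 h
  omega

/-- a prime divisor of the order of `PSL_n(q)` has order of `q` at most `n` -/
lemma ord_le_n {p n r : ℕ} [Fact p.Prime] [CharP F p] (hn : 1 ≤ n) (hr : r.Prime) (hrp : r ≠ p)
    (hrG : r ∣ Nat.card (Matrix.ProjectiveSpecialLinearGroup (Fin n) F)) {k : ℕ} (hk : k = orderOf ((Fintype.card F : ℕ) : ZMod r)) : k ≤ n := by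
  haveI : Fact r.Prime := ⟨hr⟩
  haveI : NeZero r := ⟨hr.ne_zero⟩
  by_cases h2k : k ≤ 1
  · omega
  push Not at h2k
  obtain ⟨g, hg⟩ := exists_prime_orderOf_dvd_card' r hrG
  obtain ⟨x, hx⟩ := exists_lift hn hg (ord_ne_one hr hk h2k)
  have hx1 : (x : Matrix (Fin n) (Fin n) F) ^ r = 1 := by
    rw [← Matrix.SpecialLinearGroup.coe_pow, ← hx, pow_orderOf_eq_one, Matrix.SpecialLinearGroup.coe_one]
  obtain ⟨z, hz, hzr⟩ : ∃ z : AlgebraicClosure F, Ev (x : Matrix (Fin n) (Fin n) F) z ∧ z ^ 1 ≠ 1 := by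
    by_contra hcon
    push Not at hcon
    have h1 := pow_eq_one_of_ev (cast_ne hr hrp) hx1 hcon one_ne_zero
    rw [pow_one] at h1
    have h2 : x = 1 := Subtype.ext (by rw [h1, Matrix.SpecialLinearGroup.coe_one])
    rw [h2, orderOf_one] at hx
    exact hr.one_lt.ne hx
  rw [pow_one] at hzr
  have ho : orderOf z = r := orderOf_eq_prime (hz.pow_one hx1) hzr
  have := sl1 (coprime_of_ne hr hrp) ho hz
  rwa [← hk, Fintype.card_fin] at this

theorem psl_rs (p : ℕ) [Fact p.Prime] [CharP F p] (n : ℕ) (hn : 2 ≤ n)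
    (r s : ℕ) (hr : r.Prime) (hs : s.Prime) (hrp : r ≠ p) (hsp : s ≠ p) (hrs : r ≠ s)
    (hrG : r ∣ Nat.card (Matrix.ProjectiveSpecialLinearGroup (Fin n) F)) (hsG : s ∣ Nat.card (Matrix.ProjectiveSpecialLinearGroup (Fin n) F))
    (k l : ℕ) (hk : k = orderOf ((Fintype.card F : ℕ) : ZMod r)) (hl : l = orderOf ((Fintype.card F : ℕ) : ZMod s))
    (h2k : 2 ≤ k) (hkl : k ≤ l) :
    (r * s ∉ Set.range (orderOf : Matrix.ProjectiveSpecialLinearGroup (Fin n) F → ℕ)) ↔ (n < k + l ∧ ¬ k ∣ l) := by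
  haveI : Fact r.Prime := ⟨hr⟩
  haveI : Fact s.Prime := ⟨hs⟩
  have hn1 : 1 ≤ n := by omega
  have hq1 : 1 < Fintype.card F := Fintype.one_lt_card
  have hcop : (r * s).Coprime (Fintype.card F - 1) := (ord_ne_one hr hk h2k).mul_left (ord_ne_one hs hl (h2k.trans hkl))
  have hrs0 : r * s ≠ 0 := mul_ne_zero hr.ne_zero hs.ne_zero
  have hrs' : Nat.Coprime r s := (Nat.coprime_primes hr hs).2 hrs
  constructor
  · intro hno
    by_contra hcon
    apply hno
    suffices ∃ x : Matrix.SpecialLinearGroup (Fin n) F, orderOf x = r * s by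
      obtain ⟨x, hx⟩ := this
      exact ⟨x, by rw [orderOf_mk hn1 (by rw [hx]; exact hcop), hx]⟩
    have hrk : r ∣ Fintype.card F ^ k - 1 := by rw [SylB.dvd_iff hq1, ← hk]
    have hsl : s ∣ Fintype.card F ^ l - 1 := by rw [SylB.dvd_iff hq1, ← hl]
    by_cases hd : k ∣ l
    · have hln : l ≤ n := ord_le_n hn1 hs hsp hsG hl
      have hrl : r ∣ Fintype.card F ^ l - 1 := by rw [SylB.dvd_iff hq1, ← hk]; exact hd
      obtain ⟨E, i1, i2, i3, hE, u, hu⟩ := exists_field_unit (F := F) (d := l) (by omega) hrs0 (hrs'.mul_dvd_of_dvd_of_dvd hrl hsl)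
      haveI : FiniteDimensional F E := Module.Finite.of_finite
      apply exists_sl_of_unit (A := E × (Fin (n - l) → F)) _ (MulEquiv.prodUnits.symm (u, 1)) _ hcop
      · rw [Module.finrank_prod, hE, Module.finrank_fin_fun]; omega
      · rw [MulEquiv.orderOf_eq, Prod.orderOf_mk, hu, orderOf_one, Nat.lcm_one_right]
    · have hkln : k + l ≤ n := by
        by_contra h; exact hcon ⟨by omega, hd⟩
      obtain ⟨E, i1, i2, i3, hE, u, hu⟩ := exists_field_unit (F := F) (d := k) (by omega) hr.ne_zero hrk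
      obtain ⟨E', j1, j2, j3, hE', v, hv⟩ := exists_field_unit (F := F) (d := l) (by omega) hs.ne_zero hsl
      haveI : FiniteDimensional F E := Module.Finite.of_finite
      haveI : FiniteDimensional F E' := Module.Finite.of_finite
      apply exists_sl_of_unit (A := E × (E' × (Fin (n - k - l) → F))) _ (MulEquiv.prodUnits.symm (u, MulEquiv.prodUnits.symm (v, 1))) _ hcop
      · rw [Module.finrank_prod, Module.finrank_prod, hE, hE', Module.finrank_fin_fun]; omega
      · rw [MulEquiv.orderOf_eq, Prod.orderOf_mk, MulEquiv.orderOf_eq, Prod.orderOf_mk, hu, hv, orderOf_one, Nat.lcm_one_right]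
        exact hrs'.lcm_eq_mul
  · rintro ⟨h1, h2⟩ ⟨g, hg⟩
    obtain ⟨x, hx⟩ := exists_lift hn1 hg hcop
    have hpow : ∀ j, (x : Matrix (Fin n) (Fin n) F) ^ j = 1 ↔ r * s ∣ j := by
      intro j
      rw [← Matrix.SpecialLinearGroup.coe_pow, ← hx, orderOf_dvd_iff_pow_eq_one]
      constructor
      · intro h; exact Subtype.ext (by rw [h, Matrix.SpecialLinearGroup.coe_one])
      · intro h; rw [h, Matrix.SpecialLinearGroup.coe_one]
    rcases rs_bound (x := (x : Matrix (Fin n) (Fin n) F)) hr hs hrs hrp hsp ((hpow _).2 dvd_rfl)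
      (fun h => by
        have := Nat.le_of_dvd hr.pos ((hpow _).1 h)
        have h5 := hs.two_le
        have h6 := hr.pos
        nlinarith)
      (fun h => by
        have := Nat.le_of_dvd hs.pos ((hpow _).1 h)
        have h5 := hr.two_le
        have h6 := hs.pos
        nlinarith) hk hl hkl with h | h
    · rw [Fintype.card_fin] at h; omega
    · exact h2 h

end Cfsg.Agent.H16.PGr
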