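import Mathlib
import Cfsg.Agent.H16.PGr3

set_option autoImplicit false
set_option linter.all false

/-! Multiplicities of eigenvalues. -/

namespace Cfsg.Agent.H16.PGr

open Polynomial Module

section mult
variable {F : Type*} [Field F] [Fintype F] {m : Type*} [Fintype m] [DecidableEq m]

/-- the characteristic polynomial over the closure -/
noncomputable def cK (x : Matrix m m F) : (AlgebraicClosure F)[X] := x.charpoly.map (algebraMap F (AlgebraicClosure F))

lemma cK_ne (x : Matrix m m F) : cK x ≠ 0 := (x.charpoly_monic.map _).ne_zero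

lemma cK_monic (x : Matrix m m F) : (cK x).Monic := x.charpoly_monic.map _

lemma ev_iff {x : Matrix m m F} {z : AlgebraicClosure F} : Ev x z ↔ z ∈ (cK x).roots := by
  rw [mem_roots (cK_ne x), IsRoot, cK, eval_map_algebraMap]; rfl

/-- multiplicity -/
noncomputable def Mu (x : Matrix m m F) (z : AlgebraicClosure F) : ℕ := rootMultiplicity z (cK x)

lemma Mu_frob (x : Matrix m m F) (z : AlgebraicClosure F) : Mu x (z ^ Fintype.card F) = Mu x z := by
  have h1 := eq_rootMultiplicity_map (p := cK x) (f := (FiniteField.frobeniusAlgHom F (AlgebraicClosure F) : AlgebraicClosure F →+* AlgebraicClosure F))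
    (RingHom.injective _) z
  have h2 : (cK x).map (FiniteField.frobeniusAlgHom F (AlgebraicClosure F) : AlgebraicClosure F →+* AlgebraicClosure F) = cK x := by
    unfold cK
    rw [map_map]
    congr 1
    exact AlgHom.comp_algebraMap _
  rw [h2] at h1
  unfold Mu
  rw [h1]
  congr 1

lemma Mu_pos {x : Matrix m m F} {z : AlgebraicClosure F} : Ev x z ↔ 1 ≤ Mu x z := by
  classical
  rw [ev_iff, ← Multiset.count_pos, count_roots]; rfl

lemma sum_Mu_le (x : Matrix m m F) (S : Finset (AlgebraicClosure F)) : ∑ z ∈ S, Mu x z ≤ Fintype.card m := by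
  classical
  have h1 : ∑ z ∈ S ∪ (cK x).roots.toFinset, Multiset.count z (cK x).roots = Multiset.card (cK x).roots :=
    Multiset.sum_count_eq_card (fun a ha => Finset.mem_union_right _ (Multiset.mem_toFinset.2 ha))
  have h2 : ∑ z ∈ S, Mu x z ≤ ∑ z ∈ S ∪ (cK x).roots.toFinset, Multiset.count z (cK x).roots := by
    apply (Finset.sum_le_sum_of_subset Finset.subset_union_left).trans'
    apply le_of_eq
    apply Finset.sum_congr rfl
    intro z _
    rw [count_roots]; rfl
  have h3 := card_roots' (cK x)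
  rw [cK, natDegree_map, Matrix.charpoly_natDegree_eq_dim] at h3
  exact h2.trans (h1.le.trans h3)

/-- if all multiplicities are at most one -/
lemma pow_one_of_Mu {x : Matrix m m F} {d : ℕ} (hd : d ≠ 0) (h : ∀ z, Mu x z ≤ 1) (h1 : ∀ z, Ev x z → z ^ d = 1) : x ^ d = 1 := by
  classical
  have hnd : (cK x).roots.Nodup := by
    rw [Multiset.nodup_iff_count_le_one]
    intro a
    rw [count_roots]; exact h a
  apply pow_eq_one_of_card hd (S := (cK x).roots.toFinset)
  · intro z hz
    rw [Multiset.mem_toFinset] at hz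
    exact ev_iff.2 hz
  · intro z hz
    rw [Multiset.mem_toFinset] at hz
    exact h1 z (ev_iff.2 hz)
  · rw [Multiset.toFinset_card_of_nodup hnd]
    have h3 := (IsAlgClosed.splits (cK x)).natDegree_eq_card_roots
    rw [← h3, cK, natDegree_map, Matrix.charpoly_natDegree_eq_dim]

/-- polynomials vanishing at all eigenvalues -/
lemma aeval_pow_of_ev {x : Matrix m m F} {g : F[X]} (h : ∀ z : AlgebraicClosure F, Ev x z → aeval z g = 0) : (aeval x g) ^ (Fintype.card m) = 0 := by
  have h1 : x.charpoly ∣ g ^ (Fintype.card m) := by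
    rw [← Polynomial.map_dvd_map' (algebraMap F (AlgebraicClosure F))]
    have h2 := (IsAlgClosed.splits (cK x)).eq_prod_roots_of_monic (cK_monic x)
    have h3 : Multiset.card (cK x).roots = Fintype.card m := by
      rw [← (IsAlgClosed.splits (cK x)).natDegree_eq_card_roots, cK, natDegree_map, Matrix.charpoly_natDegree_eq_dim]
    change cK x ∣ _
    rw [h2, Polynomial.map_pow, ← h3, ← Multiset.prod_replicate, ← Multiset.map_const]
    apply Multiset.prod_dvd_prod_of_dvd
    intro z hz
    rw [dvd_iff_isRoot, IsRoot]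
    show eval z (Function.const _ _ z) = 0
    rw [Function.const_apply, eval_map_algebraMap]
    exact h z (ev_iff.2 hz)
  obtain ⟨c, hc⟩ := h1
  rw [← map_pow, hc, map_mul, Matrix.aeval_self_charpoly, zero_mul]

/-- if all eigenvalues satisfy `z ^ d = c` then `x ^ d` is a scalar times a unipotent -/
lemma exists_pow_of_ev {p : ℕ} [Fact p.Prime] [CharP F p] {x : Matrix m m F} {d : ℕ} {c : F}
    (h : ∀ z : AlgebraicClosure F, Ev x z → z ^ d = algebraMap F (AlgebraicClosure F) c) : ∃ a : ℕ, x ^ (d * p ^ a) = Matrix.scalar m (c ^ p ^ a) := by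
  rcases isEmpty_or_nonempty m with hm | hm
  · exact ⟨0, Subsingleton.elim _ _⟩
  have h1 := aeval_pow_of_ev (x := x) (g := X ^ d - C c) (fun z hz => by simp [h z hz])
  refine ⟨Fintype.card m, ?_⟩
  have h2 : aeval x (X ^ d - C c : F[X]) = x ^ d - Matrix.scalar m c := by
    rw [map_sub, map_pow, aeval_X, aeval_C]; rfl
  rw [h2] at h1
  have h3 : (x ^ d - Matrix.scalar m c) ^ (p ^ Fintype.card m) = 0 := by
    have hlt : Fintype.card m ≤ p ^ Fintype.card m := (Nat.lt_pow_self (Fact.out : p.Prime).one_lt).le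
    rw [← Nat.sub_add_cancel hlt, pow_add, h1, mul_zero]
  have hcomm : Commute (x ^ d) (Matrix.scalar m c) := (Matrix.scalar_commute c (fun r => Commute.all _ _) _).symm
  rw [sub_pow_char_pow_of_commute p _ hcomm, sub_eq_zero, ← pow_mul, ← map_pow] at h3
  exact h3

/-- propagate a predicate along an orbit -/
lemma pred_orb (P : AlgebraicClosure F → Prop) {N : ℕ} [NeZero N] {z : AlgebraicClosure F} (hz : orderOf z = N) (T : Set (ZMod N)ˣ)
    (hT : ∀ u ∈ T, ∀ w : AlgebraicClosure F, w ^ N = 1 → P w → P (w ^ (u : ZMod N).val)) (hx : P z)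
    {w : AlgebraicClosure F} (hw : w ∈ orb N z (Subgroup.closure T)) : P w := by
  classical
  unfold orb at hw
  rw [Finset.mem_image] at hw
  obtain ⟨u, hu, rfl⟩ := hw
  rw [Finset.mem_filter] at hu
  have hpow : ∀ w : AlgebraicClosure F, w ^ N = 1 → ∀ a b : ZMod N, (w ^ a.val) ^ b.val = w ^ (a * b).val := by
    intro w hw a b
    rw [← pow_mul, ZMod.val_mul]
    conv_lhs => rw [← Nat.div_add_mod (a.val * b.val) N, pow_add, pow_mul, hw, one_pow, one_mul]
  have key : ∀ u ∈ Submonoid.closure T, ∀ w : AlgebraicClosure F, w ^ N = 1 → P w → P (w ^ (u : ZMod N).val) := by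
    intro u hu
    induction hu using Submonoid.closure_induction with
    | mem u hu => exact hT u hu
    | one =>
      intro w hw h
      have h1 : w ^ ((1 : (ZMod N)ˣ) : ZMod N).val = w := by
        rw [Units.val_one]
        rcases Nat.lt_or_ge 1 N with h1 | h1
        · haveI : Fact (1 < N) := ⟨h1⟩
          rw [ZMod.val_one, _root_.pow_one]
        · have hN1 : N = 1 := le_antisymm h1 (NeZero.pos N)
          subst hN1
          rw [_root_.pow_one] at hw
          rw [hw, one_pow]
      rw [h1]; exact h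
    | mul a b _ _ ha hb =>
      intro w hw h
      rw [Units.val_mul, ← hpow w hw]
      apply hb _ _ (ha w hw h)
      rw [← pow_mul, mul_comm, pow_mul, hw, one_pow]
  have hcl : (Subgroup.closure T).toSubmonoid = Submonoid.closure T := Subgroup.closure_toSubmonoid_of_finite
  have hu2 : u ∈ Submonoid.closure T := by rw [← hcl]; exact hu.2
  exact key u hu2 z (by rw [← hz]; exact pow_orderOf_eq_one z) hx

lemma pred_qu {x : Matrix m m F} {N c : ℕ} [NeZero N] (h : (Fintype.card F).Coprime N) (w : AlgebraicClosure F) (hw : w ^ N = 1) (hx : c ≤ Mu x w) :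
    c ≤ Mu x (w ^ (qu F N h : ZMod N).val) := by
  have h1 : (qu F N h : ZMod N).val = Fintype.card F % N := by
    unfold qu
    rw [ZMod.coe_unitOfCoprime, ZMod.val_natCast]
  rw [h1]
  have h2 : w ^ (Fintype.card F % N) = w ^ Fintype.card F := by
    conv_rhs => rw [← Nat.div_add_mod (Fintype.card F) N, pow_add, pow_mul, hw, one_pow, one_mul]
  rw [h2, Mu_frob]
  exact hx

/-- an element of order `rp`: general multiplicity bound. `H` is the group of exponents. -/
theorem rp_bound {p : ℕ} [Fact p.Prime] [CharP F p] {x : Matrix m m F} {r : ℕ} [Fact r.Prime] (hrp : r ≠ p) (hx : x ^ (r * p) = 1) (hxr : x ^ r ≠ 1) (hxp : x ^ p ≠ 1)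
    (T : Set (ZMod r)ˣ)
    (hT : ∀ c : ℕ, ∀ u ∈ T, ∀ w : AlgebraicClosure F, w ^ r = 1 → c ≤ Mu x w → c ≤ Mu x (w ^ (u : ZMod r).val)) :
    2 * Nat.card (Subgroup.closure T) ≤ Fintype.card m ∨ Nat.card (Subgroup.closure T) + 2 ≤ Fintype.card m := by
  classical
  have hr : r.Prime := Fact.out
  have hp : p.Prime := Fact.out
  haveI : NeZero r := ⟨hr.ne_zero⟩
  have hevr : ∀ z, Ev x z → z ^ r = 1 := by
    intro z hz
    have h1 := hz.pow_one hx
    rw [pow_mul] at h1
    haveI : CharP (AlgebraicClosure F) p := charP_of_injective_algebraMap (algebraMap F (AlgebraicClosure F)).injective p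
    have h2 : (z ^ r - 1) ^ p = 0 := by
      rw [sub_pow_char, h1, one_pow, sub_self]
    exact sub_eq_zero.1 (pow_eq_zero_iff hp.ne_zero |>.1 h2)
  -- an eigenvalue of multiplicity at least two
  obtain ⟨w, hw⟩ : ∃ w, 2 ≤ Mu x w := by
    by_contra hcon
    push Not at hcon
    exact hxr (pow_one_of_Mu hr.ne_zero (fun z => by have := hcon z; omega) hevr)
  -- a nontrivial eigenvalue
  obtain ⟨z, hz, hz1⟩ : ∃ z, Ev x z ∧ z ≠ 1 := by
    by_contra hcon
    push Not at hcon
    obtain ⟨a, ha⟩ := exists_pow_of_ev (p := p) (x := x) (d := 1) (c := 1) (fun z hz => by rw [hcon z hz, one_pow, map_one])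
    rw [one_mul, one_pow, map_one] at ha
    have h1 : orderOf x ∣ p ^ a := orderOf_dvd_of_pow_eq_one ha
    have h2 : orderOf x ∣ r * p := orderOf_dvd_of_pow_eq_one hx
    have h3 : orderOf x ∣ p := by
      apply Nat.Coprime.dvd_of_dvd_mul_left _ h2
      exact Nat.Coprime.coprime_dvd_left h1 (Nat.Coprime.pow_left _ ((Nat.coprime_primes hp hr).2 hrp.symm))
    exact hxp (orderOf_dvd_iff_pow_eq_one.1 h3)
  have ho : orderOf z = r := orderOf_eq_prime (hevr z hz) hz1
  by_cases hw1 : w = 1
  · right
    have h1 : ∀ v ∈ orb r z (Subgroup.closure T), 1 ≤ Mu x v := by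
      intro v hv
      exact pred_orb (fun v => 1 ≤ Mu x v) ho T (fun u hu w hw h => hT 1 u hu w hw h) (Mu_pos.1 hz) hv
    have h2 : w ∉ orb r z (Subgroup.closure T) := by
      intro h
      have := orderOf_orb ho h
      rw [hw1, orderOf_one] at this
      exact hr.one_lt.ne this
    have h3 := sum_Mu_le x (insert w (orb r z (Subgroup.closure T)))
    rw [Finset.sum_insert h2] at h3
    have h4 : (orb r z (Subgroup.closure T)).card ≤ ∑ v ∈ orb r z (Subgroup.closure T), Mu x v := by
      rw [Finset.card_eq_sum_ones]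
      exact Finset.sum_le_sum h1
    rw [card_orb ho] at h4
    omega
  · left
    have hwE : Ev x w := Mu_pos.2 (by omega)
    have ho' : orderOf w = r := orderOf_eq_prime (hevr w hwE) hw1
    have h1 : ∀ v ∈ orb r w (Subgroup.closure T), 2 ≤ Mu x v := by
      intro v hv
      exact pred_orb (fun v => 2 ≤ Mu x v) ho' T (fun u hu w hw h => hT 2 u hu w hw h) hw hv
    have h3 := sum_Mu_le x (orb r w (Subgroup.closure T))
    have h4 : 2 * (orb r w (Subgroup.closure T)).card ≤ ∑ v ∈ orb r w (Subgroup.closure T), Mu x v := by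
      rw [mul_comm, ← smul_eq_mul, ← Finset.sum_const]
      exact Finset.sum_le_sum h1
    rw [card_orb ho'] at h4
    omega

theorem sl_rp {p : ℕ} [Fact p.Prime] [CharP F p] {x : Matrix m m F} {r : ℕ} (hr : r.Prime) (hrp : r ≠ p) (hx : x ^ (r * p) = 1) (hxr : x ^ r ≠ 1) (hxp : x ^ p ≠ 1)
    {k : ℕ} (hk : k = orderOf ((Fintype.card F : ℕ) : ZMod r)) : 2 * k ≤ Fintype.card m ∨ k + 2 ≤ Fintype.card m := by
  haveI : Fact r.Prime := ⟨hr⟩
  haveI : NeZero r := ⟨hr.ne_zero⟩
  have h := rp_bound hrp hx hxr hxp {qu F r (coprime_of_ne hr hrp)} (fun c u hu w hw h => by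
    rw [Set.mem_singleton_iff] at hu
    subst hu
    exact pred_qu _ w hw h)
  rwa [card_zp, ← hk] at h

end mult

end Cfsg.Agent.H16.PGr
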