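import Mathlib
import Cfsg.Agent.H16.PGr4

set_option autoImplicit false
set_option linter.all false

/-! Element orders `rp` in `PSL_n(q)`. -/

namespace Cfsg.Agent.H16.PGr

open Polynomial Module

section unip
variable {A : Type*} [Ring A]

/-- `1 + N` for `N ^ 2 = 0` -/
def oneAdd (N : A) (h : N * N = 0) : Aˣ := ⟨1 + N, 1 - N, by noncomm_ring; simp [h], by noncomm_ring; simp [h]⟩

lemma orderOf_oneAdd {p : ℕ} [Fact p.Prime] [CharP A p] {N : A} (h : N * N = 0) (hN : N ≠ 0) : orderOf (oneAdd N h) = p := by
  apply orderOf_eq_prime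
  · apply Units.ext
    rw [Units.val_pow_eq_pow_val, Units.val_one]
    show (1 + N) ^ p = 1
    rw [add_pow_char_of_commute p (Commute.one_left N), one_pow]
    have h2 : N ^ p = 0 := by
      obtain ⟨c, hc⟩ := Nat.exists_eq_add_of_le (Fact.out : p.Prime).two_le
      rw [hc, pow_add, pow_two, h, zero_mul]
    rw [h2, add_zero]
  · intro h1
    have h2 := congrArg Units.val h1
    have h3 : (1 : A) + N = 1 := h2
    exact hN (by simpa using h3)

end unip

lemma dual_fin {F : Type*} [Field F] : finrank F (DualNumber F) = 2 := by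
  have h : finrank F (F × F) = 2 := by simp
  exact h

lemma dual_fd {F : Type*} [Field F] : FiniteDimensional F (DualNumber F) := inferInstanceAs (FiniteDimensional F (F × F))

lemma dual_eps_ne {F : Type*} [Field F] : (DualNumber.eps : DualNumber F) ≠ 0 := by
  intro h
  have := congrArg TrivSqZeroExt.snd h
  simp at this

variable {F : Type*} [Field F] [Fintype F]

lemma exists_of_frob {w : AlgebraicClosure F} (h : w ^ Fintype.card F = w) : ∃ c : F, algebraMap F (AlgebraicClosure F) c = w := by
  classical
  by_contra hcon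
  push Not at hcon
  have hq1 : 1 < Fintype.card F := Fintype.one_lt_card
  have hnotmem : w ∉ Finset.univ.image (algebraMap F (AlgebraicClosure F)) := by
    intro hm
    rw [Finset.mem_image] at hm
    obtain ⟨c, _, hc⟩ := hm
    exact hcon c hc
  have hne : (X ^ Fintype.card F - X : (AlgebraicClosure F)[X]) ≠ 0 := FiniteField.X_pow_card_sub_X_ne_zero _ hq1
  have h1 : (insert w (Finset.univ.image (algebraMap F (AlgebraicClosure F)))).val ⊆ (X ^ Fintype.card F - X : (AlgebraicClosure F)[X]).roots := by
    intro z hz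
    rw [mem_roots hne]
    have hz' : z ∈ insert w (Finset.univ.image (algebraMap F (AlgebraicClosure F))) := hz
    rw [Finset.mem_insert, Finset.mem_image] at hz'
    rcases hz' with rfl | ⟨c, _, rfl⟩
    · simp [h]
    · simp [← map_pow, FiniteField.pow_card]
  have h2 := card_le_degree_of_subset_roots h1
  rw [Finset.card_insert_of_notMem hnotmem, Finset.card_image_of_injective _ (algebraMap F (AlgebraicClosure F)).injective, Finset.card_univ,
    FiniteField.X_pow_card_sub_X_natDegree_eq _ hq1] at h2
  omega

/-- product of the roots of the characteristic polynomial -/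
lemma prod_roots {n : ℕ} (x : Matrix.SpecialLinearGroup (Fin n) F) : (cK (x : Matrix (Fin n) (Fin n) F)).roots.prod = 1 := by
  have h1 := Matrix.det_eq_prod_roots_charpoly ((x : Matrix (Fin n) (Fin n) F).map (algebraMap F (AlgebraicClosure F)))
  rw [Matrix.charpoly_map] at h1
  change _ = (cK (x : Matrix (Fin n) (Fin n) F)).roots.prod at h1
  rw [← h1]
  have h2 : ((x : Matrix (Fin n) (Fin n) F).map (algebraMap F (AlgebraicClosure F))).det = algebraMap F (AlgebraicClosure F) (x : Matrix (Fin n) (Fin n) F).det :=
    ((algebraMap F (AlgebraicClosure F)).map_det _).symm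
  rw [h2, x.det_coe, map_one]

/-- scalar powers are central -/
lemma central_of_scalar {n : ℕ} {x : Matrix.SpecialLinearGroup (Fin n) F} {c : F} (h : (x : Matrix (Fin n) (Fin n) F) = Matrix.scalar (Fin n) c) :
    x ∈ Subgroup.center (Matrix.SpecialLinearGroup (Fin n) F) := by
  rw [Matrix.SpecialLinearGroup.mem_center_iff]
  refine ⟨c, ?_, h.symm⟩
  have h1 := x.det_coe
  rw [h, Matrix.scalar_apply, Matrix.det_diagonal, Finset.prod_const, Finset.card_univ] at h1
  exact h1

/-- diagonal element times transvection -/
theorem exists_diag {p : ℕ} [Fact p.Prime] [CharP F p] {n r : ℕ} (hr : r.Prime) (hrp : r ≠ p) (D : Fin n → F) (hD : ∏ i, D i = 1) {i j : Fin n} (hij : i ≠ j)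
    (hDij : D i = D j) (hsc : ∀ a b, D a ^ r = D b ^ r) (hne : ∃ a b, D a ≠ D b) :
    ∃ g : Matrix.ProjectiveSpecialLinearGroup (Fin n) F, orderOf g = r * p := by
  classical
  haveI : Fact r.Prime := ⟨hr⟩
  have hp : p.Prime := Fact.out
  let d : Matrix.SpecialLinearGroup (Fin n) F := ⟨Matrix.diagonal D, by rw [Matrix.det_diagonal, hD]⟩
  let t : Matrix.SpecialLinearGroup (Fin n) F := ⟨Matrix.transvection i j 1, Matrix.det_transvection_of_ne i j hij 1⟩
  have hcomm : Commute d t := by
    apply Subtype.ext
    show Matrix.diagonal D * Matrix.transvection i j 1 = Matrix.transvection i j 1 * Matrix.diagonal D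
    rw [Matrix.transvection, mul_add, add_mul, mul_one, one_mul]
    congr 1
    ext a b
    rw [Matrix.diagonal_mul, Matrix.mul_diagonal, Matrix.single_apply]
    split_ifs with h
    · rw [← h.1, ← h.2, hDij, mul_comm]
    · rw [mul_zero, zero_mul]
  have hd : orderOf (QuotientGroup.mk d : Matrix.ProjectiveSpecialLinearGroup (Fin n) F) = r := by
    apply orderOf_eq_prime
    · rw [mk_pow_eq_one_iff, Matrix.SpecialLinearGroup.mem_center_iff]
      refine ⟨D i ^ r, ?_, ?_⟩
      · rw [Fintype.card_fin]
        have h1 : (∏ a, D a) ^ r = 1 := by rw [hD, one_pow]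
        rw [← Finset.prod_pow] at h1
        rw [← h1, Finset.prod_congr rfl (fun a _ => hsc a i), Finset.prod_const, Finset.card_univ, Fintype.card_fin]
      · rw [Matrix.SpecialLinearGroup.coe_pow]
        show _ = (Matrix.diagonal D) ^ r
        rw [Matrix.diagonal_pow, Matrix.scalar_apply]
        congr 1
        funext a
        exact hsc i a
    · intro h
      obtain ⟨a, b, hab⟩ := hne
      have h1 : d ∈ Subgroup.center (Matrix.SpecialLinearGroup (Fin n) F) := (QuotientGroup.eq_one_iff _).1 h
      obtain ⟨c, _, hc⟩ := Matrix.SpecialLinearGroup.mem_center_iff.1 h1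
      have h2 : Matrix.scalar (Fin n) c = Matrix.diagonal D := hc
      rw [Matrix.scalar_apply] at h2
      have h3 := Matrix.diagonal_injective h2
      exact hab ((congrFun h3 a).symm.trans (congrFun h3 b))
  have ht : orderOf (QuotientGroup.mk t : Matrix.ProjectiveSpecialLinearGroup (Fin n) F) = p := by
    apply orderOf_eq_prime
    · rw [← QuotientGroup.mk_pow]
      have : t ^ p = 1 := by
        apply Subtype.ext
        rw [Matrix.SpecialLinearGroup.coe_pow, Matrix.SpecialLinearGroup.coe_one]
        show (1 + Matrix.single i j (1 : F)) ^ p = 1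
        haveI : Nonempty (Fin n) := ⟨i⟩
        rw [add_pow_char_of_commute p (Commute.one_left _), one_pow]
        have h2 : (Matrix.single i j (1 : F)) ^ p = 0 := by
          obtain ⟨c, hc⟩ := Nat.exists_eq_add_of_le hp.two_le
          rw [hc, pow_add, pow_two, Matrix.single_mul_single_of_ne _ _ _ _ hij.symm, zero_mul]
        rw [h2, add_zero]
      rw [this]; rfl
    · intro h
      have h1 : t ∈ Subgroup.center (Matrix.SpecialLinearGroup (Fin n) F) := (QuotientGroup.eq_one_iff _).1 h
      obtain ⟨c, _, hc⟩ := Matrix.SpecialLinearGroup.mem_center_iff.1 h1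
      have h2 : Matrix.scalar (Fin n) c = Matrix.transvection i j 1 := hc
      have h3 := congrFun (congrFun h2 i) j
      rw [Matrix.scalar_apply, Matrix.diagonal_apply_ne _ hij, Matrix.transvection, Matrix.add_apply, Matrix.one_apply_ne hij, Matrix.single_apply_same, zero_add] at h3
      exact zero_ne_one h3
  have hc2 : Commute (QuotientGroup.mk d : Matrix.ProjectiveSpecialLinearGroup (Fin n) F) (QuotientGroup.mk t) := by
    show QuotientGroup.mk d * QuotientGroup.mk t = QuotientGroup.mk t * QuotientGroup.mk d
    rw [← QuotientGroup.mk_mul, ← QuotientGroup.mk_mul, hcomm.eq]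
  refine ⟨QuotientGroup.mk d * QuotientGroup.mk t, ?_⟩
  rw [hc2.orderOf_mul_eq_mul_orderOf_of_coprime (by rw [hd, ht]; exact (Nat.coprime_primes hr hp).2 hrp), hd, ht]

theorem psl_rp (p : ℕ) [Fact p.Prime] [CharP F p] (n : ℕ) (hn : 2 ≤ n)
    (r : ℕ) (hr : r.Prime) (hr2 : r ≠ 2) (hrp : r ≠ p) (hrG : r ∣ Nat.card (Matrix.ProjectiveSpecialLinearGroup (Fin n) F))
    (k : ℕ) (hk : k = orderOf ((Fintype.card F : ℕ) : ZMod r)) :
    (r * p ∉ Set.range (orderOf : Matrix.ProjectiveSpecialLinearGroup (Fin n) F → ℕ)) ↔
      (n - 2 < k ∨ (n = 3 ∧ r = 3 ∧ 3 ∣ Fintype.card F - 1 ∧ ¬ 9 ∣ Fintype.card F - 1)) := by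
  classical
  haveI : Fact r.Prime := ⟨hr⟩
  haveI : NeZero r := ⟨hr.ne_zero⟩
  have hp : p.Prime := Fact.out
  have hn1 : 1 ≤ n := by omega
  have hq1 : 1 < Fintype.card F := Fintype.one_lt_card
  have hkpos : 0 < k := by rw [hk, ← orderOf_qu r (coprime_of_ne hr hrp)]; exact orderOf_pos _
  have hpq : p.Coprime (Fintype.card F - 1) := by
    rw [Nat.Prime.coprime_iff_not_dvd hp]
    intro h
    obtain ⟨e, _, he⟩ := FiniteField.card F p
    have h5 : p ∣ Fintype.card F := by rw [he]; exact dvd_pow_self p e.ne_zero
    have h6 : p ∣ 1 := by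
      have := Nat.dvd_sub h5 h
      rwa [Nat.sub_sub_self (by omega)] at this
    exact hp.one_lt.ne' (Nat.dvd_one.1 h6)
  have hrk : r ∣ Fintype.card F ^ k - 1 := by rw [SylB.dvd_iff hq1, ← hk]
  constructor
  · intro hno
    by_contra hcon
    rw [not_or] at hcon
    obtain ⟨hc1, hc2⟩ := hcon
    apply hno
    have hkn : k + 2 ≤ n := by omega
    by_cases h2k : 2 ≤ k
    · have hcop : (r * p).Coprime (Fintype.card F - 1) := (ord_ne_one hr hk h2k).mul_left hpq
      obtain ⟨E, i1, i2, i3, hE, u, hu⟩ := exists_field_unit (F := F) (d := k) (by omega) hr.ne_zero hrk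
      haveI : FiniteDimensional F E := Module.Finite.of_finite
      haveI := dual_fd (F := F)
      haveI : CharP (DualNumber F) p := charP_of_injective_algebraMap (algebraMap F (DualNumber F)).injective p
      obtain ⟨t, ht⟩ : ∃ t : (DualNumber F)ˣ, orderOf t = p := ⟨oneAdd DualNumber.eps DualNumber.eps_mul_eps, orderOf_oneAdd _ dual_eps_ne⟩
      obtain ⟨x, hx⟩ := exists_sl_of_unit (A := E × (DualNumber F × (Fin (n - k - 2) → F))) (n := n) (N := r * p) (by
          rw [Module.finrank_prod, Module.finrank_prod, hE, Module.finrank_fin_fun, dual_fin]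
          omega) (MulEquiv.prodUnits.symm (u, MulEquiv.prodUnits.symm (t, 1))) (by
          rw [MulEquiv.orderOf_eq, Prod.orderOf_mk, MulEquiv.orderOf_eq, Prod.orderOf_mk, hu, ht, orderOf_one, Nat.lcm_one_right]
          exact Nat.Coprime.lcm_eq_mul ((Nat.coprime_primes hr hp).2 hrp)) hcop
      exact ⟨x, by rw [orderOf_mk hn1 (by rw [hx]; exact hcop), hx]⟩
    · have hk1 : k = 1 := by omega
      rw [hk1, pow_one] at hrk
      have hlam : ∀ N, N ≠ 0 → N ∣ Fintype.card F - 1 → ∃ u : Fˣ, orderOf u = N := by
        intro N hN0 hN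
        obtain ⟨g, hg⟩ := H17.exists_orderOf_eq_card_units F
        rw [Nat.card_eq_fintype_card] at hg
        obtain ⟨c, hc⟩ := hN
        have hc0 : c ≠ 0 := by rintro rfl; rw [mul_zero] at hc; omega
        exact ⟨g ^ c, by rw [orderOf_pow_of_dvd hc0 (by rw [hg, hc]; exact Dvd.intro_left _ rfl), hg, hc, Nat.mul_div_cancel _ (Nat.pos_of_ne_zero hc0)]⟩
      by_cases h3 : n = 3
      · subst h3
        obtain ⟨u, hu1, hu2⟩ : ∃ u : Fˣ, u ^ (3 * r) = 1 ∧ u ^ 3 ≠ 1 := by
          by_cases hr3 : r = 3
          · have h9 : 9 ∣ Fintype.card F - 1 := by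
              by_contra h9
              exact hc2 ⟨rfl, hr3, by rw [← hr3]; exact hrk, h9⟩
            obtain ⟨u, hu⟩ := hlam 9 (by norm_num) h9
            refine ⟨u, ?_, ?_⟩
            · rw [hr3, show 3 * 3 = orderOf u by rw [hu]]; exact pow_orderOf_eq_one u
            · intro h
              have := orderOf_dvd_of_pow_eq_one h
              rw [hu] at this
              exact absurd (Nat.le_of_dvd (by norm_num) this) (by norm_num)
          · obtain ⟨u, hu⟩ := hlam r hr.ne_zero hrk
            refine ⟨u, ?_, ?_⟩
            · rw [mul_comm, pow_mul, ← hu, pow_orderOf_eq_one, one_pow]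
            · intro h
              have := orderOf_dvd_of_pow_eq_one h
              rw [hu] at this
              exact hr3 ((Nat.prime_dvd_prime_iff_eq hr Nat.prime_three).1 this)
        refine exists_diag hr hrp ![(u : F), (u : F), ((u ^ 2)⁻¹ : Fˣ)] ?_ (i := 0) (j := 1) (by decide) rfl ?_ ⟨0, 2, ?_⟩
        · rw [Fin.prod_univ_three]
          show (u : F) * (u : F) * (((u ^ 2)⁻¹ : Fˣ) : F) = 1
          rw [← Units.val_mul, ← Units.val_mul, ← pow_two, mul_inv_cancel, Units.val_one]
        · have h4 : (u : F) ^ r = (((u ^ 2)⁻¹ : Fˣ) : F) ^ r := by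
            rw [← Units.val_pow_eq_pow_val, ← Units.val_pow_eq_pow_val]
            congr 1
            rw [inv_pow, eq_inv_iff_mul_eq_one, ← pow_mul, ← pow_add]
            rw [← hu1]
            congr 1
            ring
          have h5 : ∀ a, (![(u : F), (u : F), ((u ^ 2)⁻¹ : Fˣ)] : Fin 3 → F) a ^ r = (u : F) ^ r := by
            intro a
            fin_cases a
            · rfl
            · rfl
            · exact h4.symm
          intro a b
          rw [h5, h5]
        · intro h
          apply hu2
          have h4 : u = (u ^ 2)⁻¹ := Units.ext h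
          rw [pow_succ]
          nth_rewrite 2 [h4]
          exact mul_inv_cancel _
      · obtain ⟨t, rfl⟩ : ∃ t, n = t + 4 := ⟨n - 4, by omega⟩
        obtain ⟨u, hu⟩ := hlam r hr.ne_zero hrk
        refine exists_diag hr hrp (Fin.cons (u : F) (Fin.cons ((u⁻¹ : Fˣ) : F) (fun _ => 1)) : Fin (t + 4) → F) ?_ (i := 2) (j := 3) ?_ ?_ ?_ ⟨0, 2, ?_⟩
        · rw [Fin.prod_univ_succ, Fin.prod_univ_succ]
          simp
        · intro h
          have := congrArg Fin.val h
          have h6 : ((2 : Fin (t + 4)) : ℕ) = 2 := rfl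
          have h7 : ((3 : Fin (t + 4)) : ℕ) = 3 := rfl
          omega
        · rfl
        · have hur : (u : F) ^ r = 1 := by rw [← Units.val_pow_eq_pow_val, ← hu, pow_orderOf_eq_one, Units.val_one]
          have h5 : ∀ a, (Fin.cons (u : F) (Fin.cons ((u⁻¹ : Fˣ) : F) (fun _ => 1)) : Fin (t + 4) → F) a ^ r = 1 := by
            intro a
            refine Fin.cases ?_ (fun a => Fin.cases ?_ (fun a => ?_) a) a
            · exact hur
            · show ((u⁻¹ : Fˣ) : F) ^ r = 1
              rw [← Units.val_pow_eq_pow_val, inv_pow, ← hu, pow_orderOf_eq_one, inv_one, Units.val_one]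
            · exact one_pow r
          intro a b
          rw [h5, h5]
        · intro h
          have h4 : (u : F) = 1 := h
          have h5 : u = 1 := Units.ext h4
          rw [h5, orderOf_one] at hu
          exact hr.one_lt.ne hu
  · rintro hcase ⟨g, hg⟩
    by_cases h2k : 2 ≤ k
    · have hcop : (r * p).Coprime (Fintype.card F - 1) := (ord_ne_one hr hk h2k).mul_left hpq
      have hnk : n - 2 < k := by
        rcases hcase with h | ⟨-, h3, h4, -⟩
        · exact h
        · exfalso
          have := ord_ne_one hr hk h2k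
          rw [Nat.Prime.coprime_iff_not_dvd hr, h3] at this
          exact this h4
      obtain ⟨x, hx⟩ := exists_lift hn1 hg hcop
      have hpow : ∀ j, (x : Matrix (Fin n) (Fin n) F) ^ j = 1 ↔ r * p ∣ j := by
        intro j
        rw [← Matrix.SpecialLinearGroup.coe_pow, ← hx, orderOf_dvd_iff_pow_eq_one]
        constructor
        · intro h; exact Subtype.ext (by rw [h, Matrix.SpecialLinearGroup.coe_one])
        · intro h; rw [h, Matrix.SpecialLinearGroup.coe_one]
      rcases sl_rp (x := (x : Matrix (Fin n) (Fin n) F)) hr hrp ((hpow _).2 dvd_rfl)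
        (fun h => by
          have := Nat.le_of_dvd hr.pos ((hpow _).1 h)
          have h5 := hp.two_le
          have h6 := hr.pos
          nlinarith)
        (fun h => by
          have := Nat.le_of_dvd hp.pos ((hpow _).1 h)
          have h5 := hr.two_le
          have h6 := hp.pos
          nlinarith) hk with h | h
      · rw [Fintype.card_fin] at h; omega
      · rw [Fintype.card_fin] at h; omega
    · have hk1 : k = 1 := by omega
      rw [hk1, pow_one] at hrk
      obtain ⟨x, rfl⟩ := QuotientGroup.mk_surjective g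
      have hgdvd : ∀ j, x ^ j ∈ Subgroup.center (Matrix.SpecialLinearGroup (Fin n) F) → r * p ∣ j := by
        intro j hj
        rw [← hg]
        apply orderOf_dvd_of_pow_eq_one
        exact mk_pow_eq_one_iff.2 hj
      have hxZ : x ^ (r * p) ∈ Subgroup.center (Matrix.SpecialLinearGroup (Fin n) F) := by
        rw [← mk_pow_eq_one_iff, ← hg]
        exact pow_orderOf_eq_one _
      have hx1 : (x : Matrix (Fin n) (Fin n) F) ^ (r * (Fintype.card F - 1) * p) = 1 := by
        have h1 := center_pow hn1 hxZ
        rw [← pow_mul] at h1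
        rw [← Matrix.SpecialLinearGroup.coe_pow, show r * (Fintype.card F - 1) * p = r * p * (Fintype.card F - 1) by ring, h1, Matrix.SpecialLinearGroup.coe_one]
      have hevr : ∀ z, Ev (x : Matrix (Fin n) (Fin n) F) z → z ^ (r * (Fintype.card F - 1)) = 1 := by
        intro z hz
        have h1 := hz.pow_one hx1
        rw [pow_mul] at h1
        haveI : CharP (AlgebraicClosure F) p := charP_of_injective_algebraMap (algebraMap F (AlgebraicClosure F)).injective p
        have h2 : (z ^ (r * (Fintype.card F - 1)) - 1) ^ p = 0 := by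
          rw [sub_pow_char, h1, one_pow, sub_self]
        exact sub_eq_zero.1 (pow_eq_zero_iff hp.ne_zero |>.1 h2)
      obtain ⟨w, hw⟩ : ∃ w, 2 ≤ Mu (x : Matrix (Fin n) (Fin n) F) w := by
        by_contra hcon
        push Not at hcon
        have h1 := pow_one_of_Mu (mul_ne_zero hr.ne_zero (by omega)) (fun z => by have := hcon z; omega) hevr
        rw [← Matrix.SpecialLinearGroup.coe_pow] at h1
        have h2 : x ^ (r * (Fintype.card F - 1)) = 1 := Subtype.ext (by rw [h1, Matrix.SpecialLinearGroup.coe_one])
        have h3 := hgdvd (r * (Fintype.card F - 1)) (by rw [h2]; exact one_mem _)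
        have h4 : p ∣ Fintype.card F - 1 := Nat.dvd_of_mul_dvd_mul_left hr.pos h3
        exact (Nat.Prime.coprime_iff_not_dvd hp).1 hpq h4
      have hn3 : n ≤ 3 := by
        rcases hcase with h | ⟨h, -⟩
        · omega
        · omega
      have hwE : Ev (x : Matrix (Fin n) (Fin n) F) w := Mu_pos.2 (by omega)
      have hwq : w ^ Fintype.card F = w := by
        by_contra hne
        have h1 := sum_Mu_le (x : Matrix (Fin n) (Fin n) F) {w ^ Fintype.card F, w}
        rw [Finset.sum_pair hne, Mu_frob, Fintype.card_fin] at h1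
        omega
      obtain ⟨c, hc⟩ := exists_of_frob hwq
      have hfin : ∀ d : ℕ, (∀ z, Ev (x : Matrix (Fin n) (Fin n) F) z → z ^ d = w ^ d) → r ∣ d := by
        intro d hd
        obtain ⟨a, ha⟩ := exists_pow_of_ev (p := p) (x := (x : Matrix (Fin n) (Fin n) F)) (d := d) (c := c ^ d) (fun z hz => by rw [hd z hz, map_pow, hc])
        rw [← Matrix.SpecialLinearGroup.coe_pow] at ha
        have h1 := hgdvd _ (central_of_scalar ha)
        have h2 : r ∣ d * p ^ a := (Dvd.intro _ rfl).trans h1
        exact Nat.Coprime.dvd_of_dvd_mul_right (Nat.Coprime.pow_right _ ((Nat.coprime_primes hr hp).2 hrp)) h2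
      have hRcard : Multiset.card (cK (x : Matrix (Fin n) (Fin n) F)).roots = n := by
        rw [← (IsAlgClosed.splits _).natDegree_eq_card_roots, cK, natDegree_map, Matrix.charpoly_natDegree_eq_dim, Fintype.card_fin]
      have hRw : Multiset.replicate 2 w ≤ (cK (x : Matrix (Fin n) (Fin n) F)).roots := by
        rw [← Multiset.le_count_iff_replicate_le, count_roots]
        exact hw
      obtain ⟨R', hR'⟩ := Multiset.le_iff_exists_add.1 hRw
      have hR'card : Multiset.card R' = n - 2 := by
        rw [hR', Multiset.card_add, Multiset.card_replicate] at hRcard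
        omega
      by_cases hn2 : n = 2
      · have hR0 : R' = 0 := by rw [← Multiset.card_eq_zero, hR'card]; omega
        have h1 := hfin 1 (fun z hz => by
          rw [ev_iff, hR', hR0, add_zero, Multiset.mem_replicate] at hz
          rw [hz.2])
        exact hr.one_lt.ne' (Nat.dvd_one.1 h1)
      · have hn3' : n = 3 := by omega
        obtain ⟨-, hr3, h3q, h9q⟩ : n = 3 ∧ r = 3 ∧ 3 ∣ Fintype.card F - 1 ∧ ¬ 9 ∣ Fintype.card F - 1 := by
          rcases hcase with h | h
          · omega
          · exact h
        obtain ⟨v, hv⟩ := Multiset.card_eq_one.1 (by rw [hR'card]; omega : Multiset.card R' = 1)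
        have hprod := prod_roots x
        rw [hR', hv, Multiset.prod_add, Multiset.prod_replicate, Multiset.prod_singleton] at hprod
        have hw0 : w ≠ 0 := by
          rintro rfl
          rw [zero_pow (by norm_num), zero_mul] at hprod
          exact zero_ne_one hprod
        have hwq1 : w ^ (Fintype.card F - 1) = 1 := by
          have h1 : w ^ (Fintype.card F - 1) * w = 1 * w := by
            rw [← pow_succ, Nat.sub_add_cancel (by omega), hwq, one_mul]
          exact mul_right_cancel₀ hw0 h1
        obtain ⟨m, hm⟩ := h3q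
        have h1 := hfin m (fun z hz => by
          rw [ev_iff, hR', hv, Multiset.mem_add, Multiset.mem_replicate, Multiset.mem_singleton] at hz
          rcases hz with hz | hz
          · rw [hz.2]
          · rw [hz]
            have h2 : (w ^ 2 * v) ^ m = 1 := by rw [hprod, one_pow]
            rw [mul_pow, ← pow_mul] at h2
            have h3 : w ^ (2 * m) * w ^ m = 1 := by
              rw [← pow_add, show 2 * m + m = 3 * m by ring, ← hm, hwq1]
            have h4 : w ^ (2 * m) * v ^ m = w ^ (2 * m) * w ^ m := by rw [h2, h3]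
            exact mul_left_cancel₀ (pow_ne_zero _ hw0) h4)
        apply h9q
        rw [hm]
        rw [hr3] at h1
        obtain ⟨e, he⟩ := h1
        exact ⟨e, by rw [he]; ring⟩

end Cfsg.Agent.H16.PGr
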