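import Mathlib
import Cfsg.Agent.H16.SylB
import Cfsg.Agent.H16.LSBnd2
import Cfsg.Agent.H5.IsoG2
import Cfsg.Agent.H5.SpOrder

set_option autoImplicit false
set_option linter.all false

/-! Sylow subgroups of `Sp_2n(q)` for large primes. -/

namespace Cfsg.Agent.H16.SylB

open Module Matrix

section val
variable {q r : ℕ} [hr : Fact r.Prime]

lemma val_pow' (hq : 1 < q) (hrq : ¬ r ∣ q) (hr2 : Odd r) {j : ℕ} (hj : 0 < j) (hrj : ¬ r ∣ j) :
    (q ^ j - 1).factorization r = if orderOf (q : ZMod r) ∣ j then (q ^ orderOf (q : ZMod r) - 1).factorization r else 0 := by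
  split_ifs with h
  · obtain ⟨t, ht⟩ := h
    set d := orderOf (q : ZMod r) with hd
    have hd0 : 0 < d := ord_pos hrq
    have ht0 : t ≠ 0 := by rintro rfl; omega
    have hdv : r ∣ q ^ d - 1 := (dvd_iff hq d).2 dvd_rfl
    have hnd : ¬ r ∣ q ^ d := fun h => hrq (hr.out.dvd_of_dvd_pow h)
    have h2 := padicValNat.pow_sub_pow (p := r) hr2 (x := q ^ d) (y := 1) (Nat.one_lt_pow hd0.ne' hq) hdv hnd (n := t) ht0
    rw [one_pow, ← pow_mul, ← ht] at h2
    rw [Nat.factorization_def _ hr.out, Nat.factorization_def _ hr.out, h2]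
    have htr : ¬ r ∣ t := fun h => hrj (h.trans (Dvd.intro_left _ ht.symm))
    rw [padicValNat.eq_zero_of_not_dvd htr, add_zero]
  · apply Nat.factorization_eq_zero_of_not_dvd
    rwa [dvd_iff hq]

variable {F : Type*} [Field F] [Fintype F]

lemma val_sp (hq : Fintype.card F = q) (hrq : ¬ r ∣ q) (hr2 : r ≠ 2) {n : ℕ} (hn : n < r) :
    (Nat.card ↥(Matrix.symplecticGroup (Fin n) F)).factorization r =
      ((Finset.Icc 1 n).filter (fun i => orderOf (q : ZMod r) ∣ 2 * i)).card * (q ^ orderOf (q : ZMod r) - 1).factorization r := by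
  have hq1 : 1 < q := by rw [← hq]; exact Fintype.one_lt_card
  have hodd : Odd r := hr.out.odd_of_ne_two hr2
  have hne : ∀ i : ℕ, q ^ (2 * (i + 1)) - 1 ≠ 0 := by
    intro i
    have : 1 < q ^ (2 * (i + 1)) := Nat.one_lt_pow (by omega) hq1
    omega
  rw [H5.card_Sp hq, Nat.factorization_mul (pow_ne_zero _ (by omega)) (Finset.prod_ne_zero_iff.2 (fun i _ => hne i)), Finsupp.add_apply, Nat.factorization_pow,
    Finsupp.smul_apply, Nat.factorization_eq_zero_of_not_dvd hrq, smul_zero, zero_add, Nat.factorization_prod (fun i _ => hne i), Finsupp.finset_sum_apply]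
  rw [Finset.sum_congr rfl (g := fun i => if orderOf (q : ZMod r) ∣ 2 * (i + 1) then (q ^ orderOf (q : ZMod r) - 1).factorization r else 0) (fun i hi => by
    rw [Finset.mem_range] at hi
    apply val_pow' hq1 hrq hodd (by omega)
    intro h
    rcases (hr.out.dvd_mul).1 h with h | h
    · exact hr2 ((Nat.prime_dvd_prime_iff_eq hr.out Nat.prime_two).1 h)
    · have := Nat.le_of_dvd (by omega) h
      omega)]
  rw [← Finset.sum_filter, Finset.sum_const, smul_eq_mul]
  congr 1
  apply Finset.card_bij (fun i _ => i + 1)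
  · intro i hi
    rw [Finset.mem_filter, Finset.mem_range] at hi
    rw [Finset.mem_filter, Finset.mem_Icc]
    exact ⟨⟨by omega, by omega⟩, hi.2⟩
  · intro i _ j _ h; omega
  · intro i hi
    rw [Finset.mem_filter, Finset.mem_Icc] at hi
    refine ⟨i - 1, ?_, by omega⟩
    rw [Finset.mem_filter, Finset.mem_range, Nat.sub_add_cancel hi.1.1]
    exact ⟨by omega, hi.2⟩

end val

section form
variable {F : Type*} [Field F] [Finite F] {E : Type*} [Field E] [Finite E] [Algebra F E]

/-- the total form -/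
noncomputable def BV (k t : ℕ) (σ : E ≃ₐ[F] E) (δ : E) : LinearMap.BilinForm F ((Fin k → E) × (Fin t ⊕ Fin t → F)) :=
  LinearMap.mk₂ F (fun v w => ∑ i, Algebra.trace F E (δ * v.1 i * σ (w.1 i)) + H5.sympB t F v.2 w.2)
    (fun a b c => by
      simp only [Prod.fst_add, Prod.snd_add, Pi.add_apply, mul_add, add_mul, map_add, Finset.sum_add_distrib, LinearMap.add_apply]
      abel)
    (fun c a b => by
      simp only [Prod.smul_fst, Prod.smul_snd, Pi.smul_apply, map_smul, LinearMap.smul_apply, smul_add, Finset.smul_sum, mul_smul_comm, smul_mul_assoc])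
    (fun a b c => by
      simp only [Prod.fst_add, Prod.snd_add, Pi.add_apply, mul_add, add_mul, map_add, Finset.sum_add_distrib]
      abel)
    (fun c a b => by
      simp only [Prod.smul_fst, Prod.smul_snd, Pi.smul_apply, map_smul, smul_add, Finset.smul_sum, mul_smul_comm])

lemma BV_apply (k t : ℕ) (σ : E ≃ₐ[F] E) (δ : E) (v w : (Fin k → E) × (Fin t ⊕ Fin t → F)) :
    BV k t σ δ v w = ∑ i, Algebra.trace F E (δ * v.1 i * σ (w.1 i)) + H5.sympB t F v.2 w.2 := rfl

lemma BV_alt (k t : ℕ) (σ : E ≃ₐ[F] E) (hσ : ∀ x, σ (σ x) = x) (ε : E) : (BV k t σ (ε - σ ε)).IsAlt := by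
  intro v
  rw [BV_apply, H5.sympB_isAlt v.2, add_zero]
  apply Finset.sum_eq_zero
  intro i _
  have h1 : (ε - σ ε) * v.1 i * σ (v.1 i) = ε * v.1 i * σ (v.1 i) - σ (ε * v.1 i * σ (v.1 i)) := by
    rw [map_mul, map_mul, hσ]; ring
  rw [h1, map_sub, Algebra.trace_eq_of_algEquiv σ, sub_self]

lemma BV_nd (k t : ℕ) (σ : E ≃ₐ[F] E) {δ : E} (hδ : δ ≠ 0) (v : (Fin k → E) × (Fin t ⊕ Fin t → F)) (h : ∀ w, BV k t σ δ v w = 0) : v = 0 := by
  classical
  haveI : FiniteDimensional F E := Module.Finite.of_finite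
  apply Prod.ext
  · funext i
    have h1 : ∀ y, Algebra.traceForm F E (δ * v.1 i) y = 0 := by
      intro y
      have h2 := h (Pi.single i (σ.symm y), 0)
      rw [BV_apply, map_zero, add_zero, Finset.sum_eq_single i] at h2
      · simpa [Algebra.traceForm_apply] using h2
      · intro j _ hj
        show Algebra.trace F E (δ * v.1 j * σ ((Pi.single i (σ.symm y) : Fin k → E) j)) = 0
        rw [Pi.single_eq_of_ne hj, map_zero, mul_zero, map_zero]
      · intro h; exact absurd (Finset.mem_univ _) h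
    have h3 := (traceForm_nondegenerate F E).1 _ h1
    exact (mul_eq_zero.1 h3).resolve_left hδ
  · apply H5.sympB_nondegenerate.1
    intro y
    have h2 := h (0, y)
    rw [BV_apply] at h2
    simpa using h2

end form

section sp
variable {F : Type*} [Field F] [Fintype F] {q r : ℕ} [hr : Fact r.Prime]

theorem sp_embed_even (hq : Fintype.card F = q) {e k n m : ℕ} (he : 0 < e) (hkn : k * e ≤ n) (hm0 : 0 < m) (hm : m ∣ q ^ e + 1) :
    ∃ f : (Fin k → Multiplicative (ZMod m)) →* ↥(Matrix.symplecticGroup (Fin n) F), Function.Injective f := by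
  classical
  haveI : NeZero m := ⟨hm0.ne'⟩
  have hq1 : 1 < q := by rw [← hq]; exact Fintype.one_lt_card
  obtain ⟨E, _, _, _, hE⟩ := H17.exists_extension (F := F) (2 * e) (by omega)
  haveI : Module.Finite F E := Module.Finite.of_finite
  haveI : Fintype E := Fintype.ofFinite E
  obtain ⟨g, hg⟩ := H17.exists_orderOf_eq_card_units E
  have hEc : Nat.card E = q ^ (2 * e) := by
    rw [Module.natCard_eq_pow_finrank (K := F) (V := E), hE, Nat.card_eq_fintype_card, hq]
  rw [hEc] at hg
  have hfac : q ^ (2 * e) - 1 = (q ^ e - 1) * (q ^ e + 1) := by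
    have h1 : 1 ≤ q ^ e := Nat.one_le_pow _ _ (by omega)
    have h2 : q ^ (2 * e) = q ^ e * q ^ e := by rw [two_mul, pow_add]
    rw [h2]
    obtain ⟨a, ha⟩ := Nat.exists_eq_add_of_le h1
    rw [ha, Nat.add_sub_cancel_left]
    have : (1 + a) * (1 + a) = a * (1 + a + 1) + 1 := by ring
    rw [this, Nat.add_sub_cancel]
  obtain ⟨c, hc⟩ : m ∣ q ^ (2 * e) - 1 := by rw [hfac]; exact hm.mul_left _
  have hgpos : 0 < q ^ (2 * e) - 1 := by rw [← hg]; exact orderOf_pos _
  have hc0 : c ≠ 0 := by rintro rfl; rw [mul_zero] at hc; omega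
  have hx : orderOf (g ^ c) = m := by
    rw [orderOf_pow_of_dvd hc0 (by rw [hg, hc]; exact Dvd.intro_left _ rfl), hg, hc, Nat.mul_div_cancel _ (Nat.pos_of_ne_zero hc0)]
  let ez : Multiplicative (ZMod m) ≃* Subgroup.zpowers (g ^ c) := mulEquivOfCyclicCardEq (by
    rw [Nat.card_zpowers, hx]; exact Nat.card_zmod m)
  let σ : E ≃ₐ[F] E := (FiniteField.frobeniusAlgEquivOfAlgebraic F E) ^ e
  have hσa : ∀ x, σ x = x ^ (q ^ e) := by
    intro x
    show ((FiniteField.frobeniusAlgEquivOfAlgebraic F E) ^ e) x = _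
    simp only [AlgEquiv.coe_pow, FiniteField.coe_frobeniusAlgEquivOfAlgebraic, pow_iterate, hq]
  have hσσ : ∀ x, σ (σ x) = x := by
    intro x
    rw [hσa, hσa, ← pow_mul, ← pow_add, ← two_mul, ← hEc, Nat.card_eq_fintype_card, FiniteField.pow_card]
  have hσg : (g : E) - σ (g : E) ≠ 0 := by
    intro h
    rw [sub_eq_zero, hσa] at h
    have h1 : g ^ (q ^ e - 1) = 1 := by
      have h2 : g ^ (q ^ e) = g := Units.ext (by push_cast; exact h.symm)
      have h3 : q ^ e = (q ^ e - 1) + 1 := by have : 1 ≤ q ^ e := Nat.one_le_pow _ _ (by omega); omega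
      rw [h3, pow_succ] at h2
      exact mul_eq_right.1 h2
    have h4 := orderOf_dvd_of_pow_eq_one h1
    rw [hg] at h4
    have h5 : 0 < q ^ e - 1 := by have : 1 < q ^ e := Nat.one_lt_pow he.ne' hq1; omega
    have h6 := Nat.le_of_dvd h5 h4
    rw [hfac] at h6
    have h7 : (q ^ e - 1) * 2 ≤ (q ^ e - 1) * (q ^ e + 1) := Nat.mul_le_mul_left _ (by omega)
    omega
  have hnorm : ∀ y : Multiplicative (ZMod m), ((ez y : Eˣ) : E) * σ ((ez y : Eˣ) : E) = 1 := by
    intro y
    rw [hσa, ← pow_succ']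
    have h1 : (ez y : Eˣ) ^ (q ^ e + 1) = 1 := by
      have h2 := pow_card_eq_one' (x := ez y)
      rw [Nat.card_zpowers, hx] at h2
      obtain ⟨s, hs⟩ := hm
      rw [hs, pow_mul]
      have h3 : (ez y : Eˣ) ^ m = 1 := by
        have := congrArg Subtype.val h2
        simpa using this
      rw [h3, one_pow]
    have := congrArg (fun u : Eˣ => (u : E)) h1
    simpa using this
  set t := n - k * e with ht
  let V := (Fin k → E) × (Fin t ⊕ Fin t → F)
  let B : LinearMap.BilinForm F V := BV k t σ ((g : E) - σ (g : E))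
  have hV : finrank F V = 2 * n := by
    rw [Module.finrank_prod, Module.finrank_pi_fintype, finrank_fintype_fun_eq_card, Fintype.card_sum, Fintype.card_fin]
    simp only [hE, Finset.sum_const, Finset.card_univ, Fintype.card_fin, smul_eq_mul]
    have : k * (2 * e) = 2 * (k * e) := by ring
    omega
  obtain ⟨L, hL⟩ := H5.exists_symp_iso (B := B) (BV_alt k t σ hσσ _) (BV_nd k t σ hσg) hV
  let h : (Fin k → Multiplicative (ZMod m)) →* Module.End F V :=
    { toFun := fun y => LinearMap.prodMap (LinearMap.pi (fun i => (LinearMap.mulLeft F ((ez (y i) : Eˣ) : E)) ∘ₗ LinearMap.proj i)) LinearMap.id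
      map_one' := by
        apply LinearMap.ext
        intro v
        apply Prod.ext
        · funext i
          show ((ez ((1 : Fin k → Multiplicative (ZMod m)) i) : Eˣ) : E) * v.1 i = v.1 i
          simp
        · rfl
      map_mul' := fun a b => by
        apply LinearMap.ext
        intro v
        apply Prod.ext
        · funext i
          show ((ez ((a * b) i) : Eˣ) : E) * v.1 i = ((ez (a i) : Eˣ) : E) * (((ez (b i) : Eˣ) : E) * v.1 i)
          simp [mul_assoc]
        · rfl }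
  let Λ : (Fin k → Multiplicative (ZMod m)) →* (V ≃ₗ[F] V) := (LinearMap.GeneralLinearGroup.generalLinearEquiv F V).toMonoidHom.comp h.toHomUnits
  have hΛ : ∀ y v, Λ y v = h y v := fun y v => rfl
  have hB : ∀ y v w, B (Λ y v) (Λ y w) = B v w := by
    intro y v w
    rw [hΛ, hΛ, BV_apply, BV_apply]
    congr 1
    apply Finset.sum_congr rfl
    intro i _
    show Algebra.trace F E (((g : E) - σ (g : E)) * (((ez (y i) : Eˣ) : E) * v.1 i) * σ (((ez (y i) : Eˣ) : E) * w.1 i)) = _
    congr 1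
    rw [map_mul]
    linear_combination (((g : E) - σ (g : E)) * v.1 i * σ (w.1 i)) * hnorm (y i)
  let Ψ : (Fin k → Multiplicative (ZMod m)) →* H5.IsoG (H5.sympB n F) :=
    { toFun := fun y => ⟨(L.symm.trans (Λ y)).trans L, fun u v => by
        show H5.sympB n F (L (Λ y (L.symm u))) (L (Λ y (L.symm v))) = _
        rw [hL, hB, ← hL, L.apply_symm_apply, L.apply_symm_apply]⟩
      map_one' := by
        apply Subtype.ext
        apply LinearEquiv.ext
        intro u
        show L (Λ 1 (L.symm u)) = u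
        rw [map_one, LinearEquiv.coe_one, id, L.apply_symm_apply]
      map_mul' := fun a b => by
        apply Subtype.ext
        apply LinearEquiv.ext
        intro u
        show L (Λ (a * b) (L.symm u)) = L (Λ a (L.symm (L (Λ b (L.symm u)))))
        rw [map_mul, LinearEquiv.mul_apply, L.symm_apply_apply] }
  refine ⟨(H5.spIso n F).symm.toMonoidHom.comp Ψ, ?_⟩
  intro a b hab
  have h1 : Ψ a = Ψ b := (H5.spIso n F).symm.injective hab
  have h2 : ∀ v, Λ a v = Λ b v := by
    intro v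
    have h3 := LinearEquiv.congr_fun (congrArg Subtype.val h1) (L v)
    have h4 : L (Λ a (L.symm (L v))) = L (Λ b (L.symm (L v))) := h3
    rw [L.symm_apply_apply] at h4
    exact L.injective h4
  funext i
  have h5 := congrFun (congrArg Prod.fst (h2 (fun _ => 1, 0))) i
  have h6 : ((ez (a i) : Eˣ) : E) * 1 = ((ez (b i) : Eˣ) : E) * 1 := h5
  rw [mul_one, mul_one] at h6
  exact ez.injective (Subtype.ext (Units.ext h6))

/-- `GL_n` inside `Sp_2n` -/
noncomputable def glsp (n : ℕ) : GL (Fin n) F →* ↥(Matrix.symplecticGroup (Fin n) F) where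
  toFun g := LSB.MA (g : Matrix (Fin n) (Fin n) F) ((g⁻¹ : GL (Fin n) F) : Matrix (Fin n) (Fin n) F) (congrArg (fun x : GL (Fin n) F => (x : Matrix (Fin n) (Fin n) F)) (mul_inv_cancel g))
  map_one' := by
    apply Subtype.ext
    show fromBlocks ((1 : GL (Fin n) F) : Matrix (Fin n) (Fin n) F) 0 0 (((1 : GL (Fin n) F)⁻¹ : GL (Fin n) F) : Matrix (Fin n) (Fin n) F)ᵀ = 1
    rw [inv_one, Units.val_one, transpose_one, fromBlocks_one]
  map_mul' g h := by
    apply Subtype.ext
    show fromBlocks ((g * h : GL (Fin n) F) : Matrix (Fin n) (Fin n) F) 0 0 (((g * h)⁻¹ : GL (Fin n) F) : Matrix (Fin n) (Fin n) F)ᵀ =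
      fromBlocks (g : Matrix (Fin n) (Fin n) F) 0 0 ((g⁻¹ : GL (Fin n) F) : Matrix (Fin n) (Fin n) F)ᵀ * fromBlocks (h : Matrix (Fin n) (Fin n) F) 0 0 ((h⁻¹ : GL (Fin n) F) : Matrix (Fin n) (Fin n) F)ᵀ
    rw [fromBlocks_multiply, _root_.mul_inv_rev, Units.val_mul, Units.val_mul, transpose_mul]
    simp

lemma glsp_inj (n : ℕ) : Function.Injective (glsp (F := F) n) := by
  intro g h hgh
  have h1 : fromBlocks (g : Matrix (Fin n) (Fin n) F) 0 0 ((g⁻¹ : GL (Fin n) F) : Matrix (Fin n) (Fin n) F)ᵀ =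
    fromBlocks (h : Matrix (Fin n) (Fin n) F) 0 0 ((h⁻¹ : GL (Fin n) F) : Matrix (Fin n) (Fin n) F)ᵀ := congrArg Subtype.val hgh
  rw [fromBlocks_inj] at h1
  exact Units.ext h1.1

theorem syl_sp (hq : Fintype.card F = q) (hrq : ¬ r ∣ q) (hr2 : r ≠ 2) {n : ℕ} (hn : n < r) (P : Sylow r ↥(Matrix.symplecticGroup (Fin n) F)) :
    Nonempty (↥(P : Subgroup ↥(Matrix.symplecticGroup (Fin n) F)) ≃*
      (Fin ((Finset.Icc 1 n).filter (fun i => orderOf (q : ZMod r) ∣ 2 * i)).card →
        Multiplicative (ZMod (r ^ padicValNat r ((Polynomial.cyclotomic (orderOf (q : ZMod r)) ℤ).eval (q : ℤ)).natAbs)))) := by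
  classical
  have hq1 : 1 < q := by rw [← hq]; exact Fintype.one_lt_card
  rw [val_cyc hq1 hrq]
  have hval := val_sp (F := F) hq hrq hr2 hn
  set d := orderOf (q : ZMod r) with hd
  have hd0 : 0 < d := ord_pos hrq
  set a := (q ^ d - 1).factorization r with ha
  haveI : NeZero (r ^ a) := ⟨(pow_pos hr.out.pos _).ne'⟩
  haveI : Finite (Multiplicative (ZMod (r ^ a))) := inferInstanceAs (Finite (ZMod _))
  have hcard : ∀ k, Nat.card (Fin k → Multiplicative (ZMod (r ^ a))) = r ^ (k * a) := by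
    intro k
    rw [Nat.card_fun, Nat.card_eq_fintype_card (α := Fin k), Fintype.card_fin, mul_comm, pow_mul]
    congr 1
    exact Nat.card_zmod _
  rcases Nat.even_or_odd d with hev | hodd
  · obtain ⟨e, he⟩ := hev
    have he0 : 0 < e := by omega
    have hcnt : ((Finset.Icc 1 n).filter (fun i => d ∣ 2 * i)).card = n / e := by
      rw [← Nat.Ioc_filter_dvd_card_eq_div]
      congr 1
      ext i
      simp only [Finset.mem_filter, Finset.mem_Icc, Finset.mem_Ioc]
      have : d ∣ 2 * i ↔ e ∣ i := by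
        rw [he, ← two_mul]
        exact Nat.mul_dvd_mul_iff_left (by norm_num)
      rw [this]
      constructor
      · rintro ⟨⟨h1, h2⟩, h3⟩; exact ⟨⟨by omega, h2⟩, h3⟩
      · rintro ⟨⟨h1, h2⟩, h3⟩; exact ⟨⟨by omega, h2⟩, h3⟩
    have hm : r ^ a ∣ q ^ e + 1 := by
      have h1 : q ^ d - 1 = (q ^ e - 1) * (q ^ e + 1) := by
        have h1 : 1 ≤ q ^ e := Nat.one_le_pow _ _ (by omega)
        have h2 : q ^ d = q ^ e * q ^ e := by rw [he, pow_add]
        rw [h2]
        obtain ⟨a, ha⟩ := Nat.exists_eq_add_of_le h1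
        rw [ha, Nat.add_sub_cancel_left]
        have : (1 + a) * (1 + a) = a * (1 + a + 1) + 1 := by ring
        rw [this, Nat.add_sub_cancel]
      have h2 : r ^ a ∣ (q ^ e - 1) * (q ^ e + 1) := by rw [← h1]; exact Nat.ordProj_dvd _ _
      apply Nat.Coprime.dvd_of_dvd_mul_left _ h2
      apply Nat.Coprime.pow_left
      rw [Nat.Prime.coprime_iff_not_dvd hr.out, dvd_iff hq1, ← hd]
      intro h
      have := Nat.le_of_dvd he0 h
      omega
    obtain ⟨f, hf⟩ := sp_embed_even (F := F) hq (k := n / e) (n := n) he0 (Nat.div_mul_le_self n e) (pow_pos hr.out.pos a) hm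
    rw [hcnt] at hval ⊢
    exact sylow_of_embed f hf (by rw [hcard, hval]) P
  · have hcnt : ((Finset.Icc 1 n).filter (fun i => d ∣ 2 * i)).card = n / d := by
      rw [← Nat.Ioc_filter_dvd_card_eq_div]
      congr 1
      ext i
      simp only [Finset.mem_filter, Finset.mem_Icc, Finset.mem_Ioc]
      have : d ∣ 2 * i ↔ d ∣ i := by
        constructor
        · intro h; exact (Nat.Coprime.dvd_mul_left (Nat.Coprime.symm (Nat.coprime_two_left.2 hodd))).1 h
        · intro h; exact h.mul_left 2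
      rw [this]
      constructor
      · rintro ⟨⟨h1, h2⟩, h3⟩; exact ⟨⟨by omega, h2⟩, h3⟩
      · rintro ⟨⟨h1, h2⟩, h3⟩; exact ⟨⟨by omega, h2⟩, h3⟩
    obtain ⟨f, hf⟩ := gl_embed (F := F) hq (k := n / d) (n := n) hd0 (Nat.div_mul_le_self n d) (pow_pos hr.out.pos a) (Nat.ordProj_dvd _ _)
    rw [hcnt] at hval ⊢
    exact sylow_of_embed ((glsp n).comp f) ((glsp_inj n).comp hf) (by rw [hcard, hval]) P

end sp

end Cfsg.Agent.H16.SylB
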