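import Mathlib
import Cfsg.Agent.H16.PGr5
import Cfsg.Agent.H16.SylB2

set_option autoImplicit false
set_option linter.all false

/-! Element orders in `PSp_2n(q)`: tools. -/

namespace Cfsg.Agent.H16.PGr

open Polynomial Module

section quot
variable {G : Type*} [Group G]

lemma orderOf_mk' {Z : Subgroup G} [Z.Normal] {e : ℕ} (hZ : ∀ z ∈ Z, z ^ e = 1) {x : G} (h : (orderOf x).Coprime e) :
    orderOf (QuotientGroup.mk x : G ⧸ Z) = orderOf x := by
  apply Nat.dvd_antisymm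
  · apply orderOf_dvd_of_pow_eq_one
    rw [← QuotientGroup.mk_pow, pow_orderOf_eq_one]; rfl
  · have h1 : (QuotientGroup.mk x : G ⧸ Z) ^ (orderOf (QuotientGroup.mk x : G ⧸ Z)) = 1 := pow_orderOf_eq_one _
    rw [← QuotientGroup.mk_pow, QuotientGroup.eq_one_iff] at h1
    have h2 := hZ _ h1
    rw [← pow_mul] at h2
    exact h.dvd_of_dvd_mul_right (orderOf_dvd_of_pow_eq_one h2)

lemma exists_lift' {Z : Subgroup G} [Z.Normal] {e : ℕ} (hZ : ∀ z ∈ Z, z ^ e = 1) {g : G ⧸ Z} {N : ℕ} (hg : orderOf g = N) (hN : N.Coprime e) :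
    ∃ x : G, orderOf x = N := by
  obtain ⟨x, rfl⟩ := QuotientGroup.mk_surjective g
  refine ⟨x ^ e, ?_⟩
  apply Nat.dvd_antisymm
  · apply orderOf_dvd_of_pow_eq_one
    rw [← pow_mul, mul_comm, pow_mul]
    apply hZ
    rw [← QuotientGroup.eq_one_iff, QuotientGroup.mk_pow, ← hg]
    exact pow_orderOf_eq_one _
  · rw [← hg]
    have h2 : (orderOf (QuotientGroup.mk x : G ⧸ Z)) ∣ e * orderOf (x ^ e) := by
      apply orderOf_dvd_of_pow_eq_one
      rw [pow_mul, ← QuotientGroup.mk_pow, ← QuotientGroup.mk_pow, pow_orderOf_eq_one]; rfl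
    rw [← hg] at hN
    exact hN.dvd_of_dvd_mul_left h2

end quot

section spsum
variable {F : Type*} [Field F] {l l' : Type*} [Fintype l] [DecidableEq l] [Fintype l'] [DecidableEq l']

/-- block sum of symplectic matrices -/
lemma spSum_mem {A B C D : Matrix l l F} {A' B' C' D' : Matrix l' l' F} (h : Matrix.fromBlocks A B C D ∈ Matrix.symplecticGroup l F)
    (h' : Matrix.fromBlocks A' B' C' D' ∈ Matrix.symplecticGroup l' F) :
    Matrix.fromBlocks (Matrix.fromBlocks A 0 0 A') (Matrix.fromBlocks B 0 0 B') (Matrix.fromBlocks C 0 0 C') (Matrix.fromBlocks D 0 0 D') ∈ Matrix.symplecticGroup (l ⊕ l') F := by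
  rw [SymplecticGroup.fromBlocks_mem_iff] at h h' ⊢
  simp only [Matrix.fromBlocks_transpose, Matrix.fromBlocks_multiply, Matrix.transpose_zero, Matrix.mul_zero, Matrix.zero_mul, add_zero, zero_add]
  refine ⟨by rw [h.1, h'.1], by rw [h.2.1, h'.2.1], ?_⟩
  rw [← Matrix.fromBlocks_one, ← h.2.2, ← h'.2.2]
  ext i j
  rcases i with i | i <;> rcases j with j | j <;> simp

/-- block sum of matrices -/
noncomputable def ss (M : Matrix (l ⊕ l) (l ⊕ l) F) (N : Matrix (l' ⊕ l') (l' ⊕ l') F) : Matrix ((l ⊕ l') ⊕ (l ⊕ l')) ((l ⊕ l') ⊕ (l ⊕ l')) F :=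
  Matrix.fromBlocks (Matrix.fromBlocks M.toBlocks₁₁ 0 0 N.toBlocks₁₁) (Matrix.fromBlocks M.toBlocks₁₂ 0 0 N.toBlocks₁₂)
    (Matrix.fromBlocks M.toBlocks₂₁ 0 0 N.toBlocks₂₁) (Matrix.fromBlocks M.toBlocks₂₂ 0 0 N.toBlocks₂₂)

lemma ss_mem {M : Matrix (l ⊕ l) (l ⊕ l) F} {N : Matrix (l' ⊕ l') (l' ⊕ l') F} (hM : M ∈ Matrix.symplecticGroup l F) (hN : N ∈ Matrix.symplecticGroup l' F) :
    ss M N ∈ Matrix.symplecticGroup (l ⊕ l') F := by
  rw [← Matrix.fromBlocks_toBlocks M] at hM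
  rw [← Matrix.fromBlocks_toBlocks N] at hN
  exact spSum_mem hM hN

lemma ss_one : ss (1 : Matrix (l ⊕ l) (l ⊕ l) F) (1 : Matrix (l' ⊕ l') (l' ⊕ l') F) = 1 := by
  ext i j
  rcases i with (i | i) | (i | i) <;> rcases j with (j | j) | (j | j) <;> simp [ss, Matrix.toBlocks₁₁, Matrix.toBlocks₁₂, Matrix.toBlocks₂₁, Matrix.toBlocks₂₂, Matrix.one_apply]

lemma ss_mul (M M' : Matrix (l ⊕ l) (l ⊕ l) F) (N N' : Matrix (l' ⊕ l') (l' ⊕ l') F) : ss (M * M') (N * N') = ss M N * ss M' N' := by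
  unfold ss
  rw [← Matrix.fromBlocks_toBlocks M, ← Matrix.fromBlocks_toBlocks M', ← Matrix.fromBlocks_toBlocks N, ← Matrix.fromBlocks_toBlocks N']
  simp only [Matrix.fromBlocks_multiply, Matrix.toBlocks_fromBlocks₁₁, Matrix.toBlocks_fromBlocks₁₂, Matrix.toBlocks_fromBlocks₂₁, Matrix.toBlocks_fromBlocks₂₂,
      Matrix.mul_zero, Matrix.zero_mul, add_zero, zero_add]
  congr 1 <;> (ext i j; rcases i with i | i <;> rcases j with j | j <;> simp)

lemma ss_inj {M M' : Matrix (l ⊕ l) (l ⊕ l) F} {N N' : Matrix (l' ⊕ l') (l' ⊕ l') F} (h : ss M N = ss M' N') : M = M' ∧ N = N' := by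
  unfold ss at h
  rw [Matrix.fromBlocks_inj, Matrix.fromBlocks_inj, Matrix.fromBlocks_inj, Matrix.fromBlocks_inj, Matrix.fromBlocks_inj] at h
  obtain ⟨⟨a1, -, -, a2⟩, ⟨b1, -, -, b2⟩, ⟨c1, -, -, c2⟩, ⟨d1, -, -, d2⟩⟩ := h
  constructor
  · rw [← Matrix.fromBlocks_toBlocks M, ← Matrix.fromBlocks_toBlocks M', a1, b1, c1, d1]
  · rw [← Matrix.fromBlocks_toBlocks N, ← Matrix.fromBlocks_toBlocks N', a2, b2, c2, d2]

noncomputable def spSum : (↥(Matrix.symplecticGroup l F)) × (↥(Matrix.symplecticGroup l' F)) →* ↥(Matrix.symplecticGroup (l ⊕ l') F) where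
  toFun g := ⟨ss g.1.1 g.2.1, ss_mem g.1.2 g.2.2⟩
  map_one' := Subtype.ext ss_one
  map_mul' g h := Subtype.ext (ss_mul _ _ _ _)

lemma spSum_inj : Function.Injective (spSum (F := F) (l := l) (l' := l')) := by
  intro g h hgh
  have h1 : ss g.1.1 g.2.1 = ss h.1.1 h.2.1 := congrArg Subtype.val hgh
  exact Prod.ext (Subtype.ext (ss_inj h1).1) (Subtype.ext (ss_inj h1).2)

lemma re_mem (e : l ≃ l') {M : Matrix (l ⊕ l) (l ⊕ l) F} (hM : M ∈ Matrix.symplecticGroup l F) :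
    Matrix.reindex (e.sumCongr e) (e.sumCongr e) M ∈ Matrix.symplecticGroup l' F := by
  rw [SymplecticGroup.mem_iff] at hM ⊢
  have hJ : Matrix.J l' F = Matrix.reindex (e.sumCongr e) (e.sumCongr e) (Matrix.J l F) := by
    ext i j
    rcases i with i | i <;> rcases j with j | j <;> simp [Matrix.J, Matrix.one_apply]
  rw [hJ, ← hM]
  simp only [Matrix.reindex_apply, Matrix.transpose_submatrix, Matrix.submatrix_mul_equiv, hM]

noncomputable def spRe (e : l ≃ l') : ↥(Matrix.symplecticGroup l F) →* ↥(Matrix.symplecticGroup l' F) where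
  toFun g := ⟨Matrix.reindex (e.sumCongr e) (e.sumCongr e) g.1, re_mem e g.2⟩
  map_one' := by
    apply Subtype.ext
    show Matrix.reindex _ _ (1 : Matrix (l ⊕ l) (l ⊕ l) F) = 1
    rw [Matrix.reindex_apply, Matrix.submatrix_one_equiv]
  map_mul' g h := by
    apply Subtype.ext
    show Matrix.reindex _ _ (g.1 * h.1) = Matrix.reindex _ _ g.1 * Matrix.reindex _ _ h.1
    rw [Matrix.reindex_apply, Matrix.reindex_apply, Matrix.reindex_apply, Matrix.submatrix_mul_equiv]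

lemma spRe_inj (e : l ≃ l') : Function.Injective (spRe (F := F) e) := by
  intro g h hgh
  exact Subtype.ext ((Matrix.reindex (e.sumCongr e) (e.sumCongr e)).injective (congrArg Subtype.val hgh))

theorem sp_order_prod {a b n N M : ℕ} (hab : a + b ≤ n) (hx : ∃ x : ↥(Matrix.symplecticGroup (Fin a) F), orderOf x = N)
    (hy : ∃ y : ↥(Matrix.symplecticGroup (Fin b) F), orderOf y = M) : ∃ z : ↥(Matrix.symplecticGroup (Fin n) F), orderOf z = Nat.lcm N M := by
  obtain ⟨x, hx⟩ := hx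
  obtain ⟨y, hy⟩ := hy
  let e : (Fin a ⊕ Fin b) ⊕ Fin (n - a - b) ≃ Fin n := Fintype.equivOfCardEq (by simp; omega)
  refine ⟨spRe e (spSum (spSum (x, y), 1)), ?_⟩
  rw [orderOf_injective _ (spRe_inj e), orderOf_injective _ spSum_inj, Prod.orderOf_mk, orderOf_injective _ spSum_inj, Prod.orderOf_mk, orderOf_one,
    Nat.lcm_one_right, hx, hy]

theorem sp_order_le {a n N : ℕ} (ha : a ≤ n) (hx : ∃ x : ↥(Matrix.symplecticGroup (Fin a) F), orderOf x = N) :
    ∃ z : ↥(Matrix.symplecticGroup (Fin n) F), orderOf z = N := by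
  have := sp_order_prod (F := F) (a := a) (b := 0) (n := n) (by omega) hx ⟨1, orderOf_one⟩
  rwa [Nat.lcm_one_right] at this

end spsum

section exi
variable {F : Type*} [Field F] [Fintype F]

lemma sp_order_plus {a N : ℕ} (ha : 0 < a) (hN0 : 0 < N) (hN : N ∣ Fintype.card F ^ a + 1) : ∃ x : ↥(Matrix.symplecticGroup (Fin a) F), orderOf x = N := by
  classical
  obtain ⟨f, hf⟩ := SylB.sp_embed_even (F := F) rfl (e := a) (k := 1) (n := a) ha (by omega) hN0 hN
  refine ⟨f (fun _ => Multiplicative.ofAdd 1), ?_⟩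
  rw [orderOf_injective _ hf]
  haveI : NeZero N := ⟨hN0.ne'⟩
  have h1 : ∀ j : ℕ, (fun _ => Multiplicative.ofAdd 1 : Fin 1 → Multiplicative (ZMod N)) ^ j = 1 ↔ N ∣ j := by
    intro j
    rw [← ZMod.natCast_eq_zero_iff]
    constructor
    · intro h
      have h2 := congrFun h 0
      have h3 := congrArg Multiplicative.toAdd h2
      simpa using h3
    · intro h
      funext i
      apply Multiplicative.toAdd.injective
      simpa using h
  apply Nat.dvd_antisymm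
  · exact orderOf_dvd_of_pow_eq_one ((h1 _).2 dvd_rfl)
  · exact (h1 _).1 (pow_orderOf_eq_one _)

lemma sp_order_minus {a N : ℕ} (ha : 0 < a) (hN0 : 0 < N) (hN : N ∣ Fintype.card F ^ a - 1) : ∃ x : ↥(Matrix.symplecticGroup (Fin a) F), orderOf x = N := by
  obtain ⟨E, i1, i2, i3, hE, u, hu⟩ := exists_field_unit (F := F) (d := a) ha.ne' hN0.ne' hN
  haveI : FiniteDimensional F E := Module.Finite.of_finite
  obtain ⟨φ, hφ⟩ := H17.exists_unitsHom_gl hE
  exact ⟨SylB.glsp a (φ u), by rw [orderOf_injective _ (SylB.glsp_inj a), orderOf_injective _ hφ, hu]⟩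

end exi

end Cfsg.Agent.H16.PGr
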