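import Mathlib
import Cfsg.Agent.H16.PGr6
import Cfsg.Agent.H5.SpSimple
import Cfsg.Agent.H5.SpOrder

set_option autoImplicit false
set_option linter.all false

/-! Element orders in `PSp_2n(q)`. -/

namespace Cfsg.Agent.H16.PGr

open Polynomial Module

section ev
variable {F : Type*} [Field F] [Fintype F] {l : Type*} [Fintype l] [DecidableEq l]

lemma Ev.inv {x : Matrix (l ⊕ l) (l ⊕ l) F} (hx : x ∈ Matrix.symplecticGroup l F) {z : AlgebraicClosure F} (h : Ev x z) : Ev x z⁻¹ := by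
  have hJ : Matrix.J l F * Matrix.J l F = -1 := Matrix.J_squared l F
  let Ju : (Matrix (l ⊕ l) (l ⊕ l) F)ˣ := ⟨Matrix.J l F, -Matrix.J l F, by rw [mul_neg, hJ, neg_neg], by rw [neg_mul, hJ, neg_neg]⟩
  set y : Matrix (l ⊕ l) (l ⊕ l) F := -Matrix.J l F * x.transpose * Matrix.J l F with hy
  have hyx : y * x = 1 := by
    have h1 := SymplecticGroup.mem_iff'.1 hx
    rw [hy, mul_assoc, mul_assoc, ← mul_assoc x.transpose, h1, neg_mul, hJ, neg_neg]
  have hxy : x * y = 1 := mul_eq_one_comm.1 hyx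
  have hcp : y.charpoly = x.charpoly := by
    rw [← Matrix.charpoly_transpose x]
    have := Matrix.charpoly_units_conj Ju⁻¹ x.transpose
    rw [← this, ← Matrix.coe_units_inv, inv_inv]
    rfl
  let u : (Matrix (l ⊕ l) (l ⊕ l) (AlgebraicClosure F))ˣ := ⟨x.map (algebraMap F (AlgebraicClosure F)), y.map (algebraMap F (AlgebraicClosure F)), by
      rw [← Matrix.map_mul, hxy, Matrix.map_one _ (map_zero _) (map_one _)], by
      rw [← Matrix.map_mul, hyx, Matrix.map_one _ (map_zero _) (map_one _)]⟩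
  have h1 : z ∈ spectrum (AlgebraicClosure F) (y.map (algebraMap F (AlgebraicClosure F))) := by
    have h2 : Ev y z := by unfold Ev at h ⊢; rw [hcp]; exact h
    exact h2.spec
  have h2 : z ∈ spectrum (AlgebraicClosure F) ((u⁻¹ : (Matrix (l ⊕ l) (l ⊕ l) (AlgebraicClosure F))ˣ) : Matrix (l ⊕ l) (l ⊕ l) (AlgebraicClosure F)) := h1
  rw [← spectrum.inv₀_mem_iff] at h2
  have h3 : z⁻¹ ∈ spectrum (AlgebraicClosure F) (x.map (algebraMap F (AlgebraicClosure F))) := h2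
  rw [Matrix.mem_spectrum_iff_isRoot_charpoly, Matrix.charpoly_map, IsRoot, eval_map_algebraMap] at h3
  exact h3

/-- the exponent group for the symplectic group -/
noncomputable def HS (F : Type*) [Fintype F] (N : ℕ) (h : (Fintype.card F).Coprime N) : Subgroup (ZMod N)ˣ := Subgroup.closure {qu F N h, -1}

lemma pow_neg_one {N : ℕ} [NeZero N] {w : AlgebraicClosure F} (hw : w ^ N = 1) : w ^ (((-1 : (ZMod N)ˣ) : ZMod N)).val = w⁻¹ := by
  have h1 : N ∣ (((-1 : (ZMod N)ˣ) : ZMod N)).val + 1 := by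
    rw [← ZMod.natCast_eq_zero_iff]
    push_cast
    rw [ZMod.natCast_zmod_val]
    simp
  obtain ⟨c, hc⟩ := h1
  apply eq_inv_of_mul_eq_one_left
  rw [← pow_succ, hc, pow_mul, hw, one_pow]

lemma ev_HS {x : Matrix (l ⊕ l) (l ⊕ l) F} (hx : x ∈ Matrix.symplecticGroup l F) {N : ℕ} [NeZero N] (h : (Fintype.card F).Coprime N) :
    ∀ u ∈ ({qu F N h, -1} : Set (ZMod N)ˣ), ∀ w : AlgebraicClosure F, w ^ N = 1 → Ev x w → Ev x (w ^ (u : ZMod N).val) := by
  intro u hu w hw hE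
  rcases hu with rfl | hu
  · exact ev_qu h w hw hE
  · rw [Set.mem_singleton_iff] at hu
    subst hu
    rw [pow_neg_one hw]
    exact hE.inv hx

theorem sp1 {x : Matrix (l ⊕ l) (l ⊕ l) F} (hx : x ∈ Matrix.symplecticGroup l F) {N : ℕ} [NeZero N] (h : (Fintype.card F).Coprime N)
    {z : AlgebraicClosure F} (hz : orderOf z = N) (hE : Ev x z) :
    Nat.card (HS F N h) ≤ 2 * Fintype.card l := by
  rw [← card_orb hz]
  have h1 := Ev.card_le (x := x) (S := orb N z (HS F N h)) (fun w hw => ev_orb hz _ (ev_HS hx h) hE hw)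
  rw [Fintype.card_sum] at h1
  omega

theorem sp2 {x : Matrix (l ⊕ l) (l ⊕ l) F} (hx : x ∈ Matrix.symplecticGroup l F) {N M : ℕ} [NeZero N] [NeZero M] (h : (Fintype.card F).Coprime N) (h' : (Fintype.card F).Coprime M)
    {z w : AlgebraicClosure F} (hz : orderOf z = N) (hw : orderOf w = M) (hE : Ev x z) (hE' : Ev x w) (hNM : N ≠ M) :
    Nat.card (HS F N h) + Nat.card (HS F M h') ≤ 2 * Fintype.card l := by
  classical
  rw [← card_orb hz, ← card_orb hw, ← Finset.card_union_of_disjoint]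
  · have h1 := Ev.card_le (x := x) (S := orb N z (HS F N h) ∪ orb M w (HS F M h')) (fun v hv => by
      rw [Finset.mem_union] at hv
      rcases hv with hv | hv
      · exact ev_orb hz _ (ev_HS hx h) hE hv
      · exact ev_orb hw _ (ev_HS hx h') hE' hv)
    rw [Fintype.card_sum] at h1
    omega
  · rw [Finset.disjoint_left]
    intro v hv hv'
    exact hNM ((orderOf_orb hz hv).symm.trans (orderOf_orb hw hv'))

lemma dvd_HS {N : ℕ} (h : (Fintype.card F).Coprime N) : orderOf ((Fintype.card F : ℕ) : ZMod N) ∣ Nat.card (HS F N h) := by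
  rw [← orderOf_qu N h, ← Nat.card_zpowers]
  apply Subgroup.card_dvd_of_le
  rw [Subgroup.zpowers_le]
  exact Subgroup.subset_closure (by simp)

lemma two_dvd_HS {N : ℕ} (hN : 2 < N) (h : (Fintype.card F).Coprime N) : 2 ∣ Nat.card (HS F N h) := by
  have h1 : orderOf (-1 : (ZMod N)ˣ) = 2 := by
    haveI : Fact (Nat.Prime 2) := ⟨Nat.prime_two⟩
    apply orderOf_eq_prime
    · simp
    · intro h2
      have h3 := congrArg Units.val h2
      haveI : Fact (2 < N) := ⟨hN⟩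
      exact ZMod.neg_one_ne_one (n := N) (by simpa using h3)
  rw [← h1, ← Nat.card_zpowers]
  apply Subgroup.card_dvd_of_le
  rw [Subgroup.zpowers_le]
  exact Subgroup.subset_closure (by simp)

lemma HS_ge {N : ℕ} [NeZero N] (hN : 2 < N) (h : (Fintype.card F).Coprime N) {k ηk : ℕ} (hk : k = orderOf ((Fintype.card F : ℕ) : ZMod N))
    (hηk : (Odd k ∧ ηk = k) ∨ (Even k ∧ 2 * ηk = k)) : 2 * ηk ≤ Nat.card (HS F N h) := by
  have h1 : k ∣ Nat.card (HS F N h) := by rw [hk]; exact dvd_HS h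
  rcases hηk with ⟨ho, rfl⟩ | ⟨he, h2⟩
  · exact Nat.le_of_dvd Nat.card_pos (Nat.Coprime.mul_dvd_of_dvd_of_dvd (by
      rw [Nat.coprime_two_left]; exact ho) (two_dvd_HS hN h) h1)
  · rw [h2]
    exact Nat.le_of_dvd Nat.card_pos h1

lemma HS_ge2 {N : ℕ} [NeZero N] (h : (Fintype.card F).Coprime N) (hno : (-1 : (ZMod N)ˣ) ∉ Subgroup.zpowers (qu F N h)) :
    2 * orderOf ((Fintype.card F : ℕ) : ZMod N) ≤ Nat.card (HS F N h) := by
  have hle : Subgroup.zpowers (qu F N h) ≤ HS F N h := by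
    rw [Subgroup.zpowers_le]
    exact Subgroup.subset_closure (by simp)
  obtain ⟨c, hc⟩ := Subgroup.card_dvd_of_le hle
  rw [← orderOf_qu N h, ← Nat.card_zpowers, hc]
  have hc2 : 2 ≤ c := by
    by_contra hcon
    have : c = 0 ∨ c = 1 := by omega
    rcases this with rfl | rfl
    · rw [mul_zero] at hc
      exact Nat.card_pos.ne' hc
    · rw [mul_one] at hc
      apply hno
      have h3 : Subgroup.zpowers (qu F N h) = HS F N h := Subgroup.eq_of_le_of_card_ge hle hc.le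
      rw [h3]
      exact Subgroup.subset_closure (by simp)
  rw [mul_comm 2]
  exact Nat.mul_le_mul_left _ hc2

/-- arithmetic -/
lemma arithA {k l M ηk ηl : ℕ} (hM : 0 < M) (hkM : k ∣ M) (hlM : l ∣ M) (hk0 : 0 < k) (hl0 : 0 < l)
    (hηk : (Odd k ∧ ηk = k) ∨ (Even k ∧ 2 * ηk = k)) (hηl : (Odd l ∧ ηl = l) ∨ (Even l ∧ 2 * ηl = l)) (hkl : ηk ≤ ηl)
    (hno : ¬ ∃ t : ℕ, Odd t ∧ l = k * t) : 2 * ηk + 2 * ηl ≤ 2 * M := by
  rcases hηk with ⟨ho, rfl⟩ | ⟨he, h2⟩
  · rcases hηl with ⟨ho', rfl⟩ | ⟨he', h2'⟩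
    · obtain ⟨c, hc⟩ := hlM
      have hc2 : 2 ≤ c := by
        by_contra hcon
        have : c = 0 ∨ c = 1 := by omega
        rcases this with rfl | rfl
        · omega
        · rw [mul_one] at hc
          rw [hc] at hkM
          obtain ⟨t, ht⟩ := hkM
          exact hno ⟨t, by rw [ht] at ho'; exact (Nat.odd_mul.1 ho').2, ht⟩
      nlinarith
    · have h3 : 2 * ηk ≤ M := Nat.le_of_dvd hM (Nat.Coprime.mul_dvd_of_dvd_of_dvd (by rw [Nat.coprime_two_left]; exact ho) (he'.two_dvd.trans hlM) hkM)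
      have h4 := Nat.le_of_dvd hM hlM
      omega
  · rcases hηl with ⟨ho', rfl⟩ | ⟨he', h2'⟩
    · have h3 : 2 * ηl ≤ M := Nat.le_of_dvd hM (Nat.Coprime.mul_dvd_of_dvd_of_dvd (by rw [Nat.coprime_two_left]; exact ho') (he.two_dvd.trans hkM) hlM)
      have h4 := Nat.le_of_dvd hM hkM
      omega
    · have h3 := Nat.le_of_dvd hM hlM
      have h4 := Nat.le_of_dvd hM hkM
      omega

lemma arithB {k l M ηk ηl j : ℕ} (hM : 0 < M) (hkM : k ∣ M) (hlM : l ∣ M) (hk0 : 0 < k) (hl0 : 0 < l)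
    (hηk : (Odd k ∧ ηk = k) ∨ (Even k ∧ 2 * ηk = k)) (hηl : (Odd l ∧ ηl = l) ∨ (Even l ∧ 2 * ηl = l)) (hkl : ηk ≤ ηl)
    (hno : ¬ ∃ t : ℕ, Odd t ∧ l = k * t) (hk1 : k ∣ 2 * j) (hk2 : ¬ k ∣ j) (hl1 : l ∣ 2 * j) (hl2 : ¬ l ∣ j) : 2 * ηk + 2 * ηl ≤ M := by
  have hke : Even k := by
    by_contra h
    rw [Nat.not_even_iff_odd] at h
    exact hk2 (Nat.Coprime.dvd_of_dvd_mul_left (Nat.coprime_two_right.2 h) hk1)
  have hle : Even l := by
    by_contra h
    rw [Nat.not_even_iff_odd] at h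
    exact hl2 (Nat.Coprime.dvd_of_dvd_mul_left (Nat.coprime_two_right.2 h) hl1)
  have h1 : 2 * ηk = k := by
    rcases hηk with ⟨ho, _⟩ | ⟨_, h⟩
    · exact absurd hke (Nat.not_even_iff_odd.2 ho)
    · exact h
  have h2 : 2 * ηl = l := by
    rcases hηl with ⟨ho, _⟩ | ⟨_, h⟩
    · exact absurd hle (Nat.not_even_iff_odd.2 ho)
    · exact h
  rw [h1, h2]
  obtain ⟨c, hc⟩ := hlM
  have hc2 : 2 ≤ c := by
    by_contra hcon
    have : c = 0 ∨ c = 1 := by omega
    rcases this with rfl | rfl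
    · omega
    · rw [mul_one] at hc
      rw [hc] at hkM
      obtain ⟨t, ht⟩ := hkM
      apply hno
      refine ⟨t, ?_, ht⟩
      by_contra hte
      rw [Nat.not_odd_iff_even] at hte
      obtain ⟨s, hs⟩ := hte
      apply hk2
      have h3 : 2 * (k * s) ∣ 2 * j := by
        have : 2 * (k * s) = l := by rw [ht, hs]; ring
        rw [this]; exact hl1
      exact (Dvd.intro _ rfl).trans (Nat.dvd_of_mul_dvd_mul_left (by norm_num) h3)
  nlinarith

theorem HS_ge_rs {r s : ℕ} (hr : r.Prime) (hs : s.Prime) (hr2 : r ≠ 2) (hs2 : s ≠ 2) (hrs : r ≠ s)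
    (hcr : (Fintype.card F).Coprime r) (hcs : (Fintype.card F).Coprime s) (hcop : (Fintype.card F).Coprime (r * s))
    {k l ηk ηl : ℕ} (hk : k = orderOf ((Fintype.card F : ℕ) : ZMod r)) (hl : l = orderOf ((Fintype.card F : ℕ) : ZMod s))
    (hηk : (Odd k ∧ ηk = k) ∨ (Even k ∧ 2 * ηk = k)) (hηl : (Odd l ∧ ηl = l) ∨ (Even l ∧ 2 * ηl = l)) (hkl : ηk ≤ ηl)
    (hno : ¬ ∃ t : ℕ, Odd t ∧ l = k * t) : 2 * ηk + 2 * ηl ≤ Nat.card (HS F (r * s) hcop) := by
  haveI : NeZero r := ⟨hr.ne_zero⟩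
  haveI : NeZero s := ⟨hs.ne_zero⟩
  haveI : NeZero (r * s) := ⟨mul_ne_zero hr.ne_zero hs.ne_zero⟩
  have hkpos : 0 < k := by rw [hk, ← orderOf_qu r hcr]; exact orderOf_pos _
  have hlpos : 0 < l := by rw [hl, ← orderOf_qu s hcs]; exact orderOf_pos _
  have hkM : k ∣ orderOf ((Fintype.card F : ℕ) : ZMod (r * s)) := by rw [hk]; exact ord_dvd_ord (Dvd.intro _ rfl)
  have hlM : l ∣ orderOf ((Fintype.card F : ℕ) : ZMod (r * s)) := by rw [hl]; exact ord_dvd_ord (Dvd.intro_left _ rfl)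
  have hM : 0 < orderOf ((Fintype.card F : ℕ) : ZMod (r * s)) := by rw [← orderOf_qu _ hcop]; exact orderOf_pos _
  by_cases hmem : (-1 : (ZMod (r * s))ˣ) ∈ Subgroup.zpowers (qu F (r * s) hcop)
  · rw [← mem_powers_iff_mem_zpowers] at hmem
    obtain ⟨j, hj⟩ := hmem
    have hj' : ((Fintype.card F : ℕ) : ZMod (r * s)) ^ j = -1 := by
      have := congrArg Units.val hj
      simpa [qu] using this
    have key : ∀ a : ℕ, a.Prime → a ≠ 2 → a ∣ r * s → (orderOf ((Fintype.card F : ℕ) : ZMod a) ∣ 2 * j ∧ ¬ orderOf ((Fintype.card F : ℕ) : ZMod a) ∣ j) := by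
      intro a ha ha2 hdv
      have h1 := congrArg (ZMod.castHom hdv (ZMod a)) hj'
      rw [map_pow, map_natCast, map_neg, map_one] at h1
      constructor
      · rw [orderOf_dvd_iff_pow_eq_one, mul_comm, pow_mul, h1]; simp
      · rw [orderOf_dvd_iff_pow_eq_one, h1]
        haveI : Fact (2 < a) := ⟨by have := ha.two_le; omega⟩
        exact ZMod.neg_one_ne_one
    obtain ⟨hk1, hk2⟩ := key r hr hr2 (Dvd.intro _ rfl)
    obtain ⟨hl1, hl2⟩ := key s hs hs2 (Dvd.intro_left _ rfl)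
    rw [← hk] at hk1 hk2
    rw [← hl] at hl1 hl2
    exact (arithB hM hkM hlM hkpos hlpos hηk hηl hkl hno hk1 hk2 hl1 hl2).trans (Nat.le_of_dvd Nat.card_pos (dvd_HS hcop))
  · exact (arithA hM hkM hlM hkpos hlpos hηk hηl hkl hno).trans (HS_ge2 hcop hmem)

theorem sp_rs_bound {p : ℕ} [Fact p.Prime] [CharP F p] {x : Matrix (l ⊕ l) (l ⊕ l) F} (hxm : x ∈ Matrix.symplecticGroup l F)
    {r s : ℕ} (hr : r.Prime) (hs : s.Prime) (hr2 : r ≠ 2) (hs2 : s ≠ 2) (hrs : r ≠ s) (hrp : r ≠ p) (hsp : s ≠ p)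
    (hx : x ^ (r * s) = 1) (hxr : x ^ r ≠ 1) (hxs : x ^ s ≠ 1)
    {k l' ηk ηl : ℕ} (hk : k = orderOf ((Fintype.card F : ℕ) : ZMod r)) (hl : l' = orderOf ((Fintype.card F : ℕ) : ZMod s))
    (hηk : (Odd k ∧ ηk = k) ∨ (Even k ∧ 2 * ηk = k)) (hηl : (Odd l' ∧ ηl = l') ∨ (Even l' ∧ 2 * ηl = l')) (hkl : ηk ≤ ηl) :
    ηk + ηl ≤ Fintype.card l ∨ ∃ t : ℕ, Odd t ∧ l' = k * t := by
  haveI : NeZero r := ⟨hr.ne_zero⟩
  haveI : NeZero s := ⟨hs.ne_zero⟩
  haveI : NeZero (r * s) := ⟨mul_ne_zero hr.ne_zero hs.ne_zero⟩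
  have hr3 : 2 < r := by have := hr.two_le; omega
  have hs3 : 2 < s := by have := hs.two_le; omega
  have hN : ((r * s : ℕ) : F) ≠ 0 := by
    push_cast
    exact mul_ne_zero (cast_ne hr hrp) (cast_ne hs hsp)
  have hcr := coprime_of_ne (F := F) hr hrp
  have hcs := coprime_of_ne (F := F) hs hsp
  have hcop : (Fintype.card F).Coprime (r * s) := hcr.mul_right hcs
  have hrsord : ∀ z : AlgebraicClosure F, Ev x z → orderOf z = r * s → ηk + ηl ≤ Fintype.card l ∨ ∃ t : ℕ, Odd t ∧ l' = k * t := by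
    intro z hz ho
    by_cases hd : ∃ t : ℕ, Odd t ∧ l' = k * t
    · exact Or.inr hd
    · left
      have h1 := HS_ge_rs (F := F) hr hs hr2 hs2 hrs hcr hcs hcop hk hl hηk hηl hkl hd
      have h2 := sp1 hxm hcop ho hz
      omega
  obtain ⟨z, hz, hzr⟩ : ∃ z : AlgebraicClosure F, Ev x z ∧ z ^ r ≠ 1 := by
    by_contra hcon
    push Not at hcon
    exact hxr (pow_eq_one_of_ev hN hx hcon hr.ne_zero)
  obtain ⟨w, hw, hws⟩ : ∃ z : AlgebraicClosure F, Ev x z ∧ z ^ s ≠ 1 := by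
    by_contra hcon
    push Not at hcon
    exact hxs (pow_eq_one_of_ev hN hx hcon hs.ne_zero)
  rcases ev_cases hr hs hrs (hz.pow_one hx) hzr with h1 | h1
  · rcases ev_cases hs hr hrs.symm (by rw [mul_comm]; exact hw.pow_one hx) hws with h2 | h2
    · left
      have h3 := sp2 hxm hcr hcs h2 h1 hw hz hrs
      have h4 := HS_ge (F := F) hr3 hcr hk hηk
      have h5 := HS_ge (F := F) hs3 hcs hl hηl
      omega
    · exact hrsord w hw (by rw [h2, mul_comm])
  · exact hrsord z hz h1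

end ev

end Cfsg.Agent.H16.PGr
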