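import Mathlib
import Cfsg.Agent.H16.PGr7
import Cfsg.Prelude.Def_Classical

set_option autoImplicit false
set_option linter.all false

/-! Element orders in `PSp_2n(q)`: main theorems. -/

namespace Cfsg.Agent.H16.PGr

open Polynomial Module

section fin
variable {F : Type*} [Field F] [Fintype F]

lemma sp_center_sq {n : ℕ} (hn : 1 ≤ n) : ∀ z ∈ Subgroup.center ↥(Matrix.symplecticGroup (Fin n) F), z ^ 2 = 1 := by
  intro z hz
  obtain ⟨c, hc, hcz⟩ := H5.sp_center_scalar hn hz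
  apply Subtype.ext
  show (z : Matrix (Fin n ⊕ Fin n) (Fin n ⊕ Fin n) F) ^ 2 = 1
  rw [hcz, _root_.smul_pow, one_pow, pow_two, hc, one_smul]

lemma sp_center_two {n : ℕ} [CharP F 2] (hn : 1 ≤ n) : ∀ z ∈ Subgroup.center ↥(Matrix.symplecticGroup (Fin n) F), z ^ 1 = 1 := by
  intro z hz
  obtain ⟨c, hc, hcz⟩ := H5.sp_center_scalar hn hz
  have hc1 : c = 1 := by
    have h1 : (c - 1) ^ 2 = 0 := by
      rw [sub_pow_char]; rw [pow_two, hc]; simp
    exact sub_eq_zero.1 (pow_eq_zero_iff (by norm_num) |>.1 h1)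
  apply Subtype.ext
  show (z : Matrix (Fin n ⊕ Fin n) (Fin n ⊕ Fin n) F) ^ 1 = 1
  rw [hcz, hc1, one_smul, one_pow]

lemma sp_coe_pow {n : ℕ} (x : ↥(Matrix.symplecticGroup (Fin n) F)) (j : ℕ) : (x : Matrix (Fin n ⊕ Fin n) (Fin n ⊕ Fin n) F) ^ j = 1 ↔ orderOf x ∣ j := by
  have hc : ∀ j, ((x ^ j : ↥(Matrix.symplecticGroup (Fin n) F)) : Matrix (Fin n ⊕ Fin n) (Fin n ⊕ Fin n) F) = (x : Matrix (Fin n ⊕ Fin n) (Fin n ⊕ Fin n) F) ^ j := by
    intro j
    induction j with
    | zero => rw [pow_zero, pow_zero]; rfl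
    | succ k ih => rw [pow_succ, pow_succ, ← ih]; rfl
  rw [orderOf_dvd_iff_pow_eq_one, ← hc]
  constructor
  · intro h; exact Subtype.ext h
  · intro h; rw [h]; rfl

lemma eta_le_n {p n r : ℕ} [Fact p.Prime] [CharP F p] (hr : r.Prime) (hr2 : r ≠ 2) (hrp : r ≠ p)
    {x : ↥(Matrix.symplecticGroup (Fin n) F)} (hx : orderOf x = r) {k ηk : ℕ} (hk : k = orderOf ((Fintype.card F : ℕ) : ZMod r))
    (hηk : (Odd k ∧ ηk = k) ∨ (Even k ∧ 2 * ηk = k)) : ηk ≤ n := by
  haveI : Fact r.Prime := ⟨hr⟩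
  haveI : NeZero r := ⟨hr.ne_zero⟩
  have hr3 : 2 < r := by have := hr.two_le; omega
  have hx1 : (x : Matrix (Fin n ⊕ Fin n) (Fin n ⊕ Fin n) F) ^ r = 1 := by
    rw [sp_coe_pow, hx]
  obtain ⟨z, hz, hzr⟩ : ∃ z : AlgebraicClosure F, Ev (x : Matrix (Fin n ⊕ Fin n) (Fin n ⊕ Fin n) F) z ∧ z ^ 1 ≠ 1 := by
    by_contra hcon
    push Not at hcon
    have h1 := pow_eq_one_of_ev (cast_ne hr hrp) hx1 hcon one_ne_zero
    rw [sp_coe_pow, hx] at h1
    exact hr.one_lt.ne' (Nat.dvd_one.1 h1)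
  rw [pow_one] at hzr
  have ho : orderOf z = r := orderOf_eq_prime (hz.pow_one hx1) hzr
  have h1 := sp1 x.2 (coprime_of_ne hr hrp) ho hz
  have h2 := HS_ge (F := F) hr3 (coprime_of_ne hr hrp) hk hηk
  rw [Fintype.card_fin] at h1
  omega

/-- elements of order `r` in the smallest possible symplectic group -/
lemma sp_exists_prime {r : ℕ} (hr : r.Prime) (hr2 : r ≠ 2) (hcr : (Fintype.card F).Coprime r) {k ηk : ℕ} (hk : k = orderOf ((Fintype.card F : ℕ) : ZMod r))
    (hηk : (Odd k ∧ ηk = k) ∨ (Even k ∧ 2 * ηk = k)) : ∃ x : ↥(Matrix.symplecticGroup (Fin ηk) F), orderOf x = r := by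
  haveI : Fact r.Prime := ⟨hr⟩
  haveI : NeZero r := ⟨hr.ne_zero⟩
  have hq1 : 1 < Fintype.card F := Fintype.one_lt_card
  have hkpos : 0 < k := by rw [hk, ← orderOf_qu r hcr]; exact orderOf_pos _
  have hrk : r ∣ Fintype.card F ^ k - 1 := by rw [SylB.dvd_iff hq1, ← hk]
  rcases hηk with ⟨ho, rfl⟩ | ⟨he, h2⟩
  · exact sp_order_minus hkpos hr.pos hrk
  · apply sp_order_plus (by omega) hr.pos
    have h3 : Fintype.card F ^ k - 1 = (Fintype.card F ^ ηk + 1) * (Fintype.card F ^ ηk - 1) := by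
      rw [← h2, mul_comm 2, pow_mul]
      exact Nat.sq_sub_sq (Fintype.card F ^ ηk) 1 |>.symm ▸ (by simp)
    rw [h3] at hrk
    rcases hr.dvd_mul.1 hrk with h | h
    · exact h
    · exfalso
      rw [SylB.dvd_iff hq1, ← hk] at h
      have := Nat.le_of_dvd (by omega) h
      omega

theorem psp_rs (p : ℕ) [Fact p.Prime] [CharP F p] (n : ℕ) (hn : 2 ≤ n)
    (r s : ℕ) (hr : r.Prime) (hs : s.Prime) (hr2 : r ≠ 2) (hs2 : s ≠ 2) (hrp : r ≠ p) (hsp : s ≠ p) (hrs : r ≠ s)
    (hsG : s ∣ Nat.card (Cfsg.PSp n F))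
    (k l ηk ηl : ℕ) (hk : k = orderOf ((Fintype.card F : ℕ) : ZMod r)) (hl : l = orderOf ((Fintype.card F : ℕ) : ZMod s))
    (hηk : (Odd k ∧ ηk = k) ∨ (Even k ∧ 2 * ηk = k)) (hηl : (Odd l ∧ ηl = l) ∨ (Even l ∧ 2 * ηl = l)) (hkl : ηk ≤ ηl) :
    (r * s ∉ Set.range (orderOf : Cfsg.PSp n F → ℕ)) ↔ (n < ηk + ηl ∧ ¬ ∃ t : ℕ, Odd t ∧ l = k * t) := by
  haveI : Fact r.Prime := ⟨hr⟩
  haveI : Fact s.Prime := ⟨hs⟩
  haveI : NeZero r := ⟨hr.ne_zero⟩
  haveI : NeZero s := ⟨hs.ne_zero⟩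
  have hn1 : 1 ≤ n := by omega
  have hq1 : 1 < Fintype.card F := Fintype.one_lt_card
  have hcr := coprime_of_ne (F := F) hr hrp
  have hcs := coprime_of_ne (F := F) hs hsp
  have hkpos : 0 < k := by rw [hk, ← orderOf_qu r hcr]; exact orderOf_pos _
  have hlpos : 0 < l := by rw [hl, ← orderOf_qu s hcs]; exact orderOf_pos _
  have hcop : (r * s).Coprime 2 := by
    rw [Nat.coprime_two_right]
    exact (hr.odd_of_ne_two hr2).mul (hs.odd_of_ne_two hs2)
  have hrs' : Nat.Coprime r s := (Nat.coprime_primes hr hs).2 hrs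
  have hrs0 : 0 < r * s := Nat.mul_pos hr.pos hs.pos
  constructor
  · intro hno
    by_contra hcon
    apply hno
    suffices ∃ x : ↥(Matrix.symplecticGroup (Fin n) F), orderOf x = r * s by
      obtain ⟨x, hx⟩ := this
      exact ⟨QuotientGroup.mk x, by rw [orderOf_mk' (sp_center_sq hn1) (by rw [hx]; exact hcop), hx]⟩
    by_cases hd : ∃ t : ℕ, Odd t ∧ l = k * t
    · obtain ⟨g, hg⟩ := exists_prime_orderOf_dvd_card' s hsG
      obtain ⟨y, hy⟩ := exists_lift' (sp_center_sq hn1) hg (by rw [Nat.coprime_two_right]; exact hs.odd_of_ne_two hs2)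
      have hln := eta_le_n hs hs2 hsp hy hl hηl
      obtain ⟨t, hto, ht⟩ := hd
      have hrk : r ∣ Fintype.card F ^ k - 1 := by rw [SylB.dvd_iff hq1, ← hk]
      have hsl : s ∣ Fintype.card F ^ l - 1 := by rw [SylB.dvd_iff hq1, ← hl]
      apply sp_order_le hln
      rcases hηl with ⟨ho, rfl⟩ | ⟨he, h2⟩
      · apply sp_order_minus hlpos hrs0
        apply hrs'.mul_dvd_of_dvd_of_dvd _ hsl
        rw [SylB.dvd_iff hq1, ← hk, ht]
        exact Dvd.intro _ rfl
      · have hke : Even k := by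
          by_contra h
          rw [Nat.not_even_iff_odd] at h
          rw [ht] at he
          exact Nat.not_even_iff_odd.2 (h.mul hto) he
        have h3 : 2 * ηk = k := by
          rcases hηk with ⟨ho, _⟩ | ⟨_, h⟩
          · exact absurd hke (Nat.not_even_iff_odd.2 ho)
          · exact h
        have hplus : ∀ {a c d : ℕ}, a.Prime → d = orderOf ((Fintype.card F : ℕ) : ZMod a) → 2 * c = d → 0 < c → a ∣ Fintype.card F ^ c + 1 := by
          intro a c d ha hd hcd hc0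
          haveI : Fact a.Prime := ⟨ha⟩
          have h4 : a ∣ Fintype.card F ^ d - 1 := by rw [SylB.dvd_iff hq1, ← hd]
          have h5 : Fintype.card F ^ d - 1 = (Fintype.card F ^ c + 1) * (Fintype.card F ^ c - 1) := by
            rw [← hcd, mul_comm 2, pow_mul]
            exact Nat.sq_sub_sq (Fintype.card F ^ c) 1 |>.symm ▸ (by simp)
          rw [h5] at h4
          rcases ha.dvd_mul.1 h4 with h | h
          · exact h
          · exfalso
            rw [SylB.dvd_iff hq1, ← hd] at h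
            have := Nat.le_of_dvd hc0 h
            omega
        apply sp_order_plus (by omega) hrs0
        apply hrs'.mul_dvd_of_dvd_of_dvd _ (hplus hs hl h2 (by omega))
        have h6 : ηl = ηk * t := by
          have : 2 * ηl = 2 * (ηk * t) := by rw [h2, ht, ← h3]; ring
          omega
        rw [h6, pow_mul]
        have h7 := Odd.nat_add_dvd_pow_add_pow (Fintype.card F ^ ηk) 1 hto
        rw [one_pow] at h7
        exact (hplus hr hk h3 (by omega)).trans h7
    · have hkln : ηk + ηl ≤ n := by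
        by_contra h; exact hcon ⟨by omega, hd⟩
      have := sp_order_prod (F := F) hkln (sp_exists_prime hr hr2 hcr hk hηk) (sp_exists_prime hs hs2 hcs hl hηl)
      rwa [hrs'.lcm_eq_mul] at this
  · rintro ⟨h1, h2⟩ ⟨g, hg⟩
    obtain ⟨x, hx⟩ := exists_lift' (sp_center_sq hn1) hg hcop
    rcases sp_rs_bound (p := p) (x := (x : Matrix (Fin n ⊕ Fin n) (Fin n ⊕ Fin n) F)) x.2 hr hs hr2 hs2 hrs hrp hsp (by rw [sp_coe_pow, hx])
      (fun h => by
        rw [sp_coe_pow, hx] at h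
        have := Nat.le_of_dvd hr.pos h
        have h5 := hs.two_le
        have h6 := hr.pos
        nlinarith)
      (fun h => by
        rw [sp_coe_pow, hx] at h
        have := Nat.le_of_dvd hs.pos h
        have h5 := hr.two_le
        have h6 := hs.pos
        nlinarith) hk hl hηk hηl hkl with h | h
    · rw [Fintype.card_fin] at h; omega
    · exact h2 h

lemma orb_mono {N : ℕ} [NeZero N] {z : AlgebraicClosure F} {H K : Subgroup (ZMod N)ˣ} (h : H ≤ K) : orb N z H ⊆ orb N z K := by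
  classical
  unfold orb
  apply Finset.image_subset_image
  intro u hu
  rw [Finset.mem_filter] at hu ⊢
  exact ⟨hu.1, h hu.2⟩

theorem sp_rp_bound {p n : ℕ} [Fact p.Prime] [CharP F p] (hn : 2 ≤ n) {x : Matrix (Fin n ⊕ Fin n) (Fin n ⊕ Fin n) F} (hxm : x ∈ Matrix.symplecticGroup (Fin n) F)
    {r : ℕ} (hr : r.Prime) (hr2 : r ≠ 2) (hrp : r ≠ p)
    (hx : x ^ (r * p) = 1) (hxr : x ^ r ≠ 1) (hxp : x ^ p ≠ 1)
    {k ηk : ℕ} (hk : k = orderOf ((Fintype.card F : ℕ) : ZMod r))
    (hηk : (Odd k ∧ ηk = k) ∨ (Even k ∧ 2 * ηk = k)) : ηk ≤ n - 1 := by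
  classical
  have hp : p.Prime := Fact.out
  haveI : NeZero r := ⟨hr.ne_zero⟩
  haveI : Fact r.Prime := ⟨hr⟩
  have hcr := coprime_of_ne (F := F) hr hrp
  have hr3 : 2 < r := by have := hr.two_le; omega
  have hevr : ∀ z, Ev x z → z ^ r = 1 := by
    intro z hz
    have h1 := hz.pow_one hx
    rw [pow_mul] at h1
    haveI : CharP (AlgebraicClosure F) p := charP_of_injective_algebraMap (algebraMap F (AlgebraicClosure F)).injective p
    have h2 : (z ^ r - 1) ^ p = 0 := by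
      rw [sub_pow_char, h1, one_pow, sub_self]
    exact sub_eq_zero.1 (pow_eq_zero_iff hp.ne_zero |>.1 h2)
  obtain ⟨w, hw⟩ : ∃ w, 2 ≤ Mu x w := by
    by_contra hcon
    push Not at hcon
    exact hxr (pow_one_of_Mu hr.ne_zero (fun z => by have := hcon z; omega) hevr)
  obtain ⟨z, hz, hz1⟩ : ∃ z, Ev x z ∧ z ≠ 1 := by
    by_contra hcon
    push Not at hcon
    obtain ⟨a, ha⟩ := exists_pow_of_ev (p := p) (x := x) (d := 1) (c := 1) (fun z hz => by rw [hcon z hz, one_pow, map_one])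
    rw [one_mul, one_pow, map_one] at ha
    have h1 : orderOf x ∣ p ^ a := orderOf_dvd_of_pow_eq_one ha
    have h2 : orderOf x ∣ r * p := orderOf_dvd_of_pow_eq_one hx
    have h3 : orderOf x ∣ p := by
      apply Nat.Coprime.dvd_of_dvd_mul_left _ h2
      exact Nat.Coprime.coprime_dvd_left h1 (Nat.Coprime.pow_left _ ((Nat.coprime_primes hp hr).2 hrp.symm))
    exact hxp (orderOf_dvd_iff_pow_eq_one.1 h3)
  have hcardH : ∀ v : AlgebraicClosure F, orderOf v = r → Ev x v → (orb r v (HS F r hcr)).card ≤ ∑ v ∈ orb r v (HS F r hcr), Mu x v := by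
    intro v ho hv
    rw [Finset.card_eq_sum_ones]
    apply Finset.sum_le_sum
    intro u hu
    exact Mu_pos.1 (ev_orb ho _ (ev_HS hxm hcr) hv hu)
  have ho : orderOf z = r := orderOf_eq_prime (hevr z hz) hz1
  have hH := HS_ge (F := F) hr3 hcr hk hηk
  by_cases hw1 : w = 1
  · have h2 : w ∉ orb r z (HS F r hcr) := by
      intro h
      have := orderOf_orb ho h
      rw [hw1, orderOf_one] at this
      exact hr.one_lt.ne this
    have h3 := sum_Mu_le x (insert w (orb r z (HS F r hcr)))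
    rw [Finset.sum_insert h2, Fintype.card_sum, Fintype.card_fin] at h3
    have h4 := hcardH z ho hz
    rw [card_orb ho] at h4
    omega
  · have hwE : Ev x w := Mu_pos.2 (by omega)
    have ho' : orderOf w = r := orderOf_eq_prime (hevr w hwE) hw1
    have h1 : ∀ v ∈ orb r w (Subgroup.closure {qu F r hcr}), 2 ≤ Mu x v := by
      intro v hv
      exact pred_orb (fun v => 2 ≤ Mu x v) ho' {qu F r hcr} (fun u hu w hw h => by
        rw [Set.mem_singleton_iff] at hu
        subst hu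
        exact pred_qu _ w hw h) hw hv
    have hsub : orb r w (Subgroup.closure {qu F r hcr}) ⊆ orb r w (HS F r hcr) :=
      orb_mono (Subgroup.closure_mono (by intro u hu; rw [Set.mem_singleton_iff] at hu; rw [hu]; simp))
    have h3 := sum_Mu_le x (orb r w (HS F r hcr))
    rw [← Finset.sum_sdiff hsub, Fintype.card_sum, Fintype.card_fin] at h3
    have h4 : 2 * (orb r w (Subgroup.closure {qu F r hcr})).card ≤ ∑ v ∈ orb r w (Subgroup.closure {qu F r hcr}), Mu x v := by
      rw [mul_comm, ← smul_eq_mul, ← Finset.sum_const]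
      exact Finset.sum_le_sum h1
    have h5 : (orb r w (HS F r hcr) \ orb r w (Subgroup.closure {qu F r hcr})).card ≤ ∑ v ∈ orb r w (HS F r hcr) \ orb r w (Subgroup.closure {qu F r hcr}), Mu x v := by
      rw [Finset.card_eq_sum_ones]
      apply Finset.sum_le_sum
      intro u hu
      rw [Finset.mem_sdiff] at hu
      exact Mu_pos.1 (ev_orb ho' _ (ev_HS hxm hcr) hwE hu.1)
    rw [Finset.card_sdiff_of_subset hsub, card_orb ho', card_orb ho', card_zp, ← hk] at h5
    rw [card_orb ho', card_zp, ← hk] at h4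
    have h6 : k ≤ Nat.card (HS F r hcr) := by
      rw [hk]; exact Nat.le_of_dvd Nat.card_pos (dvd_HS hcr)
    rcases hηk with ⟨ho, rfl⟩ | ⟨he, h2⟩
    · omega
    · omega

theorem psp_rp (p : ℕ) [Fact p.Prime] [CharP F p] (n : ℕ) (hn : 2 ≤ n)
    (r : ℕ) (hr : r.Prime) (hr2 : r ≠ 2) (hrp : r ≠ p)
    (k ηk : ℕ) (hk : k = orderOf ((Fintype.card F : ℕ) : ZMod r)) (hηk : (Odd k ∧ ηk = k) ∨ (Even k ∧ 2 * ηk = k)) :
    (r * p ∉ Set.range (orderOf : Cfsg.PSp n F → ℕ)) ↔ n - 1 < ηk := by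
  haveI : Fact r.Prime := ⟨hr⟩
  haveI : NeZero r := ⟨hr.ne_zero⟩
  have hp : p.Prime := Fact.out
  have hn1 : 1 ≤ n := by omega
  have hcr := coprime_of_ne (F := F) hr hrp
  have hrp' : Nat.Coprime r p := (Nat.coprime_primes hr hp).2 hrp
  obtain ⟨e, hZ, hcop⟩ : ∃ e : ℕ, (∀ z ∈ Subgroup.center ↥(Matrix.symplecticGroup (Fin n) F), z ^ e = 1) ∧ (r * p).Coprime e := by
    by_cases hp2 : p = 2
    · subst hp2
      exact ⟨1, sp_center_two hn1, Nat.coprime_one_right _⟩
    · refine ⟨2, sp_center_sq hn1, ?_⟩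
      rw [Nat.coprime_two_right]
      exact (hr.odd_of_ne_two hr2).mul (hp.odd_of_ne_two hp2)
  constructor
  · intro hno
    by_contra hcon
    apply hno
    suffices ∃ x : ↥(Matrix.symplecticGroup (Fin n) F), orderOf x = r * p by
      obtain ⟨x, hx⟩ := this
      exact ⟨QuotientGroup.mk x, by rw [orderOf_mk' hZ (by rw [hx]; exact hcop), hx]⟩
    have hy : ∃ y : ↥(Matrix.symplecticGroup (Fin 1) F), orderOf y = p := by
      apply exists_prime_orderOf_dvd_card' p
      rw [H5.card_Sp rfl 1]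
      obtain ⟨f, _, hf⟩ := FiniteField.card F p
      apply Dvd.dvd.mul_right
      rw [hf]
      exact dvd_pow (dvd_pow_self p f.ne_zero) (by norm_num)
    have := sp_order_prod (F := F) (by omega : ηk + 1 ≤ n) (sp_exists_prime hr hr2 hcr hk hηk) hy
    rwa [hrp'.lcm_eq_mul] at this
  · rintro h1 ⟨g, hg⟩
    obtain ⟨x, hx⟩ := exists_lift' hZ hg hcop
    have h2 := sp_rp_bound (p := p) hn (x := (x : Matrix (Fin n ⊕ Fin n) (Fin n ⊕ Fin n) F)) x.2 hr hr2 hrp (by rw [sp_coe_pow, hx])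
      (fun h => by
        rw [sp_coe_pow, hx] at h
        have := Nat.le_of_dvd hr.pos h
        have h5 := hp.two_le
        have h6 := hr.pos
        nlinarith)
      (fun h => by
        rw [sp_coe_pow, hx] at h
        have := Nat.le_of_dvd hp.pos h
        have h5 := hr.two_le
        have h6 := hp.pos
        nlinarith) hk hηk
    omega

end fin

end Cfsg.Agent.H16.PGr
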