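import Mathlib
import Cfsg.Agent.H16.PGr5

set_option autoImplicit false
set_option linter.all false

/-! Element orders of `PSL_3(q)`. -/

namespace Cfsg.Agent.H16.SpecL3

open Polynomial Module PGr

section glsl
variable {F : Type*} [Field F] {n : ℕ}

/-- `GL_n` in `SL_{n+1}` -/
noncomputable def glsl : GL (Fin n) F →* Matrix.SpecialLinearGroup (Fin n ⊕ Unit) F where
  toFun g := ⟨Matrix.fromBlocks (g : Matrix (Fin n) (Fin n) F) 0 0 (Matrix.diagonal fun _ => ((Matrix.GeneralLinearGroup.det g)⁻¹ : Fˣ)), by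
    rw [Matrix.det_fromBlocks_zero₂₁, Matrix.det_diagonal]
    simp only [Finset.univ_unique, Finset.prod_singleton]
    rw [← Matrix.GeneralLinearGroup.val_det_apply, ← Units.val_mul, mul_inv_cancel, Units.val_one]⟩
  map_one' := by
    apply Subtype.ext
    show Matrix.fromBlocks ((1 : GL (Fin n) F) : Matrix (Fin n) (Fin n) F) 0 0 (Matrix.diagonal fun _ => ((Matrix.GeneralLinearGroup.det (1 : GL (Fin n) F))⁻¹ : Fˣ)) = 1
    rw [map_one, inv_one]
    simp
  map_mul' g h := by
    apply Subtype.ext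
    show Matrix.fromBlocks ((g * h : GL (Fin n) F) : Matrix (Fin n) (Fin n) F) 0 0 (Matrix.diagonal fun _ => (((Matrix.GeneralLinearGroup.det (g * h))⁻¹ : Fˣ) : F)) =
      Matrix.fromBlocks (g : Matrix (Fin n) (Fin n) F) 0 0 (Matrix.diagonal fun _ => (((Matrix.GeneralLinearGroup.det g)⁻¹ : Fˣ) : F)) *
      Matrix.fromBlocks (h : Matrix (Fin n) (Fin n) F) 0 0 (Matrix.diagonal fun _ => (((Matrix.GeneralLinearGroup.det h)⁻¹ : Fˣ) : F))
    rw [Matrix.fromBlocks_multiply, Matrix.diagonal_mul_diagonal, map_mul, mul_inv]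
    simp

lemma glsl_inj : Function.Injective (glsl (F := F) (n := n)) := by
  intro g h hgh
  have h1 : Matrix.fromBlocks (g : Matrix (Fin n) (Fin n) F) 0 0 (Matrix.diagonal fun _ : Unit => (((Matrix.GeneralLinearGroup.det g)⁻¹ : Fˣ) : F)) =
    Matrix.fromBlocks (h : Matrix (Fin n) (Fin n) F) 0 0 (Matrix.diagonal fun _ : Unit => (((Matrix.GeneralLinearGroup.det h)⁻¹ : Fˣ) : F)) := congrArg Subtype.val hgh
  rw [Matrix.fromBlocks_inj] at h1
  exact Units.ext h1.1

/-- elements of `GL_n` give elements of the same order in `SL_{n+1}` -/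
lemma exists_sl_succ {N : ℕ} (g : GL (Fin n) F) (hg : orderOf g = N) : ∃ x : Matrix.SpecialLinearGroup (Fin (n + 1)) F, orderOf x = N := by
  let e : Fin n ⊕ Unit ≃ Fin (n + 1) := Fintype.equivOfCardEq (by simp)
  let f : Matrix.SpecialLinearGroup (Fin n ⊕ Unit) F →* Matrix.SpecialLinearGroup (Fin (n + 1)) F :=
    { toFun := fun x => ⟨Matrix.reindex e e (x : Matrix _ _ F), by rw [Matrix.det_reindex_self, x.det_coe]⟩
      map_one' := by
        apply Subtype.ext
        show Matrix.reindex e e (1 : Matrix (Fin n ⊕ Unit) (Fin n ⊕ Unit) F) = 1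
        rw [Matrix.reindex_apply, Matrix.submatrix_one_equiv]
      map_mul' := fun a b => by
        apply Subtype.ext
        show Matrix.reindex e e ((a : Matrix (Fin n ⊕ Unit) (Fin n ⊕ Unit) F) * (b : Matrix (Fin n ⊕ Unit) (Fin n ⊕ Unit) F)) =
          Matrix.reindex e e (a : Matrix (Fin n ⊕ Unit) (Fin n ⊕ Unit) F) * Matrix.reindex e e (b : Matrix (Fin n ⊕ Unit) (Fin n ⊕ Unit) F)
        rw [Matrix.reindex_apply, Matrix.reindex_apply, Matrix.reindex_apply, Matrix.submatrix_mul_equiv] }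
  have hf : Function.Injective f := by
    intro a b hab
    exact Subtype.ext ((Matrix.reindex e e).injective (congrArg Subtype.val hab))
  exact ⟨f (glsl g), by rw [orderOf_injective _ hf, orderOf_injective _ glsl_inj, hg]⟩

end glsl

section main
variable {F : Type*} [Field F] [Fintype F]

lemma center_pow_gcd {n : ℕ} (hn : 1 ≤ n) {z : Matrix.SpecialLinearGroup (Fin n) F} (hz : z ∈ Subgroup.center (Matrix.SpecialLinearGroup (Fin n) F)) :
    z ^ (Nat.gcd n (Fintype.card F - 1)) = 1 := by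
  rw [← orderOf_dvd_iff_pow_eq_one]
  apply Nat.dvd_gcd
  · rw [orderOf_dvd_iff_pow_eq_one]
    obtain ⟨c, hc, hcz⟩ := Matrix.SpecialLinearGroup.mem_center_iff.1 hz
    apply Subtype.ext
    rw [Matrix.SpecialLinearGroup.coe_pow, ← hcz, ← map_pow, Matrix.SpecialLinearGroup.coe_one]
    rw [Fintype.card_fin] at hc
    rw [hc, map_one]
  · exact orderOf_dvd_of_pow_eq_one (center_pow hn hz)

/-- an element of `SL_n` of order `N` gives all divisors of `N / d` -/
lemma orders_of_sl {n N d m : ℕ} (hn : 1 ≤ n) (hd : d = Nat.gcd n (Fintype.card F - 1)) (hN : 0 < N) {x : Matrix.SpecialLinearGroup (Fin n) F} (hx : orderOf x = N)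
    (hdN : d ∣ N) (hm : m ∣ N / d) : ∃ g : Matrix.ProjectiveSpecialLinearGroup (Fin n) F, orderOf g = m := by
  have h1 : N / d ∣ orderOf (QuotientGroup.mk x : Matrix.ProjectiveSpecialLinearGroup (Fin n) F) := by
    have h2 : (QuotientGroup.mk x : Matrix.ProjectiveSpecialLinearGroup (Fin n) F) ^ (orderOf (QuotientGroup.mk x : Matrix.ProjectiveSpecialLinearGroup (Fin n) F)) = 1 := pow_orderOf_eq_one _
    rw [mk_pow_eq_one_iff] at h2
    have h3 := center_pow_gcd hn h2
    rw [← hd, ← pow_mul] at h3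
    have h4 := orderOf_dvd_of_pow_eq_one h3
    rw [hx] at h4
    obtain ⟨c, rfl⟩ := hdN
    have hd0 : 0 < d := Nat.pos_of_mul_pos_left hN |> fun _ => Nat.pos_of_ne_zero (by rintro rfl; simp at hN)
    rw [Nat.mul_div_cancel_left _ hd0]
    rw [mul_comm (orderOf _) d] at h4
    exact Nat.dvd_of_mul_dvd_mul_left hd0 h4
  have h5 := hm.trans h1
  obtain ⟨c, hc⟩ := h5
  have hpos : 0 < orderOf (QuotientGroup.mk x : Matrix.ProjectiveSpecialLinearGroup (Fin n) F) := orderOf_pos _
  have hc0 : c ≠ 0 := by rintro rfl; rw [mul_zero] at hc; omega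
  exact ⟨(QuotientGroup.mk x) ^ c, by
    rw [orderOf_pow_of_dvd hc0 (by rw [hc]; exact Dvd.intro_left _ rfl), hc, Nat.mul_div_cancel _ (Nat.pos_of_ne_zero hc0)]⟩

/-- a semisimple matrix is annihilated by any polynomial vanishing on the eigenvalues -/
lemma aeval_of_ev {m : Type*} [Fintype m] [DecidableEq m] {x : Matrix m m F} {N : ℕ} (hN : (N : F) ≠ 0) (hx : x ^ N = 1) {g : F[X]} (hg : g ≠ 0)
    (h : ∀ z : AlgebraicClosure F, Ev x z → aeval z g = 0) : aeval x g = 0 := by
  have h1 : minpoly F x ∣ X ^ N - 1 := minpoly.dvd F x (by simp [hx])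
  have hsep : (minpoly F x).Separable := (X_pow_sub_one_separable_iff.2 hN).of_dvd h1
  have hne : (minpoly F x) ≠ 0 := minpoly.ne_zero (Matrix.isIntegral x)
  have h2 : minpoly F x ∣ g := by
    rw [← Polynomial.map_dvd_map' (algebraMap F (AlgebraicClosure F))]
    apply (IsAlgClosed.splits _).dvd_of_roots_le_roots ((Polynomial.map_ne_zero_iff (algebraMap F (AlgebraicClosure F)).injective).2 hne)
    rw [Multiset.le_iff_subset (nodup_roots hsep.map)]
    intro z hz
    rw [mem_roots ((Polynomial.map_ne_zero_iff (algebraMap F (AlgebraicClosure F)).injective).2 hne), IsRoot, eval_map_algebraMap] at hz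
    have h3 := h z (exists_ev_of_minpoly hz)
    rw [mem_roots ((Polynomial.map_ne_zero_iff (algebraMap F (AlgebraicClosure F)).injective).2 hg), IsRoot, eval_map_algebraMap]
    exact h3
  obtain ⟨c, hc⟩ := h2
  rw [hc, map_mul, minpoly.aeval, zero_mul]

/-- semisimple elements with all eigenvalues having the same power in `F` -/
lemma central_pow_of_ev {n N D : ℕ} {x : Matrix.SpecialLinearGroup (Fin n) F} (hN : (N : F) ≠ 0) (hx : x ^ N = 1) (hD : 0 < D) {w : AlgebraicClosure F}
    (hw : (w ^ D) ^ Fintype.card F = w ^ D)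
    (h : ∀ z : AlgebraicClosure F, Ev (x : Matrix (Fin n) (Fin n) F) z → z ^ D = w ^ D) : x ^ D ∈ Subgroup.center (Matrix.SpecialLinearGroup (Fin n) F) := by
  obtain ⟨c, hc⟩ := exists_of_frob hw
  have hx' : (x : Matrix (Fin n) (Fin n) F) ^ N = 1 := by
    rw [← Matrix.SpecialLinearGroup.coe_pow, hx, Matrix.SpecialLinearGroup.coe_one]
  have h1 := aeval_of_ev (x := (x : Matrix (Fin n) (Fin n) F)) hN hx' (g := X ^ D - C c) (X_pow_sub_C_ne_zero hD c) (fun z hz => by simp [h z hz, hc])
  apply central_of_scalar (c := c)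
  rw [Matrix.SpecialLinearGroup.coe_pow]
  have h2 : aeval (x : Matrix (Fin n) (Fin n) F) (X ^ D - C c : F[X]) = (x : Matrix (Fin n) (Fin n) F) ^ D - Matrix.scalar (Fin n) c := by
    rw [map_sub, map_pow, aeval_X, aeval_C]; rfl
  rw [h2, sub_eq_zero] at h1
  exact h1

end main

end Cfsg.Agent.H16.SpecL3
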