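import Mathlib
import Cfsg.Agent.H16.SpecL3

set_option autoImplicit false
set_option linter.all false

/-! Element orders of `PSL_3(q)`. -/

namespace Cfsg.Agent.H16.SpecL3

open Polynomial Module PGr

section a
variable {F : Type*} [Field F] [Fintype F]

lemma frob_inj {a b : AlgebraicClosure F} (h : a ^ Fintype.card F = b ^ Fintype.card F) : a = b := by
  apply (FiniteField.frobeniusAlgHom F (AlgebraicClosure F)).toRingHom.injective
  show (FiniteField.frobeniusAlgHom F (AlgebraicClosure F)) a = (FiniteField.frobeniusAlgHom F (AlgebraicClosure F)) b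
  rw [FiniteField.coe_frobeniusAlgHom]
  exact h

lemma ne_zero_of_root {n : ℕ} {x : Matrix.SpecialLinearGroup (Fin n) F} {z : AlgebraicClosure F} (hz : Ev (x : Matrix (Fin n) (Fin n) F) z) : z ≠ 0 := by
  rintro rfl
  rw [ev_iff] at hz
  have h1 := Multiset.prod_eq_zero hz
  rw [prod_roots] at h1
  exact one_ne_zero h1

lemma roots_card {n : ℕ} (x : Matrix (Fin n) (Fin n) F) : Multiset.card (cK x).roots = n := by
  rw [← (IsAlgClosed.splits _).natDegree_eq_card_roots, cK, natDegree_map, Matrix.charpoly_natDegree_eq_dim, Fintype.card_fin]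

lemma mk_dvd {n D : ℕ} {x : Matrix.SpecialLinearGroup (Fin n) F} (h : x ^ D ∈ Subgroup.center (Matrix.SpecialLinearGroup (Fin n) F)) :
    orderOf (QuotientGroup.mk x : Matrix.ProjectiveSpecialLinearGroup (Fin n) F) ∣ D :=
  orderOf_dvd_of_pow_eq_one (mk_pow_eq_one_iff.2 h)

lemma orders_div {G : Type*} [Group G] [Finite G] {g : G} {N m : ℕ} (h : N ∣ orderOf g) (hm : m ∣ N) : ∃ g' : G, orderOf g' = m := by
  obtain ⟨c, hc⟩ := hm.trans h
  have hpos : 0 < orderOf g := orderOf_pos _
  have hc0 : c ≠ 0 := by rintro rfl; rw [mul_zero] at hc; omega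
  exact ⟨g ^ c, by rw [orderOf_pow_of_dvd hc0 (by rw [hc]; exact Dvd.intro_left _ rfl), hc, Nat.mul_div_cancel _ (Nat.pos_of_ne_zero hc0)]⟩

lemma pow_one_SL {n D : ℕ} {x : Matrix.SpecialLinearGroup (Fin n) F} (h : (x : Matrix (Fin n) (Fin n) F) ^ D = 1) : x ^ D = 1 :=
  Subtype.ext (by rw [Matrix.SpecialLinearGroup.coe_pow, h, Matrix.SpecialLinearGroup.coe_one])

theorem sub (p : ℕ) [hpF : Fact p.Prime] [CharP F p] (x : Matrix.SpecialLinearGroup (Fin 3) F) (q d m : ℕ) (hq : q = Fintype.card F) (hd : d = Nat.gcd 3 (q - 1))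
    (hm : m = orderOf (QuotientGroup.mk x : Matrix.ProjectiveSpecialLinearGroup (Fin 3) F)) :
    m ∣ (q ^ 2 + q + 1) / d ∨ m ∣ (q ^ 2 - 1) / d ∨ m ∣ q - 1 ∨ m ∣ p * (q - 1) / d ∨ (p = 2 ∧ m ∣ 4) := by
  classical
  have hp : p.Prime := Fact.out
  have hq1 : 1 < q := by rw [hq]; exact Fintype.one_lt_card
  have hd3 : d ∣ 3 := by rw [hd]; exact Nat.gcd_dvd_left _ _
  have hdq : d ∣ q - 1 := by rw [hd]; exact Nat.gcd_dvd_right _ _
  have hd0 : 0 < d := Nat.pos_of_dvd_of_pos hd3 (by norm_num)
  have hqF : (q : F) = 0 := by rw [hq]; exact FiniteField.cast_card_eq_zero F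
  have hq2 : q ^ 2 - 1 = (q + 1) * (q - 1) := by
    have := Nat.sq_sub_sq q 1
    rwa [one_pow] at this
  have hdM : d ∣ q ^ 2 + q + 1 := by
    have h1 : q ^ 2 + q + 1 = (q - 1) * (q + 2) + 3 := by
      obtain ⟨t, rfl⟩ := Nat.exists_eq_add_of_lt hq1
      have : 1 + t + 1 - 1 = t + 1 := by omega
      rw [this]; ring
    rw [h1]
    exact dvd_add (hdq.mul_right _) hd3
  set R := (cK (x : Matrix (Fin 3) (Fin 3) F)).roots with hR
  have hcard : Multiset.card R = 3 := roots_card _
  have hprod : R.prod = 1 := prod_roots x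
  have hfrob : ∀ z, z ∈ R → z ^ q ∈ R := by
    intro z hz
    rw [hR, ← ev_iff] at hz ⊢
    rw [hq]; exact hz.pow_card
  by_cases hcase : ∃ z ∈ R, z ^ q ≠ z
  · obtain ⟨z, hz, hzq⟩ := hcase
    have hz0 : z ≠ 0 := ne_zero_of_root (ev_iff.2 hz)
    have hle : z ::ₘ {z ^ q} ≤ R := by
      rw [Multiset.le_iff_subset (by simp [Ne.symm hzq])]
      intro u hu
      rw [Multiset.mem_cons, Multiset.mem_singleton] at hu
      rcases hu with rfl | rfl
      · exact hz
      · exact hfrob z hz
    obtain ⟨R', hR'⟩ := Multiset.le_iff_exists_add.1 hle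
    obtain ⟨w, hw⟩ := Multiset.card_eq_one.1 (by
      have := hcard
      rw [hR', Multiset.card_add] at this
      simp at this
      omega : Multiset.card R' = 1)
    have hmem : ∀ u, Ev (x : Matrix (Fin 3) (Fin 3) F) u → u = z ∨ u = z ^ q ∨ u = w := by
      intro u hu
      rw [ev_iff, ← hR, hR', hw] at hu
      simpa using hu
    have hpr : z * z ^ q * w = 1 := by
      rw [hR', hw] at hprod
      simpa [mul_assoc] using hprod
    by_cases hA : (z ^ q) ^ q = z
    · -- quadratic case
      right; left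
      have hzM : z ^ (q ^ 2 - 1) = 1 := by
        have h1 : z ^ (q ^ 2 - 1) * z = 1 * z := by
          rw [← pow_succ, Nat.sub_add_cancel (by nlinarith), one_mul, pow_two, pow_mul, hA]
        exact mul_right_cancel₀ hz0 h1
      have hw0 : w ≠ 0 := by rintro rfl; rw [mul_zero] at hpr; exact zero_ne_one hpr
      have hwq : w ^ q = w := by
        have h1 : (z * z ^ q * w) ^ q = 1 := by rw [hpr, one_pow]
        rw [mul_pow, mul_pow, hA, mul_comm (z ^ q) z] at h1
        exact mul_left_cancel₀ (mul_ne_zero hz0 (pow_ne_zero q hz0)) (h1.trans hpr.symm)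
      have hwz : w ≠ z := fun h => hzq (by rw [← h]; exact hwq)
      have hwzq : w ≠ z ^ q := fun h => by
        rw [h, hA] at hwq
        exact hzq hwq.symm
      have hMu : ∀ u, Mu (x : Matrix (Fin 3) (Fin 3) F) u ≤ 1 := by
        intro u
        have hnd : R.Nodup := by
          rw [hR', hw]
          simp [Ne.symm hzq, hwz.symm, hwzq.symm]
        have := Multiset.nodup_iff_count_le_one.1 hnd u
        rw [hR, count_roots] at this
        exact this
      have hev : ∀ u, Ev (x : Matrix (Fin 3) (Fin 3) F) u → u ^ (q ^ 2 - 1) = 1 := by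
        intro u hu
        rcases hmem u hu with rfl | rfl | rfl
        · exact hzM
        · rw [← pow_mul, mul_comm, pow_mul, hzM, one_pow]
        · have h1 : u ^ (q - 1) = 1 := by
            have h2 : u ^ (q - 1) * u = 1 * u := by rw [← pow_succ, Nat.sub_add_cancel (by omega), hwq, one_mul]
            exact mul_right_cancel₀ hw0 h2
          rw [hq2, mul_comm, pow_mul, h1, one_pow]
      have hx1 := pow_one_SL (pow_one_of_Mu (by rw [hq2]; exact mul_ne_zero (by omega) (by omega)) hMu hev)
      have hcast : (((q ^ 2 - 1 : ℕ)) : F) ≠ 0 := by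
        rw [Nat.cast_sub (Nat.one_le_pow _ _ (by omega))]
        push_cast
        rw [hqF]; simp
      obtain ⟨e, he⟩ := hdq
      have hD : (q ^ 2 - 1) / d = (q + 1) * e := by
        rw [hq2, he, ← mul_assoc, mul_comm (q + 1) d, mul_assoc, Nat.mul_div_cancel_left _ hd0]
      have hDpos : 0 < (q + 1) * e := by
        apply Nat.mul_pos (by omega)
        rw [Nat.pos_iff_ne_zero]; rintro rfl; omega
      rw [hm, hD]
      have hzD : (z ^ ((q + 1) * e)) ^ q = z ^ ((q + 1) * e) := by
        have h1 : (q + 1) * e * q = (q ^ 2 - 1) * e + (q + 1) * e := by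
          rw [hq2]
          obtain ⟨t, rfl⟩ := Nat.exists_eq_add_of_lt hq1
          have : 1 + t + 1 - 1 = t + 1 := by omega
          rw [this]; ring
        rw [← pow_mul, h1, pow_add, pow_mul, hzM, one_pow, one_mul]
      apply mk_dvd
      apply central_pow_of_ev hcast hx1 hDpos (w := z) (by rw [← hq]; exact hzD)
      intro u hu
      rcases hmem u hu with rfl | rfl | rfl
      · rfl
      · rw [← pow_mul, mul_comm, pow_mul, hzD]
      · -- u = z^{-(q+1)}
        have h1 : (z * z ^ q * u) ^ ((q + 1) * e) = 1 := by rw [hpr, one_pow]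
        have h2 : z * z ^ q = z ^ (q + 1) := by rw [pow_succ]; ring
        rw [h2, mul_pow, ← pow_mul] at h1
        have h3 : z ^ ((q + 1) * ((q + 1) * e)) * z ^ ((q + 1) * e) = 1 := by
          rw [← pow_add]
          obtain ⟨e', he'⟩ : d ∣ q + 2 := by
            have : q + 2 = (q - 1) + 3 := by omega
            rw [this]; exact dvd_add ⟨e, he⟩ hd3
          have h4 : (q + 1) * ((q + 1) * e) + (q + 1) * e = (q ^ 2 - 1) * e' := by
            have : (q + 1) * ((q + 1) * e) + (q + 1) * e = (q + 1) * e * (q + 2) := by ring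
            rw [this, he', hq2, he]; ring
          rw [h4, pow_mul, hzM, one_pow]
        exact mul_left_cancel₀ (pow_ne_zero _ hz0) (h1.trans h3.symm)
    · -- irreducible case
      left
      have hwe : w = (z ^ q) ^ q := by
        have h1 := hfrob _ (hfrob z hz)
        rw [hR, ← ev_iff] at h1
        rcases hmem _ h1 with h | h | h
        · exact absurd h hA
        · exfalso
          rw [hq] at h
          exact hzq (by rw [hq]; exact frob_inj h)
        · exact h.symm
      subst hwe
      have hzM : z ^ (q ^ 2 + q + 1) = 1 := by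
        rw [← hpr, ← pow_mul, pow_add, pow_add, pow_two, pow_one]; ring
      have hzq2 : z ^ q ≠ (z ^ q) ^ q := fun h => hzq (by
        rw [hq] at h ⊢
        exact (frob_inj h).symm)
      have hMu : ∀ u, Mu (x : Matrix (Fin 3) (Fin 3) F) u ≤ 1 := by
        intro u
        have hnd : R.Nodup := by
          rw [hR', hw]
          simp [Ne.symm hzq, Ne.symm hA, hzq2]
        have := Multiset.nodup_iff_count_le_one.1 hnd u
        rw [hR, count_roots] at this
        exact this
      have hev : ∀ u, Ev (x : Matrix (Fin 3) (Fin 3) F) u → u ^ (q ^ 2 + q + 1) = 1 := by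
        intro u hu
        rcases hmem u hu with rfl | rfl | rfl
        · exact hzM
        · rw [← pow_mul, mul_comm, pow_mul, hzM, one_pow]
        · have h1 : ((z ^ q) ^ q) ^ (q ^ 2 + q + 1) = (z ^ (q ^ 2 + q + 1)) ^ (q * q) := by
            rw [← pow_mul, ← pow_mul, ← pow_mul]
            congr 1
            ring
          rw [h1, hzM, one_pow]
      have hx1 := pow_one_SL (pow_one_of_Mu (by positivity) hMu hev)
      have hcast : (((q ^ 2 + q + 1 : ℕ)) : F) ≠ 0 := by
        push_cast
        rw [hqF]; simp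
      obtain ⟨D, hD⟩ := hdM
      have hD' : (q ^ 2 + q + 1) / d = D := by
        rw [hD, Nat.mul_div_cancel_left _ hd0]
      have hDpos : 0 < D := by
        rw [Nat.pos_iff_ne_zero]; rintro rfl; omega
      rw [hm, hD']
      obtain ⟨e, he⟩ := hdq
      have hzD : (z ^ D) ^ q = z ^ D := by
        have h1 : D * q = (q ^ 2 + q + 1) * e + D := by
          rw [hD]
          have : q = d * e + 1 := by omega
          nth_rewrite 1 [this]
          ring
        rw [← pow_mul, h1, pow_add, pow_mul, hzM, one_pow, one_mul]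
      apply mk_dvd
      apply central_pow_of_ev hcast hx1 hDpos (w := z) (by rw [← hq]; exact hzD)
      intro u hu
      rcases hmem u hu with rfl | rfl | rfl
      · rfl
      · rw [← pow_mul, mul_comm, pow_mul, hzD]
      · have h1 : ((z ^ q) ^ q) ^ D = ((z ^ D) ^ q) ^ q := by
          rw [← pow_mul, ← pow_mul, ← pow_mul, ← pow_mul]
          congr 1
          ring
        rw [h1, hzD, hzD]
  · push Not at hcase
    have hz1 : ∀ z, Ev (x : Matrix (Fin 3) (Fin 3) F) z → z ^ (q - 1) = 1 := by
      intro z hz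
      have hz0 := ne_zero_of_root hz
      have h1 := hcase z (by rw [hR, ← ev_iff]; exact hz)
      have h2 : z ^ (q - 1) * z = 1 * z := by rw [← pow_succ, Nat.sub_add_cancel (by omega), h1, one_mul]
      exact mul_right_cancel₀ hz0 h2
    by_cases hMu : ∀ z, Mu (x : Matrix (Fin 3) (Fin 3) F) z ≤ 1
    · right; right; left
      have hx1 := pow_one_SL (pow_one_of_Mu (by omega) hMu hz1)
      rw [hm]
      apply mk_dvd
      rw [hx1]; exact one_mem _
    · push Not at hMu
      obtain ⟨w, hw⟩ := hMu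
      have hRw : Multiset.replicate 2 w ≤ R := by
        rw [← Multiset.le_count_iff_replicate_le, hR, count_roots]
        exact hw
      obtain ⟨R', hR'⟩ := Multiset.le_iff_exists_add.1 hRw
      obtain ⟨v, hv⟩ := Multiset.card_eq_one.1 (by
        have := hcard
        rw [hR', Multiset.card_add, Multiset.card_replicate] at this
        omega : Multiset.card R' = 1)
      have hmemw : w ∈ R := by rw [hR']; simp
      have hmemv : v ∈ R := by rw [hR', hv]; simp
      have hpr : w ^ 2 * v = 1 := by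
        rw [hR', hv, Multiset.prod_add, Multiset.prod_replicate, Multiset.prod_singleton] at hprod
        exact hprod
      have hw0 : w ≠ 0 := by rintro rfl; rw [zero_pow (by norm_num), zero_mul] at hpr; exact zero_ne_one hpr
      have hcKe : cK (x : Matrix (Fin 3) (Fin 3) F) = (X - C w) ^ 2 * (X - C v) := by
        rw [(IsAlgClosed.splits (cK (x : Matrix (Fin 3) (Fin 3) F))).eq_prod_roots_of_monic (cK_monic _), ← hR, hR', hv]
        simp
        ring
      obtain ⟨c, hc⟩ := exists_of_frob (F := F) (w := w) (by rw [← hq]; exact hcase w hmemw)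
      have hann : ∀ g : F[X], cK (x : Matrix (Fin 3) (Fin 3) F) ∣ g.map (algebraMap F (AlgebraicClosure F)) → aeval (x : Matrix (Fin 3) (Fin 3) F) g = 0 := by
        intro g hg
        unfold cK at hg
        rw [Polynomial.map_dvd_map'] at hg
        obtain ⟨e, he⟩ := hg
        rw [he, map_mul, Matrix.aeval_self_charpoly, zero_mul]
      by_cases hvw : v = w
      · -- unipotent times scalar
        subst hvw
        have h1 : ((x : Matrix (Fin 3) (Fin 3) F) - Matrix.scalar (Fin 3) c) ^ 3 = 0 := by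
          have h2 := hann ((X - C c) ^ 3) (by
            rw [hcKe, Polynomial.map_pow, Polynomial.map_sub, map_X, map_C, hc]
            exact dvd_of_eq (by ring))
          have h3 : aeval (x : Matrix (Fin 3) (Fin 3) F) (X - C c : F[X]) = (x : Matrix (Fin 3) (Fin 3) F) - Matrix.scalar (Fin 3) c := by
            rw [map_sub, aeval_X, aeval_C]; rfl
          rwa [map_pow, h3] at h2
        have hcomm : Commute (x : Matrix (Fin 3) (Fin 3) F) (Matrix.scalar (Fin 3) c) := (Matrix.scalar_commute c (fun r => Commute.all _ _) _).symm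
        have hgen : ∀ a : ℕ, 3 ≤ p ^ a → m ∣ p ^ a := by
          intro a ha
          rw [hm]
          apply mk_dvd
          apply central_of_scalar (c := c ^ p ^ a)
          have h2 : ((x : Matrix (Fin 3) (Fin 3) F) - Matrix.scalar (Fin 3) c) ^ p ^ a = 0 := by
            rw [← Nat.sub_add_cancel ha, pow_add, h1, mul_zero]
          rw [sub_pow_char_pow_of_commute p _ hcomm, sub_eq_zero, ← map_pow] at h2
          rw [Matrix.SpecialLinearGroup.coe_pow]
          exact h2
        by_cases hp2 : p = 2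
        · right; right; right; right
          refine ⟨hp2, ?_⟩
          have := hgen 2 (by rw [hp2]; norm_num)
          rwa [hp2] at this
        · right; right; right; left
          have h2 := hgen 1 (by rw [pow_one]; have := hp.two_le; omega)
          rw [pow_one] at h2
          obtain ⟨e, he⟩ := hdq
          refine h2.trans ⟨e, ?_⟩
          rw [he, ← mul_assoc, mul_comm p d, mul_assoc, Nat.mul_div_cancel_left _ hd0]
      · right; right; right; left
        obtain ⟨D, hD⟩ := hdq
        have hDpos : 0 < D := by rw [Nat.pos_iff_ne_zero]; rintro rfl; omega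
        have hpD : p * (q - 1) / d = D * p := by
          rw [hD, ← mul_assoc, mul_comm p d, mul_assoc, Nat.mul_div_cancel_left _ hd0, mul_comm]
        have hw3 : w ^ (3 * D) = 1 := by
          obtain ⟨e, he⟩ := hd3
          rw [he, show d * e * D = (q - 1) * e by rw [hD]; ring, pow_mul, hz1 w (ev_iff.2 hmemw), one_pow]
        have hvD : v ^ D = w ^ D := by
          have h1 : (w ^ 2 * v) ^ D = 1 := by rw [hpr, one_pow]
          rw [mul_pow, ← pow_mul] at h1
          have h2 : w ^ (2 * D) * w ^ D = 1 := by rw [← pow_add, show 2 * D + D = 3 * D by ring, hw3]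
          exact mul_left_cancel₀ (pow_ne_zero _ hw0) (h1.trans h2.symm)
        have h1 : ((x : Matrix (Fin 3) (Fin 3) F) ^ D - Matrix.scalar (Fin 3) (c ^ D)) ^ 2 = 0 := by
          have h2 := hann ((X ^ D - C (c ^ D)) ^ 2) (by
            rw [hcKe, Polynomial.map_pow, Polynomial.map_sub, Polynomial.map_pow, map_X, map_C, map_pow, hc]
            have h4 : (X - C w) * (X - C v) ∣ (X ^ D - C (w ^ D) : (AlgebraicClosure F)[X]) := by
              apply IsCoprime.mul_dvd
              · exact isCoprime_X_sub_C_of_isUnit_sub (sub_ne_zero.2 (Ne.symm hvw)).isUnit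
              · rw [dvd_iff_isRoot]; simp
              · rw [dvd_iff_isRoot]; simp [hvD]
            have h5 : (X - C w) ^ 2 * (X - C v) ∣ ((X - C w) * (X - C v)) ^ 2 := Dvd.intro (X - C v) (by ring)
            exact h5.trans (pow_dvd_pow_of_dvd h4 2))
          have h3 : aeval (x : Matrix (Fin 3) (Fin 3) F) (X ^ D - C (c ^ D) : F[X]) = (x : Matrix (Fin 3) (Fin 3) F) ^ D - Matrix.scalar (Fin 3) (c ^ D) := by
            rw [map_sub, map_pow, aeval_X, aeval_C]; rfl
          rwa [map_pow, h3] at h2
        rw [hpD, hm]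
        apply mk_dvd
        apply central_of_scalar (c := (c ^ D) ^ p)
        have hcomm : Commute ((x : Matrix (Fin 3) (Fin 3) F) ^ D) (Matrix.scalar (Fin 3) (c ^ D)) := (Matrix.scalar_commute (c ^ D) (fun r => Commute.all _ _) _).symm
        have h2 : ((x : Matrix (Fin 3) (Fin 3) F) ^ D - Matrix.scalar (Fin 3) (c ^ D)) ^ p = 0 := by
          obtain ⟨k, hk⟩ := Nat.exists_eq_add_of_le hp.two_le
          rw [hk, pow_add, h1, zero_mul]
        have h5 := sub_pow_char_of_commute (R := Matrix (Fin 3) (Fin 3) F) p hcomm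
        rw [h2] at h5
        rw [Matrix.SpecialLinearGroup.coe_pow, pow_mul, sub_eq_zero.1 h5.symm]
        simp only [map_pow]

lemma exists_unit' {N : ℕ} (hN : N ∣ Fintype.card F - 1) : ∃ u : Fˣ, orderOf u = N := by
  have hq1 : 1 < Fintype.card F := Fintype.one_lt_card
  obtain ⟨g, hg⟩ := H17.exists_orderOf_eq_card_units F
  rw [Nat.card_eq_fintype_card] at hg
  obtain ⟨c, hc⟩ := hN
  have hc0 : c ≠ 0 := by rintro rfl; rw [mul_zero] at hc; omega
  exact ⟨g ^ c, by rw [orderOf_pow_of_dvd hc0 (by rw [hg, hc]; exact Dvd.intro_left _ rfl), hg, hc, Nat.mul_div_cancel _ (Nat.pos_of_ne_zero hc0)]⟩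

theorem sup (p : ℕ) [hpF : Fact p.Prime] [CharP F p] (q d m : ℕ) (hq : q = Fintype.card F) (hd : d = Nat.gcd 3 (q - 1))
    (h : m ∣ (q ^ 2 + q + 1) / d ∨ m ∣ (q ^ 2 - 1) / d ∨ m ∣ q - 1 ∨ m ∣ p * (q - 1) / d ∨ (p = 2 ∧ m ∣ 4)) :
    ∃ g : Matrix.ProjectiveSpecialLinearGroup (Fin 3) F, orderOf g = m := by
  classical
  have hp : p.Prime := Fact.out
  have hq1 : 1 < q := by rw [hq]; exact Fintype.one_lt_card
  have hd3 : d ∣ 3 := by rw [hd]; exact Nat.gcd_dvd_left _ _
  have hdq : d ∣ q - 1 := by rw [hd]; exact Nat.gcd_dvd_right _ _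
  have hd0 : 0 < d := Nat.pos_of_dvd_of_pos hd3 (by norm_num)
  have hdF : d = Nat.gcd 3 (Fintype.card F - 1) := by rw [hd, hq]
  have hq2 : q ^ 2 - 1 = (q + 1) * (q - 1) := by
    have := Nat.sq_sub_sq q 1
    rwa [one_pow] at this
  have hdM : d ∣ q ^ 2 + q + 1 := by
    have h1 : q ^ 2 + q + 1 = (q - 1) * (q + 2) + 3 := by
      obtain ⟨t, rfl⟩ := Nat.exists_eq_add_of_lt hq1
      have : 1 + t + 1 - 1 = t + 1 := by omega
      rw [this]; ring
    rw [h1]
    exact dvd_add (hdq.mul_right _) hd3
  have hq3 : q ^ 3 - 1 = (q ^ 2 + q + 1) * (q - 1) := by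
    obtain ⟨t, rfl⟩ := Nat.exists_eq_add_of_lt hq1
    have h1 : 1 + t + 1 - 1 = t + 1 := by omega
    have h2 : (1 + t + 1) ^ 3 = ((1 + t + 1) ^ 2 + (1 + t + 1) + 1) * (t + 1) + 1 := by ring
    rw [h1, h2, Nat.add_sub_cancel]
  rcases h with h | h | h | h | ⟨h2, h⟩
  · obtain ⟨E, i1, i2, i3, hE, u, hu⟩ := exists_field_unit (F := F) (d := 3) (N := q ^ 3 - 1) (by norm_num)
      (by rw [hq3]; exact mul_ne_zero (by positivity) (by omega)) (by rw [hq])
    haveI : FiniteDimensional F E := Module.Finite.of_finite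
    obtain ⟨φ, hφ⟩ := H17.exists_unitsHom_gl hE
    have h2 : orderOf (φ u ^ (q - 1)) = q ^ 2 + q + 1 := by
      rw [orderOf_pow_of_dvd (by omega) (by rw [orderOf_injective _ hφ, hu, hq3]; exact Dvd.intro_left _ rfl), orderOf_injective _ hφ, hu, hq3,
        Nat.mul_div_cancel _ (by omega)]
    have h3 : (Matrix.GeneralLinearGroup.det (φ u ^ (q - 1))) = 1 := by
      rw [map_pow]
      have := pow_card_eq_one' (x := Matrix.GeneralLinearGroup.det (φ u))
      rwa [Nat.card_units, Nat.card_eq_fintype_card, ← hq] at this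
    have h4 : φ u ^ (q - 1) ∈ (Matrix.SpecialLinearGroup.toGL : Matrix.SpecialLinearGroup (Fin 3) F →* GL (Fin 3) F).range := by
      rw [H5.range_toGL, MonoidHom.mem_ker]; exact h3
    obtain ⟨x, hx⟩ := h4
    have hxo : orderOf x = q ^ 2 + q + 1 := by
      rw [← orderOf_injective _ (Matrix.SpecialLinearGroup.toGL_injective (n := Fin 3) (R := F)) x, hx, h2]
    exact orders_of_sl (by norm_num) hdF (by positivity) hxo hdM h
  · obtain ⟨E, i1, i2, i3, hE, u, hu⟩ := exists_field_unit (F := F) (d := 2) (N := q ^ 2 - 1) (by norm_num)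
      (by rw [hq2]; exact mul_ne_zero (by positivity) (by omega)) (by rw [hq])
    haveI : FiniteDimensional F E := Module.Finite.of_finite
    obtain ⟨φ, hφ⟩ := H17.exists_unitsHom_gl hE
    obtain ⟨x, hx⟩ := exists_sl_succ (φ u) (N := q ^ 2 - 1) (by rw [orderOf_injective _ hφ, hu])
    exact orders_of_sl (by norm_num) hdF (by rw [hq2]; exact Nat.mul_pos (by omega) (by omega)) hx (by rw [hq2]; exact hdq.mul_left _) h
  · obtain ⟨u, hu⟩ := exists_unit' (F := F) (N := q - 1) (by rw [hq])
    let x : Matrix.SpecialLinearGroup (Fin 3) F := ⟨Matrix.diagonal ![(u : F), ((u⁻¹ : Fˣ) : F), 1], by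
      rw [Matrix.det_diagonal, Fin.prod_univ_three]
      show (u : F) * ((u⁻¹ : Fˣ) : F) * 1 = 1
      simp⟩
    apply orders_div (g := (QuotientGroup.mk x : Matrix.ProjectiveSpecialLinearGroup (Fin 3) F)) (N := q - 1) _ h
    have h2 : (QuotientGroup.mk x : Matrix.ProjectiveSpecialLinearGroup (Fin 3) F) ^ (orderOf (QuotientGroup.mk x : Matrix.ProjectiveSpecialLinearGroup (Fin 3) F)) = 1 := pow_orderOf_eq_one _
    rw [mk_pow_eq_one_iff] at h2
    obtain ⟨c, hc, hcz⟩ := Matrix.SpecialLinearGroup.mem_center_iff.1 h2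
    rw [Matrix.SpecialLinearGroup.coe_pow] at hcz
    have h3 : Matrix.scalar (Fin 3) c = (Matrix.diagonal ![(u : F), ((u⁻¹ : Fˣ) : F), 1]) ^ _ := hcz
    rw [Matrix.diagonal_pow, Matrix.scalar_apply] at h3
    have h4 := Matrix.diagonal_injective h3
    have h5 : c = (u : F) ^ (orderOf (QuotientGroup.mk x : Matrix.ProjectiveSpecialLinearGroup (Fin 3) F)) := congrFun h4 0
    have h6 : c = (1 : F) ^ (orderOf (QuotientGroup.mk x : Matrix.ProjectiveSpecialLinearGroup (Fin 3) F)) := congrFun h4 2
    rw [one_pow] at h6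
    rw [← hu]
    apply orderOf_dvd_of_pow_eq_one
    apply Units.ext
    rw [Units.val_pow_eq_pow_val, ← h5, h6, Units.val_one]
  · haveI := dual_fd (F := F)
    haveI : CharP (DualNumber F) p := charP_of_injective_algebraMap (algebraMap F (DualNumber F)).injective p
    obtain ⟨t, ht⟩ : ∃ t : (DualNumber F)ˣ, orderOf t = p := ⟨oneAdd DualNumber.eps DualNumber.eps_mul_eps, orderOf_oneAdd _ dual_eps_ne⟩
    obtain ⟨u, hu⟩ := exists_unit' (F := F) (N := q - 1) (by rw [hq])
    obtain ⟨u', hu'⟩ : ∃ u' : (DualNumber F)ˣ, orderOf u' = q - 1 := by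
      refine ⟨Units.map (algebraMap F (DualNumber F) : F →* DualNumber F) u, ?_⟩
      have hf : Function.Injective (Units.map (algebraMap F (DualNumber F) : F →* DualNumber F)) := Units.map_injective (algebraMap F (DualNumber F)).injective
      exact (orderOf_injective _ hf u).trans hu
    have hpq : p.Coprime (q - 1) := by
      rw [Nat.Prime.coprime_iff_not_dvd hp]
      intro h
      obtain ⟨e, _, he⟩ := FiniteField.card F p
      have h5 : p ∣ q := by rw [hq, he]; exact dvd_pow_self p e.ne_zero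
      have h6 : p ∣ 1 := by
        have := Nat.dvd_sub h5 h
        rwa [Nat.sub_sub_self (by omega)] at this
      exact hp.one_lt.ne' (Nat.dvd_one.1 h6)
    obtain ⟨φ, hφ⟩ := H17.exists_unitsHom_gl (dual_fin (F := F))
    obtain ⟨x, hx⟩ := exists_sl_succ (φ (t * u')) (N := p * (q - 1)) (by
      rw [orderOf_injective _ hφ, (Commute.all t u').orderOf_mul_eq_mul_orderOf_of_coprime (by rw [ht, hu']; exact hpq), ht, hu'])
    exact orders_of_sl (by norm_num) hdF (Nat.mul_pos hp.pos (by omega)) hx (hdq.mul_left _) h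
  · subst h2
    have hN2 : (Matrix.single 0 1 1 + Matrix.single 1 2 1 : Matrix (Fin 3) (Fin 3) F) ^ 2 = Matrix.single 0 2 1 := by
      rw [pow_two, add_mul, mul_add, mul_add]
      simp
    have hN4 : (Matrix.single 0 1 1 + Matrix.single 1 2 1 : Matrix (Fin 3) (Fin 3) F) ^ 4 = 0 := by
      rw [show 4 = 2 * 2 from rfl, pow_mul, hN2, pow_two]
      simp
    have hcom : Commute (1 : Matrix (Fin 3) (Fin 3) F) (Matrix.single 0 1 1 + Matrix.single 1 2 1) := Commute.one_left _
    let x : Matrix.SpecialLinearGroup (Fin 3) F := ⟨1 + (Matrix.single 0 1 1 + Matrix.single 1 2 1), by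
      rw [Matrix.det_fin_three]
      simp [Matrix.one_apply, Matrix.single_apply]⟩
    have hx4 : x ^ 4 = 1 := by
      apply Subtype.ext
      rw [Matrix.SpecialLinearGroup.coe_pow, Matrix.SpecialLinearGroup.coe_one]
      show (1 + (Matrix.single 0 1 1 + Matrix.single 1 2 1) : Matrix (Fin 3) (Fin 3) F) ^ 4 = 1
      have := add_pow_char_pow_of_commute (p := 2) (n := 2) (h := hcom)
      rw [show 2 ^ 2 = 4 from rfl, hN4, one_pow, add_zero] at this
      exact this
    have hx2 : x ^ 2 ≠ 1 := by
      intro h0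
      have h1 := congrArg (fun y : Matrix.SpecialLinearGroup (Fin 3) F => (y : Matrix (Fin 3) (Fin 3) F)) h0
      simp only [Matrix.SpecialLinearGroup.coe_pow, Matrix.SpecialLinearGroup.coe_one] at h1
      have h3 : (1 + (Matrix.single 0 1 1 + Matrix.single 1 2 1) : Matrix (Fin 3) (Fin 3) F) ^ 2 = 1 := h1
      rw [add_pow_char_of_commute 2 hcom, one_pow, hN2] at h3
      have h4 := congrFun (congrFun h3 0) 2
      simp at h4
    have hxo : orderOf x = 4 := by
      have h1 : orderOf x ∣ 2 ^ 2 := orderOf_dvd_of_pow_eq_one hx4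
      obtain ⟨k, hk, hk'⟩ := (Nat.dvd_prime_pow Nat.prime_two).1 h1
      interval_cases k
      · exfalso; apply hx2; rw [← orderOf_dvd_iff_pow_eq_one, hk']; norm_num
      · exfalso; apply hx2; rw [← orderOf_dvd_iff_pow_eq_one, hk']; norm_num
      · exact hk'
    apply orders_div (g := (QuotientGroup.mk x : Matrix.ProjectiveSpecialLinearGroup (Fin 3) F)) (N := 4) _ h
    have h2 : (QuotientGroup.mk x : Matrix.ProjectiveSpecialLinearGroup (Fin 3) F) ^ (orderOf (QuotientGroup.mk x : Matrix.ProjectiveSpecialLinearGroup (Fin 3) F)) = 1 := pow_orderOf_eq_one _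
    rw [mk_pow_eq_one_iff] at h2
    have h3 := center_pow_gcd (by norm_num) h2
    rw [← hdF, ← pow_mul] at h3
    have h4 := orderOf_dvd_of_pow_eq_one h3
    rw [hxo] at h4
    have hcop : Nat.Coprime 4 d := by
      rcases (Nat.dvd_prime Nat.prime_three).1 hd3 with h | h
      · rw [h]; norm_num
      · rw [h]; norm_num
    exact hcop.dvd_of_dvd_mul_right h4

end a

end Cfsg.Agent.H16.SpecL3
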