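import Mathlib
import Cfsg.Agent.H16.SLGen

set_option autoImplicit false
set_option linter.all false

/-! Vector transvections contained in a subgroup of `SL(ι, F)`, and generation lemmas. -/

namespace Cfsg.Agent.H16

open Matrix

variable {ι : Type*} [Fintype ι] [DecidableEq ι] {F : Type*} [Field F]

/-- the transvection `1 + a φᵀ` lies in `H` -/
def InT (H : Subgroup (SpecialLinearGroup ι F)) (a φ : ι → F) : Prop :=
  φ ⬝ᵥ a = 0 ∧ ∃ g ∈ H, (g : Matrix ι ι F) = 1 + vecMulVec a φ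

variable {H : Subgroup (SpecialLinearGroup ι F)}

lemma tv_det (a φ : ι → F) (h : φ ⬝ᵥ a = 0) : (1 + vecMulVec a φ).det = 1 := by
  rw [vecMulVec_eq Unit, det_one_add_replicateCol_mul_replicateRow, h, add_zero]

def tv (a φ : ι → F) (h : φ ⬝ᵥ a = 0) : SpecialLinearGroup ι F := ⟨1 + vecMulVec a φ, tv_det a φ h⟩

lemma tv_coe (a φ : ι → F) (h : φ ⬝ᵥ a = 0) : ((tv a φ h : SpecialLinearGroup ι F) : Matrix ι ι F) = 1 + vecMulVec a φ := rfl

lemma InT.conj {a φ : ι → F} (h : InT H a φ) {g : SpecialLinearGroup ι F} (hg : g ∈ H) {φ' : ι → F}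
    (hφ : φ' ᵥ* (g : Matrix ι ι F) = φ) : InT H ((g : Matrix ι ι F) *ᵥ a) φ' := by
  obtain ⟨h0, t, ht, hte⟩ := h
  refine ⟨?_, g * t * g⁻¹, H.mul_mem (H.mul_mem hg ht) (H.inv_mem hg), ?_⟩
  · rw [dotProduct_mulVec, hφ, h0]
  · have e : g * t * g⁻¹ = tv ((g : Matrix ι ι F) *ᵥ a) φ' (by rw [dotProduct_mulVec, hφ, h0]) := by
      rw [mul_inv_eq_iff_eq_mul]
      apply sl_ext
      rw [Matrix.SpecialLinearGroup.coe_mul, Matrix.SpecialLinearGroup.coe_mul, hte, tv_coe, Matrix.mul_add, Matrix.mul_one, Matrix.add_mul, Matrix.one_mul,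
        mul_vecMulVec, vecMulVec_mul, hφ]
    rw [e, tv_coe]

lemma InT.conj_inv {a φ : ι → F} {g : SpecialLinearGroup ι F} (hg : g ∈ H) (h : InT H ((g : Matrix ι ι F) *ᵥ a) φ) : InT H a (φ ᵥ* (g : Matrix ι ι F)) := by
  have h1 := h.conj (H.inv_mem hg) (φ' := φ ᵥ* (g : Matrix ι ι F)) (by
    rw [vecMul_vecMul, ← Matrix.SpecialLinearGroup.coe_mul, mul_inv_cancel, Matrix.SpecialLinearGroup.coe_one, vecMul_one])
  rwa [mulVec_mulVec, ← Matrix.SpecialLinearGroup.coe_mul, inv_mul_cancel, Matrix.SpecialLinearGroup.coe_one, one_mulVec] at h1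

lemma InT.zero_left (φ : ι → F) : InT H 0 φ := ⟨by simp, 1, H.one_mem, by ext i j; simp [vecMulVec_apply]⟩

lemma InT.add_left {a b φ : ι → F} (h : InT H a φ) (h' : InT H b φ) : InT H (a + b) φ := by
  obtain ⟨h0, t, ht, hte⟩ := h
  obtain ⟨h0', t', ht', hte'⟩ := h'
  refine ⟨by rw [dotProduct_add, h0, h0', add_zero], t * t', H.mul_mem ht ht', ?_⟩
  rw [Matrix.SpecialLinearGroup.coe_mul, hte, hte', Matrix.mul_add, Matrix.mul_one, Matrix.add_mul, Matrix.one_mul, vecMulVec_mul_vecMulVec, h0', zero_smul, vecMulVec_zero, add_zero,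
    add_vecMulVec, add_assoc]

lemma InT.add_right {a φ ψ : ι → F} (h : InT H a φ) (h' : InT H a ψ) : InT H a (φ + ψ) := by
  obtain ⟨h0, t, ht, hte⟩ := h
  obtain ⟨h0', t', ht', hte'⟩ := h'
  refine ⟨by rw [add_dotProduct, h0, h0', add_zero], t * t', H.mul_mem ht ht', ?_⟩
  rw [Matrix.SpecialLinearGroup.coe_mul, hte, hte', Matrix.mul_add, Matrix.mul_one, Matrix.add_mul, Matrix.one_mul, vecMulVec_mul_vecMulVec, h0, zero_smul, vecMulVec_zero, add_zero,
    vecMulVec_add, add_assoc]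

lemma InT.neg_left {a φ : ι → F} (h : InT H a φ) : InT H (-a) φ := by
  obtain ⟨h0, t, ht, hte⟩ := h
  refine ⟨by rw [dotProduct_neg, h0, neg_zero], t⁻¹, H.inv_mem ht, ?_⟩
  have e : t⁻¹ = tv (-a) φ (by rw [dotProduct_neg, h0, neg_zero]) := by
    rw [inv_eq_iff_mul_eq_one]
    apply sl_ext
    rw [Matrix.SpecialLinearGroup.coe_mul, hte, tv_coe, Matrix.mul_add, Matrix.mul_one, Matrix.add_mul, Matrix.one_mul, vecMulVec_mul_vecMulVec, dotProduct_neg, h0, neg_zero, zero_smul, vecMulVec_zero, add_zero,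
      add_assoc, ← add_vecMulVec, add_neg_cancel, zero_vecMulVec, add_zero]
    rfl
  rw [e, tv_coe]

lemma InT.sub_left {a b φ : ι → F} (h : InT H a φ) (h' : InT H b φ) : InT H (a - b) φ := by
  rw [sub_eq_add_neg]; exact h.add_left h'.neg_left

lemma InT.neg_right {a φ : ι → F} (h : InT H a φ) : InT H a (-φ) := by
  have := h.neg_left
  obtain ⟨h0, t, ht, hte⟩ := this
  refine ⟨by rw [neg_dotProduct, h.1, neg_zero], t, ht, ?_⟩
  rw [hte, neg_vecMulVec, vecMulVec_neg]

lemma InT.sub_right {a φ ψ : ι → F} (h : InT H a φ) (h' : InT H a ψ) : InT H a (φ - ψ) := by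
  rw [sub_eq_add_neg]; exact h.add_right h'.neg_right

lemma InT.mem {a φ : ι → F} (h : InT H a φ) {g : SpecialLinearGroup ι F} (hg : (g : Matrix ι ι F) = 1 + vecMulVec a φ) : g ∈ H := by
  obtain ⟨h0, t, ht, hte⟩ := h
  have : g = t := sl_ext (hg.trans hte.symm)
  rw [this]; exact ht

lemma InT.of_mem {a φ : ι → F} {g : SpecialLinearGroup ι F} (h : g ∈ H) (h0 : φ ⬝ᵥ a = 0) (hg : (g : Matrix ι ι F) = 1 + vecMulVec a φ) : InT H a φ :=
  ⟨h0, g, h, hg⟩

lemma one_add_mulVec (a φ b : ι → F) : (1 + vecMulVec a φ) *ᵥ b = b + (φ ⬝ᵥ b) • a := by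
  rw [add_mulVec, one_mulVec, vecMulVec_mulVec]
  ext i; simp [mul_comm]

lemma vecMul_one_add (a φ ψ : ι → F) : ψ ᵥ* (1 + vecMulVec a φ) = ψ + (ψ ⬝ᵥ a) • φ := by
  rw [vecMul_add, vecMul_one, vecMul_vecMulVec]

/-- commutator of two transvections -/
lemma InT.comm {a φ b ψ : ι → F} (h : InT H a φ) (h' : InT H b ψ) (h0 : ψ ⬝ᵥ a = 0) : InT H ((φ ⬝ᵥ b) • a) ψ := by
  obtain ⟨h1, t, ht, hte⟩ := h
  have h2 := h'.conj ht (φ' := ψ) (by rw [hte, vecMul_one_add, h0, zero_smul, add_zero])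
  rw [hte, one_add_mulVec] at h2
  have h3 := h2.sub_left h'
  rwa [add_sub_cancel_left] at h3

/-- elementary root element membership -/
def Rt (H : Subgroup (SpecialLinearGroup ι F)) (i j : ι) (c : F) : Prop := InT H (Pi.single i c) (Pi.single j 1)

lemma Rt.comm {i j k : ι} {c d : F} (h : Rt H i j c) (h' : Rt H j k d) (hik : i ≠ k) : Rt H i k (c * d) := by
  have := InT.comm h h' (by rw [single_dotProduct, one_mul, Pi.single_eq_of_ne hik.symm])
  rw [single_dotProduct, Pi.single_eq_same, one_mul] at this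
  unfold Rt
  convert this using 1
  rw [← Pi.single_smul, smul_eq_mul, mul_comm]

lemma Rt.neg {i j : ι} {c : F} (h : Rt H i j c) : Rt H i j (-c) := by
  have := InT.neg_left h
  unfold Rt
  rw [Pi.single_neg]; exact this

lemma Rt.add {i j : ι} {c d : F} (h : Rt H i j c) (h' : Rt H i j d) : Rt H i j (c + d) := by
  have := InT.add_left h h'
  unfold Rt
  rw [Pi.single_add]; exact this

lemma Rt.mem {i j : ι} (hij : i ≠ j) {c : F} (h : Rt H i j c) : SpecialLinearGroup.transvection hij c ∈ H := by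
  apply InT.mem h
  rw [Matrix.SpecialLinearGroup.transvection_coe]
  congr 1
  ext k l
  rw [vecMulVec_apply, single_apply]
  by_cases h1 : i = k
  · subst h1
    by_cases h2 : j = l
    · subst h2; simp
    · rw [Pi.single_eq_of_ne (Ne.symm h2), if_neg (fun h => h2 h.2), mul_zero]
  · rw [Pi.single_eq_of_ne (Ne.symm h1), if_neg (fun h => h1 h.1), zero_mul]

lemma Rt.of_mem {i j : ι} (hij : i ≠ j) {c : F} (h : SpecialLinearGroup.transvection hij c ∈ H) : Rt H i j c := by
  refine InT.of_mem h (by rw [single_dotProduct, one_mul, Pi.single_eq_of_ne hij.symm]) ?_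
  rw [Matrix.SpecialLinearGroup.transvection_coe]
  congr 1
  ext k l
  rw [vecMulVec_apply, single_apply]
  by_cases h1 : i = k
  · subst h1
    by_cases h2 : j = l
    · subst h2; simp
    · rw [Pi.single_eq_of_ne (Ne.symm h2), if_neg (fun h => h2 h.2), mul_zero]
  · rw [Pi.single_eq_of_ne (Ne.symm h1), if_neg (fun h => h1 h.1), zero_mul]

lemma exists_third (h3 : 3 ≤ Fintype.card ι) (i j : ι) : ∃ k, k ≠ i ∧ k ≠ j := by
  by_contra hcon
  push Not at hcon
  have : (Finset.univ : Finset ι) ⊆ {i, j} := by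
    intro k _
    rw [Finset.mem_insert, Finset.mem_singleton]
    by_cases h : k = i
    · exact Or.inl h
    · exact Or.inr (hcon k h)
  have h2 := Finset.card_le_card this
  rw [Finset.card_univ] at h2
  have h4 := Finset.card_le_two (a := i) (b := j)
  omega

/-- all root elements over the prime ring and one root element with a generator of `Fˣ` -/
theorem eq_top_of_gen (h3 : 3 ≤ Fintype.card ι) (h1 : ∀ i j : ι, i ≠ j → Rt H i j 1) {γ : F} (hγ : ∀ s : F, s ≠ 0 → ∃ k : ℕ, 1 ≤ k ∧ s = γ ^ k)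
    {i0 j0 : ι} (hij0 : i0 ≠ j0) (h0 : Rt H i0 j0 γ) : H = ⊤ := by
  have hrow : ∀ i, i ≠ j0 → Rt H i j0 γ := by
    intro i hi
    by_cases h : i = i0
    · rw [h]; exact h0
    · have := (h1 i i0 h).comm h0 hi
      rwa [one_mul] at this
  have hall : ∀ i j, i ≠ j → Rt H i j γ := by
    intro i j hij
    by_cases hj : j = j0
    · rw [hj]; exact hrow i (hj ▸ hij)
    · by_cases hi : i = j0
      · -- i = j0: go through a third index
        obtain ⟨k, hk1, hk2⟩ := exists_third h3 i j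
        -- Rt k j γ then Rt i k 1
        have hkj : Rt H k j γ := by
          have := (hrow k (hi ▸ hk1)).comm (h1 j0 j (Ne.symm hj)) hk2
          rwa [mul_one] at this
        have := (h1 i k (Ne.symm hk1)).comm hkj hij
        rwa [one_mul] at this
      · have := (hrow i hi).comm (h1 j0 j (Ne.symm hj)) hij
        rwa [mul_one] at this
  have hpow : ∀ k : ℕ, 1 ≤ k → ∀ i j, i ≠ j → Rt H i j (γ ^ k) := by
    intro k hk
    induction k, hk using Nat.le_induction with
    | base => intro i j hij; rw [pow_one]; exact hall i j hij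
    | succ k hk ih =>
      intro i j hij
      obtain ⟨l, hl1, hl2⟩ := exists_third h3 i j
      have := (ih i l (Ne.symm hl1)).comm (hall l j hl2) hij
      rwa [← pow_succ] at this
  apply eq_top_of_transvection_mem
  intro i j hij c
  by_cases hc : c = 0
  · subst hc
    have : SpecialLinearGroup.transvection hij (0 : F) = 1 := by
      apply sl_ext
      rw [Matrix.SpecialLinearGroup.transvection_coe, Matrix.SpecialLinearGroup.coe_one]
      ext k l
      simp
    rw [this]; exact H.one_mem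
  · obtain ⟨k, hk, rfl⟩ := hγ c hc
    exact (hpow k hk i j hij).mem hij

lemma exists_gen (F : Type*) [Field F] [Finite F] : ∃ γ : F, γ ≠ 0 ∧ ∀ s : F, s ≠ 0 → ∃ k : ℕ, 1 ≤ k ∧ s = γ ^ k := by
  obtain ⟨g, hg⟩ := IsCyclic.exists_generator (α := Fˣ)
  refine ⟨(g : F), g.ne_zero, fun s hs => ?_⟩
  have h1 := hg (Units.mk0 s hs)
  rw [← mem_powers_iff_mem_zpowers] at h1
  obtain ⟨k, hk⟩ := h1
  have h2 : s = (g : F) ^ k := by
    have := congrArg (Units.val) hk
    simpa using this.symm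
  refine ⟨k + orderOf g, ?_, ?_⟩
  · have := orderOf_pos g; omega
  · rw [pow_add, h2]
    have : (g : F) ^ orderOf g = 1 := by
      rw [← Units.val_pow_eq_pow_val, pow_orderOf_eq_one, Units.val_one]
    rw [this, mul_one]

end Cfsg.Agent.H16
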